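import Groth.Prelude.Def_Adeq
import Mathlib

/-!
# Kernels in module-valued functors from pointwise data; unpacking adequacy
-/

set_option autoImplicit false

universe u

open CategoryTheory Limits

namespace Groth.Agent.Lib.Helper92.MVFKernel

theorem pointwise_exact_gen {C₀ : Type*} [Category C₀] {R : C₀ᵒᵖ ⥤ RingCat.{u}}
    (S : ShortComplex (PresheafOfModules.{u+1} R)) (hS : S.Exact) (X : C₀ᵒᵖ) (y : S.X₂.obj X)
    (hy : S.g.app X y = 0) : ∃ x : S.X₁.obj X, S.f.app X x = y := by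
  have h1 : (S.map (PresheafOfModules.evaluation.{u+1} R X)).Exact := hS.map _
  rw [ShortComplex.moduleCat_exact_iff] at h1
  exact h1 y hy

theorem pointwise_comp_zero {C₀ : Type*} [Category C₀] {R : C₀ᵒᵖ ⥤ RingCat.{u}}
    {F G H : PresheafOfModules.{u+1} R} (θ : F ⟶ G) (ψ : G ⟶ H) (w : θ ≫ ψ = 0) (X : C₀ᵒᵖ)
    (x : F.obj X) : ψ.app X (θ.app X x) = 0 := by
  have h0 : θ.app X ≫ ψ.app X = 0 := by
    rw [← PresheafOfModules.comp_app, w]
    rfl
  have := congrArg (fun φ => φ.hom x) h0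
  simpa using this

/-- Lemma K: a morphism which is pointwise a kernel is a kernel. -/
theorem nonempty_iso_kernel {C₀ : Type*} [Category C₀] {R : C₀ᵒᵖ ⥤ RingCat.{u}}
    {F G H : PresheafOfModules.{u+1} R} (θ : F ⟶ G) (ψ : G ⟶ H)
    (hinj : ∀ X, Function.Injective (θ.app X))
    (hzero : ∀ X (x : F.obj X), ψ.app X (θ.app X x) = 0)
    (hex : ∀ X (y : G.obj X), ψ.app X y = 0 → ∃ x : F.obj X, θ.app X x = y) :
    Nonempty (F ≅ kernel ψ) := by
  have w : θ ≫ ψ = 0 := by
    ext X x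
    exact hzero X x
  have hmonoθ : Mono θ := PresheafOfModules.mono_of_injective (fun X => hinj X)
  let l : F ⟶ kernel ψ := kernel.lift ψ θ w
  have hl : l ≫ kernel.ι ψ = θ := kernel.lift_ι ψ θ w
  have hmono : Mono l := mono_of_mono_fac hl
  have hepi : Epi l := by
    apply PresheafOfModules.epi_of_surjective
    intro X k
    have hk0 : ψ.app X ((kernel.ι ψ).app X k) = 0 :=
      pointwise_comp_zero (kernel.ι ψ) ψ (kernel.condition ψ) X k
    obtain ⟨x, hx⟩ := hex X _ hk0
    refine ⟨x, ?_⟩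
    apply PresheafOfModules.injective_of_mono (kernel.ι ψ) X
    have h2 : (kernel.ι ψ).app X (l.app X x) = θ.app X x :=
      congrArg (fun φ => (φ.app X) x) hl
    exact h2.trans hx
  have : IsIso l := isIso_of_mono_of_epi l
  exact ⟨asIso l⟩

/-- Lemma E: unpacking an isomorphism with a kernel into pointwise data. -/
theorem exists_pointwise_of_iso_kernel {C₀ : Type*} [Category C₀] {R : C₀ᵒᵖ ⥤ RingCat.{u}}
    {F G H : PresheafOfModules.{u+1} R} (ψ : G ⟶ H) (e : F ≅ kernel ψ) :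
    ∃ θ : F ⟶ G, (∀ X, Function.Injective (θ.app X)) ∧
      (∀ X (x : F.obj X), ψ.app X (θ.app X x) = 0) ∧
      (∀ X (y : G.obj X), ψ.app X y = 0 → ∃ x : F.obj X, θ.app X x = y) := by
  let θn : F ⟶ G := e.hom ≫ kernel.ι ψ
  have hθmono : Mono θn := inferInstance
  have hθzero : θn ≫ ψ = 0 := by
    simp only [θn, Category.assoc, kernel.condition, comp_zero]
  refine ⟨θn, fun X => PresheafOfModules.injective_of_mono θn X,
    fun X x => pointwise_comp_zero θn ψ hθzero X x, ?_⟩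
  intro X y hy
  have hS : (ShortComplex.mk (kernel.ι ψ) ψ (kernel.condition ψ)).Exact :=
    ShortComplex.exact_of_f_is_kernel _ (kernelIsKernel ψ)
  obtain ⟨k, hk⟩ := pointwise_exact_gen _ hS X y hy
  refine ⟨e.inv.app X k, ?_⟩
  have h1 : e.inv ≫ θn = kernel.ι ψ := by simp [θn]
  have hk' : (kernel.ι ψ).app X k = y := hk
  have h2 : θn.app X (e.inv.app X k) = (kernel.ι ψ).app X k :=
    congrArg (fun φ => (φ.app X) k) h1
  exact h2.trans hk'

end Groth.Agent.Lib.Helper92.MVFKernel
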