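import Groth.Prelude.Def_Adeq
import Mathlib
import Groth.Agent.Lib.Helper92.MVFKernel

/-!
# Linearly adequate functors: maps out of them into `underline M` extend (Stacks 46.3.5)
-/

set_option autoImplicit false

universe u

open CategoryTheory Limits TensorProduct

namespace Groth.Agent.Lib.Helper92.LinAdeq

noncomputable section

section Poly

variable {A : Type u} [CommRing A] {m n : ℕ} (T : Fin m → Fin n → A)

/-- the linear form attached to a row -/
def linForm (j : Fin m) : MvPolynomial (Fin n) A :=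
  ∑ i, MvPolynomial.C (T j i) * MvPolynomial.X i

/-- the ideal of linear relations -/
def relI : Ideal (MvPolynomial (Fin n) A) := Ideal.span (Set.range (linForm T))

/-- the universal algebra with a solution of the linear system -/
abbrev Cq : Type u := MvPolynomial (Fin n) A ⧸ relI T

def mkq : MvPolynomial (Fin n) A →ₐ[A] Cq T := Ideal.Quotient.mkₐ A (relI T)

def xb (i : Fin n) : Cq T := mkq T (MvPolynomial.X i)

theorem mkq_surj : Function.Surjective (mkq T) := Ideal.Quotient.mkₐ_surjective A (relI T)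

theorem rel (j : Fin m) : ∑ i, T j i • xb T i = 0 := by
  have h1 : mkq T (linForm T j) = 0 := by
    change Ideal.Quotient.mk (relI T) (linForm T j) = 0
    exact Ideal.Quotient.eq_zero_iff_mem.mpr (Ideal.subset_span ⟨j, rfl⟩)
  rw [linForm, map_sum] at h1
  refine Eq.trans ?_ h1
  refine Finset.sum_congr rfl fun i _ => ?_
  rw [xb, MvPolynomial.C_mul', map_smul]

section Lift

variable {B : Type u} [CommRing B] [Algebra A B]

theorem lift_aux (c : Fin n → B) (hc : ∀ j, ∑ i, T j i • c i = 0) :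
    ∀ p ∈ relI T, (MvPolynomial.aeval c : MvPolynomial (Fin n) A →ₐ[A] B) p = 0 := by
  have hle : relI T ≤ RingHom.ker (MvPolynomial.aeval c : MvPolynomial (Fin n) A →ₐ[A] B) := by
    rw [relI, Ideal.span_le]
    rintro _ ⟨j, rfl⟩
    rw [SetLike.mem_coe, RingHom.mem_ker, linForm, map_sum]
    refine Eq.trans ?_ (hc j)
    refine Finset.sum_congr rfl fun i _ => ?_
    rw [MvPolynomial.C_mul', map_smul, MvPolynomial.aeval_X]
  intro p hp
  exact RingHom.mem_ker.mp (hle hp)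

def liftHom (c : Fin n → B) (hc : ∀ j, ∑ i, T j i • c i = 0) : Cq T →ₐ[A] B :=
  Ideal.Quotient.liftₐ (relI T) (MvPolynomial.aeval c) (lift_aux T c hc)

theorem liftHom_mkq (c : Fin n → B) (hc : ∀ j, ∑ i, T j i • c i = 0)
    (p : MvPolynomial (Fin n) A) : liftHom T c hc (mkq T p) = MvPolynomial.aeval c p := rfl

theorem liftHom_xb (c : Fin n → B) (hc : ∀ j, ∑ i, T j i • c i = 0) (i : Fin n) :
    liftHom T c hc (xb T i) = c i := by
  rw [xb, liftHom_mkq, MvPolynomial.aeval_X]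

end Lift

theorem sHom_rel (j : Fin m) :
    ∑ i, T j i • (Polynomial.C (xb T i) * (Polynomial.X : Polynomial (Cq T))) = 0 := by
  have h : ∀ i, T j i • (Polynomial.C (xb T i) * (Polynomial.X : Polynomial (Cq T))) =
      Polynomial.C (T j i • xb T i) * Polynomial.X := fun i => by
    rw [← smul_mul_assoc, Polynomial.smul_C]
  simp only [h]
  rw [← Finset.sum_mul, ← map_sum, rel, map_zero, zero_mul]

/-- the grading map `x_i ↦ x_i t` -/
def sHom : Cq T →ₐ[A] Polynomial (Cq T) :=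
  liftHom T (fun i => Polynomial.C (xb T i) * Polynomial.X) (sHom_rel T)

theorem sHom_X (i : Fin n) :
    sHom T (mkq T (MvPolynomial.X i)) = Polynomial.C (xb T i) * Polynomial.X :=
  liftHom_xb T (fun i => Polynomial.C (xb T i) * Polynomial.X) (sHom_rel T) i

def ev0 : MvPolynomial (Fin n) A →ₐ[A] A := MvPolynomial.aeval (fun _ => (0 : A))

theorem ev0_X (i : Fin n) : ev0 (MvPolynomial.X i : MvPolynomial (Fin n) A) = 0 :=
  MvPolynomial.aeval_X _ i

def dd (i : Fin n) : MvPolynomial (Fin n) A →ₗ[A] A where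
  toFun p := ev0 (MvPolynomial.pderiv i p)
  map_add' p q := by rw [map_add, map_add]
  map_smul' a p := by rw [Derivation.map_smul, map_smul]; rfl

theorem dd_apply (i : Fin n) (p : MvPolynomial (Fin n) A) :
    dd i p = ev0 (MvPolynomial.pderiv i p) := rfl

theorem coeff0 (p : MvPolynomial (Fin n) A) :
    (sHom T (mkq T p)).coeff 0 = algebraMap A (Cq T) (ev0 p) := by
  induction p using MvPolynomial.induction_on with
  | C a =>
    have hC : (MvPolynomial.C a : MvPolynomial (Fin n) A) = algebraMap A _ a := rfl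
    rw [hC, AlgHom.commutes, AlgHom.commutes, AlgHom.commutes, Polynomial.algebraMap_apply,
      Polynomial.coeff_C_zero]
    try rfl
  | add p q hp hq =>
    simp only [map_add, Polynomial.coeff_add, hp, hq]
  | mul_X p j hp =>
    rw [map_mul (mkq T), map_mul (sHom T), sHom_X, ← mul_assoc, Polynomial.coeff_mul_X_zero,
      map_mul (ev0 : MvPolynomial (Fin n) A →ₐ[A] A), ev0_X, mul_zero, map_zero]

theorem coeff1 (p : MvPolynomial (Fin n) A) :
    (sHom T (mkq T p)).coeff 1 = ∑ i, dd i p • xb T i := by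
  induction p using MvPolynomial.induction_on with
  | C a =>
    have hC : (MvPolynomial.C a : MvPolynomial (Fin n) A) = algebraMap A _ a := rfl
    have h1 : ∀ i : Fin n, dd i (MvPolynomial.C a : MvPolynomial (Fin n) A) = 0 := fun i => by
      rw [dd_apply, MvPolynomial.pderiv_C, map_zero]
    simp only [h1, zero_smul, Finset.sum_const_zero]
    rw [hC, AlgHom.commutes, AlgHom.commutes, Polynomial.algebraMap_apply,
      Polynomial.coeff_C_of_ne_zero one_ne_zero]
  | add p q hp hq =>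
    simp only [map_add, Polynomial.coeff_add, hp, hq, add_smul, Finset.sum_add_distrib]
  | mul_X p j _ =>
    have hdd : ∀ i : Fin n, dd i (p * MvPolynomial.X j) = if j = i then ev0 p else 0 := by
      intro i
      rw [dd_apply, MvPolynomial.pderiv_mul, map_add, map_mul, map_mul, ev0_X, mul_zero, zero_add]
      by_cases h : j = i
      · subst h
        rw [MvPolynomial.pderiv_X_self, map_one, mul_one, if_pos rfl]
      · rw [MvPolynomial.pderiv_X_of_ne h, map_zero, mul_zero, if_neg h]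
    have h2 : (sHom T (mkq T p) * Polynomial.C (xb T j) * Polynomial.X).coeff 1 =
        (sHom T (mkq T p) * Polynomial.C (xb T j)).coeff 0 := Polynomial.coeff_mul_X _ 0
    simp only [hdd, ite_smul, zero_smul, Finset.sum_ite_eq, Finset.mem_univ, if_true]
    rw [map_mul (mkq T), map_mul (sHom T), sHom_X, ← mul_assoc, h2, Polynomial.coeff_mul_C,
      coeff0]
    exact (Algebra.smul_def _ _).symm

/-- the coefficient of `t` -/
def c1 : Polynomial (Cq T) →ₗ[A] Cq T where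
  toFun f := f.coeff 1
  map_add' f g := Polynomial.coeff_add f g 1
  map_smul' a f := Polynomial.coeff_smul a f 1

theorem c1_apply (f : Polynomial (Cq T)) : c1 T f = f.coeff 1 := rfl

variable (M : Type (u + 1)) [AddCommGroup M] [Module A M]

theorem T1 (z : Cq T ⊗[A] M) :
    (c1 T).rTensor M ((Polynomial.X : Polynomial (Cq T)) •
      ((Polynomial.CAlgHom (R := A) (A := Cq T)).toLinearMap.rTensor M z)) = z := by
  induction z using TensorProduct.induction_on with
  | zero => rw [map_zero, smul_zero, map_zero]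
  | tmul c x =>
    rw [LinearMap.rTensor_tmul, TensorProduct.smul_tmul', LinearMap.rTensor_tmul]
    congr 1
    have h := Polynomial.coeff_X_mul (Polynomial.C c) 0
    rw [Polynomial.coeff_C_zero] at h
    exact h
  | add x y hx hy => rw [map_add, smul_add, map_add, hx, hy]

theorem T2 (w : MvPolynomial (Fin n) A ⊗[A] M) :
    (c1 T).rTensor M ((sHom T).toLinearMap.rTensor M ((mkq T).toLinearMap.rTensor M w)) =
      ∑ i, xb T i ⊗ₜ[A] (TensorProduct.lid A M ((dd i).rTensor M w)) := by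
  induction w using TensorProduct.induction_on with
  | zero => simp only [map_zero, TensorProduct.tmul_zero, Finset.sum_const_zero]
  | tmul p x =>
    simp only [LinearMap.rTensor_tmul, AlgHom.toLinearMap_apply, TensorProduct.lid_tmul]
    rw [c1_apply, coeff1, TensorProduct.sum_tmul]
    exact Finset.sum_congr rfl fun i _ => TensorProduct.smul_tmul _ _ _
  | add x y hx hy =>
    simp only [map_add, hx, hy, TensorProduct.tmul_add, Finset.sum_add_distrib]

theorem baseChange_sum {B : Type u} [CommRing B] [Algebra A B]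
    {P P' : Type (u + 1)} [AddCommGroup P] [Module A P] [AddCommGroup P'] [Module A P']
    (φ₀ : P →ₗ[A] P') (b : Fin n → P) (b' : Fin m → P')
    (hT : ∀ i, φ₀ (b i) = ∑ j, T j i • b' j) (c : Fin n → B) :
    φ₀.baseChange B (∑ i, c i ⊗ₜ[A] b i) = ∑ j, (∑ i, T j i • c i) ⊗ₜ[A] b' j := by
  rw [map_sum]
  simp only [LinearMap.baseChange_tmul, hT, TensorProduct.tmul_sum, TensorProduct.sum_tmul]
  rw [Finset.sum_comm]
  refine Finset.sum_congr rfl fun j _ => Finset.sum_congr rfl fun i _ => ?_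
  exact (TensorProduct.smul_tmul _ _ _).symm

end Poly

section General

variable {A : Type u} [CommRing A]

theorem nat_apply {F : Adeq.MVF A} {M : ModuleCat.{u + 1} A}
    (θ : F ⟶ (Adeq.underline A).obj M) {B B' : Adeq.Alg A} (f : B ⟶ B')
    (ξ : F.obj (Adeq.pt B)) :
    (θ.app (Adeq.pt B') (F.map (Adeq.ptHom f) ξ) : (B' : Type u) ⊗[A] (M : Type (u + 1))) =
      f.hom.toLinearMap.rTensor M (θ.app (Adeq.pt B) ξ) :=
  PresheafOfModules.naturality_apply θ (Adeq.ptHom f) ξ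

theorem app_smul {F G : Adeq.MVF A} (θ : F ⟶ G) (B : Adeq.Alg A) (r : B)
    (x : F.obj (Adeq.pt B)) : θ.app (Adeq.pt B) (r • x) = r • θ.app (Adeq.pt B) x :=
  (θ.app (Adeq.pt B)).hom.map_smul r x

theorem nat_smul_apply {F : Adeq.MVF A} {M : ModuleCat.{u + 1} A}
    (θ : F ⟶ (Adeq.underline A).obj M) {B B' : Adeq.Alg A} (f : B ⟶ B') (r : B')
    (ξ : F.obj (Adeq.pt B)) (η : F.obj (Adeq.pt B')) (hη : η = F.map (Adeq.ptHom f) ξ) :
    (θ.app (Adeq.pt B') (r • η) : (B' : Type u) ⊗[A] (M : Type (u + 1))) =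
      r • f.hom.toLinearMap.rTensor M (θ.app (Adeq.pt B) ξ) := by
  subst hη
  exact (app_smul θ B' r _).trans
    (congrArg (fun t : (B' : Type u) ⊗[A] (M : Type (u + 1)) => r • t) (nat_apply θ f ξ))

theorem transfer_smul {F : Adeq.MVF A} {P M : ModuleCat.{u + 1} A}
    (κ : F ⟶ (Adeq.underline A).obj P) (hκ : ∀ X, Function.Injective (κ.app X))
    (φ : F ⟶ (Adeq.underline A).obj M) {B B' : Adeq.Alg A} (f₁ f₂ : B ⟶ B') (r : B')
    (ξ : F.obj (Adeq.pt B))
    (h : f₁.hom.toLinearMap.rTensor P (κ.app (Adeq.pt B) ξ) =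
      r • f₂.hom.toLinearMap.rTensor P (κ.app (Adeq.pt B) ξ)) :
    f₁.hom.toLinearMap.rTensor M (φ.app (Adeq.pt B) ξ) =
      r • f₂.hom.toLinearMap.rTensor M (φ.app (Adeq.pt B) ξ) := by
  obtain ⟨η₁, hη₁⟩ : ∃ η₁ : F.obj (Adeq.pt B'), η₁ = F.map (Adeq.ptHom f₁) ξ := ⟨_, rfl⟩
  obtain ⟨η₂, hη₂⟩ : ∃ η₂ : F.obj (Adeq.pt B'), η₂ = F.map (Adeq.ptHom f₂) ξ := ⟨_, rfl⟩
  have e1 : (κ.app (Adeq.pt B') η₁ : (B' : Type u) ⊗[A] (P : Type (u + 1))) =
      f₁.hom.toLinearMap.rTensor P (κ.app (Adeq.pt B) ξ) := by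
    rw [hη₁]; exact nat_apply κ f₁ ξ
  have e2 := nat_smul_apply κ f₂ r ξ η₂ hη₂
  have h1 : η₁ = r • η₂ := by
    apply hκ (Adeq.pt B')
    exact e1.trans (h.trans e2.symm)
  have e3 : (φ.app (Adeq.pt B') η₁ : (B' : Type u) ⊗[A] (M : Type (u + 1))) =
      f₁.hom.toLinearMap.rTensor M (φ.app (Adeq.pt B) ξ) := by
    rw [hη₁]; exact nat_apply φ f₁ ξ
  have e4 := nat_smul_apply φ f₂ r ξ η₂ hη₂
  exact e3.symm.trans ((congrArg (fun η => (φ.app (Adeq.pt B') η :
    (B' : Type u) ⊗[A] (M : Type (u + 1)))) h1).trans e4)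

theorem transfer_eq {F : Adeq.MVF A} {P M : ModuleCat.{u + 1} A}
    (κ : F ⟶ (Adeq.underline A).obj P) (hκ : ∀ X, Function.Injective (κ.app X))
    (φ : F ⟶ (Adeq.underline A).obj M) {B B' : Adeq.Alg A} (f : B ⟶ B')
    (ξ : F.obj (Adeq.pt B)) (k : F.obj (Adeq.pt B'))
    (h : f.hom.toLinearMap.rTensor P (κ.app (Adeq.pt B) ξ) = κ.app (Adeq.pt B') k) :
    (φ.app (Adeq.pt B') k : (B' : Type u) ⊗[A] (M : Type (u + 1))) =
      f.hom.toLinearMap.rTensor M (φ.app (Adeq.pt B) ξ) := by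
  obtain ⟨η, hη⟩ : ∃ η : F.obj (Adeq.pt B'), η = F.map (Adeq.ptHom f) ξ := ⟨_, rfl⟩
  have e1 : (κ.app (Adeq.pt B') η : (B' : Type u) ⊗[A] (P : Type (u + 1))) =
      f.hom.toLinearMap.rTensor P (κ.app (Adeq.pt B) ξ) := by
    rw [hη]; exact nat_apply κ f ξ
  have h1 : η = k := by
    apply hκ (Adeq.pt B')
    exact e1.trans h
  rw [← h1, hη]
  exact nat_apply φ f ξ

theorem transfer_smul' {F : Adeq.MVF A} {P M : ModuleCat.{u + 1} A}
    (κ : F ⟶ (Adeq.underline A).obj P) (hκ : ∀ X, Function.Injective (κ.app X))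
    (φ : F ⟶ (Adeq.underline A).obj M) {B B' : Type u} [CommRing B] [Algebra A B]
    [CommRing B'] [Algebra A B'] (f₁ f₂ : B →ₐ[A] B') (r : B')
    (ξ : F.obj (Adeq.pt (Adeq.algOf A B)))
    (h : f₁.toLinearMap.rTensor P (κ.app (Adeq.pt (Adeq.algOf A B)) ξ) =
      r • f₂.toLinearMap.rTensor P (κ.app (Adeq.pt (Adeq.algOf A B)) ξ)) :
    f₁.toLinearMap.rTensor M (φ.app (Adeq.pt (Adeq.algOf A B)) ξ) =
      r • f₂.toLinearMap.rTensor M (φ.app (Adeq.pt (Adeq.algOf A B)) ξ) :=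
  transfer_smul κ hκ φ (CommAlgCat.ofHom f₁) (CommAlgCat.ofHom f₂) r ξ h

theorem transfer_eq' {F : Adeq.MVF A} {P M : ModuleCat.{u + 1} A}
    (κ : F ⟶ (Adeq.underline A).obj P) (hκ : ∀ X, Function.Injective (κ.app X))
    (φ : F ⟶ (Adeq.underline A).obj M) {B₀ : Type u} [CommRing B₀] [Algebra A B₀]
    {B : Adeq.Alg A} (f : B₀ →ₐ[A] B)
    (ξ : F.obj (Adeq.pt (Adeq.algOf A B₀))) (k : F.obj (Adeq.pt B))
    (h : f.toLinearMap.rTensor P (κ.app (Adeq.pt (Adeq.algOf A B₀)) ξ) = κ.app (Adeq.pt B) k) :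
    (φ.app (Adeq.pt B) k : (B : Type u) ⊗[A] (M : Type (u + 1))) =
      f.toLinearMap.rTensor M (φ.app (Adeq.pt (Adeq.algOf A B₀)) ξ) :=
  transfer_eq κ hκ φ (CommAlgCat.ofHom f : Adeq.algOf A B₀ ⟶ B) ξ k h

end General

section Univ

variable {A : Type u} [CommRing A] {m n : ℕ} (T : Fin m → Fin n → A)
  {F : Adeq.MVF A} {P M : ModuleCat.{u + 1} A}
  (κ : F ⟶ (Adeq.underline A).obj P) (hκ : ∀ X, Function.Injective (κ.app X))
  (φ : F ⟶ (Adeq.underline A).obj M) (bP : Fin n → P)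
  (ξ : F.obj (Adeq.pt (Adeq.algOf A (Cq T))))
  (hξ : (κ.app (Adeq.pt (Adeq.algOf A (Cq T))) ξ : Cq T ⊗[A] (P : Type (u + 1))) =
    ∑ i, xb T i ⊗ₜ[A] bP i)

include hκ hξ

theorem univ_E1 :
    (sHom T).toLinearMap.rTensor M (φ.app (Adeq.pt (Adeq.algOf A (Cq T))) ξ) =
      (Polynomial.X : Polynomial (Cq T)) •
        ((Polynomial.CAlgHom (R := A) (A := Cq T)).toLinearMap.rTensor M
          (φ.app (Adeq.pt (Adeq.algOf A (Cq T))) ξ)) := by
  have h : (sHom T).toLinearMap.rTensor P (κ.app (Adeq.pt (Adeq.algOf A (Cq T))) ξ) =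
      (Polynomial.X : Polynomial (Cq T)) •
        (Polynomial.CAlgHom (R := A) (A := Cq T)).toLinearMap.rTensor P
          (κ.app (Adeq.pt (Adeq.algOf A (Cq T))) ξ) := by
    rw [hξ, map_sum, map_sum, Finset.smul_sum]
    refine Finset.sum_congr rfl fun i _ => ?_
    rw [LinearMap.rTensor_tmul, LinearMap.rTensor_tmul, TensorProduct.smul_tmul']
    congr 1
    change sHom T (mkq T (MvPolynomial.X i)) = Polynomial.X * Polynomial.C (xb T i)
    exact (sHom_X T i).trans (mul_comm (Polynomial.C (xb T i)) (Polynomial.X : Polynomial (Cq T)))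
  have key := transfer_smul' κ hκ φ (sHom T) (Polynomial.CAlgHom (R := A) (A := Cq T))
    (Polynomial.X : Polynomial (Cq T)) ξ
  have key2 := key h
  exact key2

theorem univ_decomp :
    ∃ gi : Fin n → M,
      (φ.app (Adeq.pt (Adeq.algOf A (Cq T))) ξ : Cq T ⊗[A] (M : Type (u + 1))) =
        ∑ i, xb T i ⊗ₜ[A] gi i := by
  obtain ⟨z, hz⟩ : ∃ z : Cq T ⊗[A] (M : Type (u + 1)),
      z = φ.app (Adeq.pt (Adeq.algOf A (Cq T))) ξ := ⟨_, rfl⟩
  have hE1 : (sHom T).toLinearMap.rTensor M z =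
      (Polynomial.X : Polynomial (Cq T)) •
        ((Polynomial.CAlgHom (R := A) (A := Cq T)).toLinearMap.rTensor M z) := by
    rw [hz]
    exact univ_E1 T κ hκ φ bP ξ hξ
  obtain ⟨zt, hzt⟩ := LinearMap.rTensor_surjective (M : Type (u + 1))
    (g := (mkq T).toLinearMap) (mkq_surj T) z
  have h2 : (c1 T).rTensor M ((sHom T).toLinearMap.rTensor M z) =
      ∑ i, xb T i ⊗ₜ[A] (TensorProduct.lid A M ((dd i).rTensor M zt)) := by
    rw [← hzt, T2 T M zt]
  have h3 : (c1 T).rTensor M ((sHom T).toLinearMap.rTensor M z) = z := by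
    rw [hE1]
    exact T1 T M z
  exact ⟨fun i => TensorProduct.lid A M ((dd i).rTensor M zt), hz ▸ (h3.symm.trans h2)⟩

omit hκ hξ in
theorem univ_eval (gi : Fin n → M)
    (hz : (φ.app (Adeq.pt (Adeq.algOf A (Cq T))) ξ : Cq T ⊗[A] (M : Type (u + 1))) =
      ∑ i, xb T i ⊗ₜ[A] gi i)
    (hκ : ∀ X, Function.Injective (κ.app X))
    (hξ : (κ.app (Adeq.pt (Adeq.algOf A (Cq T))) ξ : Cq T ⊗[A] (P : Type (u + 1))) =
      ∑ i, xb T i ⊗ₜ[A] bP i)
    (B : Adeq.Alg A) (k : F.obj (Adeq.pt B)) (c : Fin n → B)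
    (hrel : ∀ j, ∑ i, T j i • c i = 0)
    (hκk : (κ.app (Adeq.pt B) k : (B : Type u) ⊗[A] (P : Type (u + 1))) = ∑ i, c i ⊗ₜ[A] bP i) :
    (φ.app (Adeq.pt B) k : (B : Type u) ⊗[A] (M : Type (u + 1))) = ∑ i, c i ⊗ₜ[A] gi i := by
  have h : (liftHom T c hrel).toLinearMap.rTensor P
      (κ.app (Adeq.pt (Adeq.algOf A (Cq T))) ξ) = κ.app (Adeq.pt B) k := by
    rw [hξ, hκk, map_sum]
    refine Finset.sum_congr rfl fun i _ => ?_
    rw [LinearMap.rTensor_tmul]
    congr 1
    exact liftHom_xb T c hrel i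
  refine (transfer_eq' κ hκ φ (liftHom T c hrel) ξ k h).trans ?_
  rw [hz, map_sum]
  refine Finset.sum_congr rfl fun i _ => ?_
  rw [LinearMap.rTensor_tmul]
  congr 1
  exact liftHom_xb T c hrel i

end Univ

theorem extend (A : Type u) [CommRing A] {n m : ℕ} (P P' M : ModuleCat.{u + 1} A)
    (b : Module.Basis (Fin n) A P) (b' : Module.Basis (Fin m) A P') (φ₀ : P ⟶ P')
    (φ : kernel ((Adeq.underline A).map φ₀) ⟶ (Adeq.underline A).obj M) :
    ∃ g : P ⟶ M, kernel.ι ((Adeq.underline A).map φ₀) ≫ (Adeq.underline A).map g = φ := by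
  classical
  obtain ⟨T, hTdef⟩ : ∃ T : Fin m → Fin n → A, T = fun j i => b'.repr (φ₀.hom (b i)) j :=
    ⟨_, rfl⟩
  have hT : ∀ i, φ₀.hom (b i) = ∑ j, T j i • b' j := by
    intro i
    rw [hTdef]
    exact (b'.sum_repr _).symm
  obtain ⟨κ, hκ⟩ : ∃ κ : kernel ((Adeq.underline A).map φ₀) ⟶ (Adeq.underline A).obj P,
      κ = kernel.ι ((Adeq.underline A).map φ₀) := ⟨_, rfl⟩
  have hκw : κ ≫ (Adeq.underline A).map φ₀ = 0 := by rw [hκ]; exact kernel.condition _
  have hκinj : ∀ X, Function.Injective (κ.app X) := by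
    intro X
    rw [hκ]
    exact PresheafOfModules.injective_of_mono _ X
  have hκzero : ∀ (B : Adeq.Alg A) (k : (kernel ((Adeq.underline A).map φ₀)).obj (Adeq.pt B)),
      φ₀.hom.baseChange B (κ.app (Adeq.pt B) k) = 0 := fun B k =>
    MVFKernel.pointwise_comp_zero κ _ hκw (Adeq.pt B) k
  have hS : (ShortComplex.mk κ ((Adeq.underline A).map φ₀) hκw).Exact := by
    subst hκ
    exact ShortComplex.exact_of_f_is_kernel _ (kernelIsKernel _)
  have D1 : ∀ (B : Type u) [CommRing B] [Algebra A B] (c : Fin n → B),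
      (∀ j, ∑ i, T j i • c i = 0) →
      ∃ k : (kernel ((Adeq.underline A).map φ₀)).obj (Adeq.pt (Adeq.algOf A B)),
        (κ.app (Adeq.pt (Adeq.algOf A B)) k : B ⊗[A] (P : Type (u + 1))) =
          ∑ i, c i ⊗ₜ[A] b i := by
    intro B _ _ c hrel
    have h0 : φ₀.hom.baseChange B (∑ i, c i ⊗ₜ[A] b i) = 0 := by
      rw [baseChange_sum T φ₀.hom b b' hT c]
      refine Finset.sum_eq_zero fun j _ => ?_
      rw [hrel j, TensorProduct.zero_tmul]
    exact MVFKernel.pointwise_exact_gen _ hS (Adeq.pt (Adeq.algOf A B)) (∑ i, c i ⊗ₜ[A] b i) h0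
  have D2 : ∀ (B : Adeq.Alg A) (k : (kernel ((Adeq.underline A).map φ₀)).obj (Adeq.pt B)),
      ∃ c : Fin n → B, (∀ j, ∑ i, T j i • c i = 0) ∧
        (κ.app (Adeq.pt B) k : (B : Type u) ⊗[A] (P : Type (u + 1))) = ∑ i, c i ⊗ₜ[A] b i := by
    intro B k
    obtain ⟨y, hy⟩ : ∃ y : (B : Type u) ⊗[A] (P : Type (u + 1)), y = κ.app (Adeq.pt B) k :=
      ⟨_, rfl⟩
    have hy0 : φ₀.hom.baseChange B y = 0 := by rw [hy]; exact hκzero B k
    obtain ⟨c, hc⟩ : ∃ c : Fin n → B, y = ∑ i, c i ⊗ₜ[A] b i := by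
      refine ⟨fun i => (Algebra.TensorProduct.basis B b).repr y i, ?_⟩
      refine ((Algebra.TensorProduct.basis B b).sum_repr y).symm.trans
        (Finset.sum_congr rfl fun i _ => ?_)
      exact Algebra.TensorProduct.basis_repr_symm_apply' b _ i
    refine ⟨c, ?_, hy.symm.trans hc⟩
    intro j
    have h1 := baseChange_sum T φ₀.hom b b' hT c
    rw [← hc, hy0] at h1
    have h2 : ∀ j', (∑ i, T j' i • c i) ⊗ₜ[A] b' j' =
        (∑ i, T j' i • c i) • (Algebra.TensorProduct.basis B b') j' := fun j' =>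
      (Algebra.TensorProduct.basis_repr_symm_apply' b' _ j').symm
    simp only [h2] at h1
    have h3 := congrArg (fun v => (Algebra.TensorProduct.basis B b').repr v j) h1
    simp only [map_zero, Finsupp.coe_zero, Pi.zero_apply] at h3
    rw [Module.Basis.repr_sum_self] at h3
    exact h3.symm
  obtain ⟨ξ, hξ⟩ := D1 (Cq T) (xb T) (rel T)
  obtain ⟨gi, hgi⟩ := univ_decomp T κ hκinj φ b ξ hξ
  refine ⟨ModuleCat.ofHom (b.constr A gi), ?_⟩
  rw [← hκ]
  ext X k
  obtain ⟨B, rfl⟩ : ∃ B : Adeq.Alg A, X = Adeq.pt B := ⟨X.unop.unop, rfl⟩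
  obtain ⟨c, hrel, hκk⟩ := D2 B k
  have hL : (((Adeq.underline A).map (ModuleCat.ofHom (b.constr A gi))).app (Adeq.pt B)
      (κ.app (Adeq.pt B) k) : (B : Type u) ⊗[A] (M : Type (u + 1))) = ∑ i, c i ⊗ₜ[A] gi i := by
    have h6 : ((Adeq.underline A).map (ModuleCat.ofHom (b.constr A gi))).app (Adeq.pt B)
        (κ.app (Adeq.pt B) k) = (b.constr A gi).baseChange B (κ.app (Adeq.pt B) k) := rfl
    rw [h6, hκk, map_sum]
    refine Finset.sum_congr rfl fun i _ => ?_
    rw [LinearMap.baseChange_tmul, Module.Basis.constr_basis]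
  have hR := univ_eval T κ φ b ξ gi hgi hκinj hξ B k c hrel hκk
  exact hL.trans hR.symm

theorem extend_free (A : Type u) [CommRing A] (P P' M : ModuleCat.{u + 1} A)
    [Module.Finite A P] [Module.Free A P] [Module.Finite A P'] [Module.Free A P'] (φ₀ : P ⟶ P')
    (φ : kernel ((Adeq.underline A).map φ₀) ⟶ (Adeq.underline A).obj M) :
    ∃ g : P ⟶ M, kernel.ι ((Adeq.underline A).map φ₀) ≫ (Adeq.underline A).map g = φ := by
  classical
  exact extend A P P' M
    ((Module.Free.chooseBasis A P).reindex (Fintype.equivFin _))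
    ((Module.Free.chooseBasis A P').reindex (Fintype.equivFin _)) φ₀ φ

end

end Groth.Agent.Lib.Helper92.LinAdeq
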