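import Groth.Prelude.Def_Adeq
import Mathlib
import Groth.Agent.Lib.Helper92.MVFKernel
import Groth.Agent.Lib.Helper92.LinAdeq
import Groth.Agent.S8741

/-!
# The image of a map from an adequate functor to `underline M` is the kernel of an
`underline` map (Stacks 46.3.7, pointwise form)
-/

set_option autoImplicit false

universe u v w

open CategoryTheory Limits TensorProduct DirectSum

namespace Groth.Agent.Lib.Helper92.AdeqCoker

noncomputable section

section PM

variable {A : Type u} [CommRing A] {M M₁ N₁ : Type v} [AddCommGroup M] [Module A M]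
  [AddCommGroup M₁] [Module A M₁] [AddCommGroup N₁] [Module A N₁]
  (g : M₁ →ₗ[A] M) (uu : M₁ →ₗ[A] N₁)

abbrev Qm : Type v := (M × N₁) ⧸ LinearMap.range (g.prod uu)

def qq : M × N₁ →ₗ[A] Qm g uu := (LinearMap.range (g.prod uu)).mkQ

def qM : M →ₗ[A] Qm g uu := qq g uu ∘ₗ LinearMap.inl A M N₁

def qN : N₁ →ₗ[A] Qm g uu := qq g uu ∘ₗ LinearMap.inr A M N₁

theorem qq_prod : qq g uu ∘ₗ (g.prod uu) = 0 :=
  LinearMap.ext fun x => (Submodule.Quotient.mk_eq_zero _).mpr ⟨x, rfl⟩

theorem qM_g : qM g uu ∘ₗ g = -(qN g uu ∘ₗ uu) := by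
  rw [eq_neg_iff_add_eq_zero]
  refine LinearMap.ext fun x => ?_
  have h := LinearMap.congr_fun (qq_prod g uu) x
  have e : (LinearMap.inl A M N₁ (g x) + LinearMap.inr A M N₁ (uu x) : M × N₁) =
      (g.prod uu) x := by
    ext <;> simp
  change qq g uu (LinearMap.inl A M N₁ (g x)) + qq g uu (LinearMap.inr A M N₁ (uu x)) = 0
  rw [← map_add, e]
  exact h

variable (B : Type u) [CommRing B] [Algebra A B]

theorem bc_comp' {M N P : Type*} [AddCommGroup M] [Module A M] [AddCommGroup N] [Module A N]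
    [AddCommGroup P] [Module A P] (f₂ : M →ₗ[A] N) (f₁ : N →ₗ[A] P) (x : B ⊗[A] M) :
    f₁.baseChange B (f₂.baseChange B x) = (f₁ ∘ₗ f₂).baseChange B x := by
  rw [LinearMap.baseChange_comp]; rfl

theorem bc_exact {M N P : Type*} [AddCommGroup M] [Module A M] [AddCommGroup N] [Module A N]
    [AddCommGroup P] [Module A P] {f : M →ₗ[A] N} {g : N →ₗ[A] P}
    (hfg : Function.Exact f g) (hg : Function.Surjective g) (y : B ⊗[A] N)
    (hy : g.baseChange B y = 0) : ∃ x, f.baseChange B x = y :=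
  (lTensor_exact B hfg hg y).mp hy

theorem PM_ii' (p : B ⊗[A] M₁) :
    (qM g uu).baseChange B (g.baseChange B p) =
      -((qN g uu).baseChange B (uu.baseChange B p)) := by
  rw [bc_comp', qM_g, LinearMap.baseChange_neg, LinearMap.neg_apply, bc_comp']

theorem PM_ii (p : B ⊗[A] M₁) (hp : uu.baseChange B p = 0) :
    (qM g uu).baseChange B (g.baseChange B p) = 0 := by
  rw [PM_ii', hp, map_zero, neg_zero]

theorem PM_i (x : B ⊗[A] M) (hx : (qM g uu).baseChange B x = 0) :
    ∃ p : B ⊗[A] M₁, uu.baseChange B p = 0 ∧ g.baseChange B p = x := by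
  have h' : (qq g uu).baseChange B ((LinearMap.inl A M N₁).baseChange B x) = 0 := by
    rw [bc_comp']; exact hx
  obtain ⟨p, hp⟩ := bc_exact B (LinearMap.exact_map_mkQ_range (g.prod uu))
    (Submodule.mkQ_surjective _) _ h'
  refine ⟨p, ?_, ?_⟩
  · have h := congrArg ((LinearMap.snd A M N₁).baseChange B) hp
    rw [bc_comp', bc_comp', LinearMap.snd_prod, LinearMap.snd_comp_inl,
      LinearMap.baseChange_zero, LinearMap.zero_apply] at h
    exact h
  · have h := congrArg ((LinearMap.fst A M N₁).baseChange B) hp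
    rw [bc_comp', bc_comp', LinearMap.fst_prod, LinearMap.fst_comp_inl,
      LinearMap.baseChange_id, LinearMap.id_apply] at h
    exact h

end PM

section DS

variable {A : Type u} [CommRing A] (B : Type u) [CommRing B] [Algebra A B] {ι : Type w}
  [DecidableEq ι] (Pf : ι → Type v) [∀ i, AddCommGroup (Pf i)] [∀ i, Module A (Pf i)]
  {M : Type v} [AddCommGroup M] [Module A M] (gf : ∀ i, Pf i →ₗ[A] M)

def GoodP (p : B ⊗[A] (⨁ i, Pf i)) : Prop :=
  ∃ S : Finset ι, ∀ S' : Finset ι, S ⊆ S' →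
    (DirectSum.toModule A ι M gf).baseChange B p =
      ∑ i ∈ S', ((gf i) ∘ₗ (DirectSum.component A ι Pf i)).baseChange B p

theorem ds_sum (p : B ⊗[A] (⨁ i, Pf i)) : GoodP B Pf gf p := by
  have hzero : GoodP B Pf gf 0 :=
    ⟨∅, fun S' _ => by simp only [map_zero, Finset.sum_const_zero]⟩
  have hadd : ∀ p q : B ⊗[A] (⨁ i, Pf i), GoodP B Pf gf p → GoodP B Pf gf q →
      GoodP B Pf gf (p + q) := by
    rintro p q ⟨S₁, h₁⟩ ⟨S₂, h₂⟩
    refine ⟨S₁ ∪ S₂, fun S' hS' => ?_⟩
    rw [map_add, h₁ S' (Finset.union_subset_left hS'), h₂ S' (Finset.union_subset_right hS'),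
      ← Finset.sum_add_distrib]
    exact Finset.sum_congr rfl fun i _ => (map_add _ _ _).symm
  induction p using TensorProduct.induction_on with
  | zero => exact hzero
  | add p q hp hq => exact hadd p q hp hq
  | tmul b v =>
    induction v using DirectSum.induction_on with
    | zero => rw [TensorProduct.tmul_zero]; exact hzero
    | add v w hv hw => rw [TensorProduct.tmul_add]; exact hadd _ _ hv hw
    | of i x =>
      refine ⟨{i}, fun S' hS' => ?_⟩
      have hi : i ∈ S' := hS' (Finset.mem_singleton_self i)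
      rw [Finset.sum_eq_single i]
      · rw [LinearMap.baseChange_tmul, LinearMap.baseChange_tmul, LinearMap.comp_apply,
          ← DirectSum.lof_eq_of A, DirectSum.toModule_lof, DirectSum.component.lof_self]
      · intro j _ hj
        rw [LinearMap.baseChange_tmul, LinearMap.comp_apply]
        have h0 : DirectSum.component A ι Pf j (DirectSum.of Pf i x) = 0 :=
          DirectSum.of_eq_of_ne i j x hj
        rw [h0, map_zero, TensorProduct.tmul_zero]
      · intro h; exact absurd hi h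

end DS

section Glue

theorem image_ker_of_data (A : Type u) [CommRing A] {F : Adeq.MVF A}
    {M M₁ N₁ : ModuleCat.{u + 1} A}
    (φ : F ⟶ (Adeq.underline A).obj M) (uu : M₁ ⟶ N₁) (g : M₁ ⟶ M)
    (h1 : ∀ (B : Adeq.Alg A) (f : F.obj (Adeq.pt B)),
      ∃ p : (B : Type u) ⊗[A] (M₁ : Type (u + 1)),
        uu.hom.baseChange B p = 0 ∧ g.hom.baseChange B p = φ.app (Adeq.pt B) f)
    (h2 : ∀ (B : Adeq.Alg A) (p : (B : Type u) ⊗[A] (M₁ : Type (u + 1))),
      uu.hom.baseChange B p = 0 →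
        ∃ f : F.obj (Adeq.pt B), φ.app (Adeq.pt B) f = g.hom.baseChange B p) :
    ∃ (Q : ModuleCat.{u + 1} A) (a : M ⟶ Q),
      ∀ (B : Adeq.Alg A) (x : (B : Type u) ⊗[A] (M : Type (u + 1))),
        a.hom.baseChange B x = 0 ↔ ∃ f : F.obj (Adeq.pt B), φ.app (Adeq.pt B) f = x := by
  refine ⟨ModuleCat.of A (Qm g.hom uu.hom), ModuleCat.ofHom (qM g.hom uu.hom),
    fun B x => ⟨fun hx => ?_, ?_⟩⟩
  · obtain ⟨p, hp0, hpx⟩ := PM_i g.hom uu.hom B x hx
    obtain ⟨f, hf⟩ := h2 B p hp0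
    exact ⟨f, hf.trans hpx⟩
  · rintro ⟨f, rfl⟩
    obtain ⟨p, hp0, hpf⟩ := h1 B f
    rw [← hpf]
    exact PM_ii g.hom uu.hom B p hp0

theorem adequate_image_ker (A : Type u) [CommRing A] {F : Adeq.MVF A}
    (hF : Adeq.adequate A F) {M : ModuleCat.{u + 1} A} (φ : F ⟶ (Adeq.underline A).obj M) :
    ∃ (Q : ModuleCat.{u + 1} A) (a : M ⟶ Q),
      ∀ (B : Adeq.Alg A) (x : (B : Type u) ⊗[A] (M : Type (u + 1))),
        a.hom.baseChange B x = 0 ↔ ∃ f : F.obj (Adeq.pt B), φ.app (Adeq.pt B) f = x := by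
  classical
  obtain ⟨MF, NF, φF, ⟨e⟩⟩ := hF
  have hzero : (e.hom ≫ kernel.ι ((Adeq.underline A).map φF)) ≫ (Adeq.underline A).map φF = 0 := by
    rw [Category.assoc, kernel.condition, comp_zero]
  have key : ∀ (B : Adeq.Alg A) (ξ : F.obj (Adeq.pt B)),
      ∃ (L : Adeq.MVF A) (_ : Adeq.linAdequate A L) (f : L ⟶ F) (ℓ : L.obj (Adeq.pt B)),
        f.app (Adeq.pt B) ℓ = ξ := by
    intro B ξ
    obtain ⟨yv, hyv⟩ : ∃ yv : (B : Type u) ⊗[A] (MF : Type (u + 1)),
        yv = (e.hom ≫ kernel.ι ((Adeq.underline A).map φF)).app (Adeq.pt B) ξ := ⟨_, rfl⟩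
    have hy0 : φF.hom.baseChange B yv = 0 := by
      rw [hyv]
      exact MVFKernel.pointwise_comp_zero _ _ hzero (Adeq.pt B) ξ
    obtain ⟨ι, hι, k, bb, mm, a, yy, hysum, hφ, hrel⟩ :=
      Groth.Agent.S8741.eqn_crit φF.hom yv hy0
    exact Groth.Agent.S8741.build A F MF NF φF e B ξ ι k bb mm a yy (hyv ▸ hysum) hφ hrel
  have key2 : ∀ i : (B : Adeq.Alg A) × F.obj (Adeq.pt B),
      ∃ (P P' : ModuleCat.{u + 1} A) (T : P ⟶ P') (g : P ⟶ M),
        (∃ p : (i.1 : Type u) ⊗[A] (P : Type (u + 1)), T.hom.baseChange i.1 p = 0 ∧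
          g.hom.baseChange i.1 p = φ.app (Adeq.pt i.1) i.2) ∧
        (∀ (B' : Adeq.Alg A) (p' : (B' : Type u) ⊗[A] (P : Type (u + 1))),
          T.hom.baseChange B' p' = 0 →
          ∃ f' : F.obj (Adeq.pt B'), φ.app (Adeq.pt B') f' = g.hom.baseChange B' p') := by
    rintro ⟨B, ξ⟩
    obtain ⟨L, hL, f, ℓ, hℓ⟩ := key B ξ
    obtain ⟨P, P', T, hP1, hP2, hP3, hP4, ⟨eL⟩⟩ := hL
    have := hP1
    have := hP2
    have := hP3
    have := hP4
    obtain ⟨g, hg⟩ := LinAdeq.extend_free A P P' M T (eL.inv ≫ f ≫ φ)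
    have hgapp : ∀ (B' : Adeq.Alg A) (k : (kernel ((Adeq.underline A).map T)).obj (Adeq.pt B')),
        g.hom.baseChange B' ((kernel.ι ((Adeq.underline A).map T)).app (Adeq.pt B') k) =
          φ.app (Adeq.pt B') (f.app (Adeq.pt B') (eL.inv.app (Adeq.pt B') k)) := fun B' k =>
      congrArg (fun t => (t.app (Adeq.pt B')) k) hg
    have hSex : (ShortComplex.mk (kernel.ι ((Adeq.underline A).map T))
        ((Adeq.underline A).map T) (kernel.condition _)).Exact :=
      ShortComplex.exact_of_f_is_kernel _ (kernelIsKernel _)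
    refine ⟨P, P', T, g, ⟨(kernel.ι ((Adeq.underline A).map T)).app (Adeq.pt B)
      (eL.hom.app (Adeq.pt B) ℓ), ?_, ?_⟩, ?_⟩
    · exact MVFKernel.pointwise_comp_zero (kernel.ι ((Adeq.underline A).map T))
        ((Adeq.underline A).map T) (kernel.condition _) (Adeq.pt B) _
    · have h5 : eL.inv.app (Adeq.pt B) (eL.hom.app (Adeq.pt B) ℓ) = ℓ :=
        congrArg (fun t => (t.app (Adeq.pt B)) ℓ) eL.hom_inv_id
      change g.hom.baseChange B ((kernel.ι ((Adeq.underline A).map T)).app (Adeq.pt B)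
        (eL.hom.app (Adeq.pt B) ℓ)) = φ.app (Adeq.pt B) ξ
      rw [hgapp, h5, hℓ]
    · intro B' p' hp'
      obtain ⟨k, hk⟩ := MVFKernel.pointwise_exact_gen _ hSex (Adeq.pt B') p' hp'
      refine ⟨f.app (Adeq.pt B') (eL.inv.app (Adeq.pt B') k), ?_⟩
      rw [← hgapp]
      exact congrArg (g.hom.baseChange B') hk
  choose P P' T g ha hb using key2
  have h1 : ∀ (B : Adeq.Alg A) (f : F.obj (Adeq.pt B)),
      ∃ p : (B : Type u) ⊗[A] (⨁ i, (P i : Type (u + 1))),
        (DirectSum.lmap (fun i => (T i).hom)).baseChange B p = 0 ∧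
        (DirectSum.toModule A _ M (fun i => (g i).hom)).baseChange B p =
          φ.app (Adeq.pt B) f := by
    intro B ξ
    obtain ⟨p₀, hp0, hpg⟩ := ha ⟨B, ξ⟩
    dsimp only at p₀ hp0 hpg
    refine ⟨(DirectSum.lof A _ (fun i => (P i : Type (u + 1))) ⟨B, ξ⟩).baseChange B p₀, ?_, ?_⟩
    · have e1 : DirectSum.lmap (fun i => (T i).hom) ∘ₗ
          DirectSum.lof A _ (fun i => (P i : Type (u + 1))) ⟨B, ξ⟩ =
          DirectSum.lof A _ (fun i => (P' i : Type (u + 1))) ⟨B, ξ⟩ ∘ₗ (T ⟨B, ξ⟩).hom :=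
        LinearMap.ext fun x => by
          rw [LinearMap.comp_apply, LinearMap.comp_apply, DirectSum.lmap_lof]
      rw [bc_comp', e1, ← bc_comp', hp0, map_zero]
    · have e2 : DirectSum.toModule A _ M (fun i => (g i).hom) ∘ₗ
          DirectSum.lof A _ (fun i => (P i : Type (u + 1))) ⟨B, ξ⟩ = (g ⟨B, ξ⟩).hom :=
        LinearMap.ext fun x => by rw [LinearMap.comp_apply, DirectSum.toModule_lof]
      rw [bc_comp', e2]
      exact hpg
  have h2 : ∀ (B : Adeq.Alg A) (p : (B : Type u) ⊗[A] (⨁ i, (P i : Type (u + 1)))),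
      (DirectSum.lmap (fun i => (T i).hom)).baseChange B p = 0 →
      ∃ f : F.obj (Adeq.pt B), φ.app (Adeq.pt B) f =
        (DirectSum.toModule A _ M (fun i => (g i).hom)).baseChange B p := by
    intro B p hp
    have hcomp : ∀ i, (T i).hom.baseChange B
        ((DirectSum.component A _ (fun i => (P i : Type (u + 1))) i).baseChange B p) = 0 := by
      intro i
      have e3 : (T i).hom ∘ₗ DirectSum.component A _ (fun i => (P i : Type (u + 1))) i =
          DirectSum.component A _ (fun i => (P' i : Type (u + 1))) i ∘ₗ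
            DirectSum.lmap (fun i => (T i).hom) :=
        LinearMap.ext fun x => rfl
      rw [bc_comp', e3, ← bc_comp', hp, map_zero]
    choose fi hfi using fun i => hb i B _ (hcomp i)
    obtain ⟨S, hS⟩ := ds_sum B (fun i => (P i : Type (u + 1))) (fun i => (g i).hom) p
    refine ⟨∑ i ∈ S, fi i, ?_⟩
    rw [map_sum, hS S (Finset.Subset.refl S)]
    refine Finset.sum_congr rfl fun i _ => ?_
    rw [hfi i, bc_comp']
  exact image_ker_of_data A φ
    (M₁ := ModuleCat.of A (⨁ i, (P i : Type (u + 1))))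
    (N₁ := ModuleCat.of A (⨁ i, (P' i : Type (u + 1))))
    (ModuleCat.ofHom (DirectSum.lmap (fun i => (T i).hom)))
    (ModuleCat.ofHom (DirectSum.toModule A _ M (fun i => (g i).hom))) h1 h2

end Glue

end

end Groth.Agent.Lib.Helper92.AdeqCoker
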