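import Groth.Prelude.Def_Adeq
import Mathlib
import Groth.Agent.Lib.Helper92.MVFKernel
import Groth.Agent.Lib.Helper92.AdeqCoker

/-!
# Coproducts of adequate functors are adequate; colimits as cokernels
-/

set_option autoImplicit false

universe u

open CategoryTheory Limits TensorProduct DirectSum

namespace Groth.Agent.Lib.Helper92.AdeqColim

noncomputable section

/-- joint surjectivity of the coprojections of a coproduct of presheaves of modules -/
theorem sigma_jointly_surj {C₀ : Type*} [Category C₀] {R : C₀ᵒᵖ ⥤ RingCat.{u}}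
    {ι : Type (u + 1)} (Ff : ι → PresheafOfModules.{u + 1} R) (X : C₀ᵒᵖ) (x : (∐ Ff).obj X) :
    ∃ (S : Finset ι) (f : ∀ i, (Ff i).obj X), (∀ i, i ∉ S → f i = 0) ∧
      x = ∑ i ∈ S, (Sigma.ι Ff i).app X (f i) := by
  classical
  have hcol : IsColimit ((PresheafOfModules.evaluation R X).mapCocone
      (Cofan.mk (∐ Ff) (Sigma.ι Ff))) :=
    isColimitOfPreserves _ (coproductIsCoproduct Ff)
  obtain ⟨Nn, hNn⟩ : ∃ Nn : Submodule (R.obj X) ((∐ Ff).obj X),
      Nn = ⨆ i, LinearMap.range ((Sigma.ι Ff i).app X).hom := ⟨_, rfl⟩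
  have hq : (ModuleCat.ofHom Nn.mkQ : ((PresheafOfModules.evaluation R X).mapCocone
      (Cofan.mk (∐ Ff) (Sigma.ι Ff))).pt ⟶ ModuleCat.of (R.obj X) (((∐ Ff).obj X) ⧸ Nn)) = 0 := by
    refine hcol.hom_ext (fun j => ?_)
    obtain ⟨i⟩ := j
    refine Eq.trans (?_ : _ = (0 : _ ⟶ _)) comp_zero.symm
    ext y
    change Nn.mkQ (((Sigma.ι Ff i).app X) y) = 0
    rw [Submodule.mkQ_apply, Submodule.Quotient.mk_eq_zero, hNn]
    exact Submodule.mem_iSup_of_mem i (LinearMap.mem_range.mpr ⟨y, rfl⟩)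
  have hx : x ∈ Nn := by
    have h := congrArg (fun g => g.hom x) hq
    exact (Submodule.Quotient.mk_eq_zero Nn).mp h
  rw [hNn] at hx
  refine Submodule.iSup_induction _ (motive := fun x => ∃ (S : Finset ι)
    (f : ∀ i, (Ff i).obj X), (∀ i, i ∉ S → f i = 0) ∧
      x = ∑ i ∈ S, (Sigma.ι Ff i).app X (f i)) hx ?_ ?_ ?_
  · rintro i _ ⟨y, rfl⟩
    refine ⟨{i}, Function.update (fun j => (0 : (Ff j).obj X)) i y, ?_, ?_⟩
    · intro j hj
      rw [Function.update_of_ne (fun h => hj (Finset.mem_singleton.mpr h))]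
    · rw [Finset.sum_singleton, Function.update_self]
  · exact ⟨∅, fun _ => 0, fun _ _ => rfl, by rw [Finset.sum_empty]⟩
  · rintro x y ⟨S₁, f₁, h₁, rfl⟩ ⟨S₂, f₂, h₂, rfl⟩
    refine ⟨S₁ ∪ S₂, f₁ + f₂, ?_, ?_⟩
    · intro i hi
      rw [Finset.mem_union, not_or] at hi
      rw [Pi.add_apply, h₁ i hi.1, h₂ i hi.2, add_zero]
    · have e₁ : ∑ i ∈ S₁, (Sigma.ι Ff i).app X (f₁ i) =
          ∑ i ∈ S₁ ∪ S₂, (Sigma.ι Ff i).app X (f₁ i) :=
        Finset.sum_subset Finset.subset_union_left (fun i _ hi => by rw [h₁ i hi, map_zero])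
      have e₂ : ∑ i ∈ S₂, (Sigma.ι Ff i).app X (f₂ i) =
          ∑ i ∈ S₁ ∪ S₂, (Sigma.ι Ff i).app X (f₂ i) :=
        Finset.sum_subset Finset.subset_union_right (fun i _ hi => by rw [h₂ i hi, map_zero])
      rw [e₁, e₂, ← Finset.sum_add_distrib]
      exact Finset.sum_congr rfl fun i _ => (map_add _ _ _).symm

theorem adequate_sigma (A : Type u) [CommRing A] {ι : Type (u + 1)} (Ff : ι → Adeq.MVF A)
    (h : ∀ i, Adeq.adequate A (Ff i)) : Adeq.adequate A (∐ Ff) := by
  classical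
  choose M N φ he using h
  have hE : ∀ i, ∃ θ : Ff i ⟶ (Adeq.underline A).obj (M i),
      (∀ X, Function.Injective (θ.app X)) ∧
      (∀ X (x : (Ff i).obj X), ((Adeq.underline A).map (φ i)).app X (θ.app X x) = 0) ∧
      (∀ X (y : ((Adeq.underline A).obj (M i)).obj X), ((Adeq.underline A).map (φ i)).app X y = 0 →
        ∃ x : (Ff i).obj X, θ.app X x = y) := by
    intro i
    obtain ⟨e⟩ := he i
    exact MVFKernel.exists_pointwise_of_iso_kernel ((Adeq.underline A).map (φ i)) e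
  choose θ hinj hzero hex using hE
  obtain ⟨Φ, hΦ⟩ : ∃ Φ : (⨁ i, (M i : Type (u + 1))) →ₗ[A] (⨁ i, (N i : Type (u + 1))),
      Φ = DirectSum.lmap (fun i => (φ i).hom) := ⟨_, rfl⟩
  obtain ⟨Θ, hΘ⟩ : ∃ Θ : (∐ Ff) ⟶
      (Adeq.underline A).obj (ModuleCat.of A (⨁ i, (M i : Type (u + 1)))),
      ∀ i, Sigma.ι Ff i ≫ Θ = θ i ≫ (Adeq.underline A).map
        (ModuleCat.ofHom (DirectSum.lof A ι (fun i => (M i : Type (u + 1))) i)) :=
    ⟨Sigma.desc (fun i => θ i ≫ (Adeq.underline A).map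
      (ModuleCat.ofHom (DirectSum.lof A ι (fun i => (M i : Type (u + 1))) i))),
      fun i => Sigma.ι_desc _ _⟩
  have hΘapp : ∀ (i : ι) (B : Adeq.Alg A) (z : (Ff i).obj (Adeq.pt B)),
      (Θ.app (Adeq.pt B) ((Sigma.ι Ff i).app (Adeq.pt B) z) :
        (B : Type u) ⊗[A] (⨁ i, (M i : Type (u + 1)))) =
        (DirectSum.lof A ι (fun i => (M i : Type (u + 1))) i).baseChange B
          ((θ i).app (Adeq.pt B) z) := fun i B z =>
    congrArg (fun t => (t.app (Adeq.pt B)) z) (hΘ i)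
  have hΘsum : ∀ (B : Adeq.Alg A) (S : Finset ι) (f : ∀ i, (Ff i).obj (Adeq.pt B)),
      (Θ.app (Adeq.pt B) (∑ i ∈ S, (Sigma.ι Ff i).app (Adeq.pt B) (f i)) :
        (B : Type u) ⊗[A] (⨁ i, (M i : Type (u + 1)))) =
        ∑ i ∈ S, (DirectSum.lof A ι (fun i => (M i : Type (u + 1))) i).baseChange B
          ((θ i).app (Adeq.pt B) (f i)) := by
    intro B S f
    rw [map_sum]
    exact Finset.sum_congr rfl fun i _ => hΘapp i B (f i)
  have e1 : ∀ i, DirectSum.lmap (fun i => (φ i).hom) ∘ₗ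
      DirectSum.lof A ι (fun i => (M i : Type (u + 1))) i =
      DirectSum.lof A ι (fun i => (N i : Type (u + 1))) i ∘ₗ (φ i).hom := fun i =>
    LinearMap.ext fun x => by
      rw [LinearMap.comp_apply, LinearMap.comp_apply, DirectSum.lmap_lof]
  have e3 : ∀ i, (φ i).hom ∘ₗ DirectSum.component A ι (fun i => (M i : Type (u + 1))) i =
      DirectSum.component A ι (fun i => (N i : Type (u + 1))) i ∘ₗ
        DirectSum.lmap (fun i => (φ i).hom) := fun i =>
    LinearMap.ext fun x => rfl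
  have ecs : ∀ j, DirectSum.component A ι (fun i => (M i : Type (u + 1))) j ∘ₗ
      DirectSum.lof A ι (fun i => (M i : Type (u + 1))) j = LinearMap.id := fun j =>
    LinearMap.ext fun z => by
      rw [LinearMap.comp_apply, DirectSum.component.lof_self]
      rfl
  have ecn : ∀ i j, i ≠ j → DirectSum.component A ι (fun i => (M i : Type (u + 1))) j ∘ₗ
      DirectSum.lof A ι (fun i => (M i : Type (u + 1))) i = 0 := fun i j hij =>
    LinearMap.ext fun z => by
      change (DirectSum.of (fun i => (M i : Type (u + 1))) i z) j = 0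
      exact DirectSum.of_eq_of_ne (β := fun i => (M i : Type (u + 1))) i j z hij.symm
  refine ⟨ModuleCat.of A (⨁ i, (M i : Type (u + 1))), ModuleCat.of A (⨁ i, (N i : Type (u + 1))),
    ModuleCat.ofHom Φ, ?_⟩
  refine MVFKernel.nonempty_iso_kernel Θ _ ?_ ?_ ?_
  · intro X
    obtain ⟨B, rfl⟩ : ∃ B : Adeq.Alg A, X = Adeq.pt B := ⟨X.unop.unop, rfl⟩
    intro x₁ x₂ hx12
    have hsub : Θ.app (Adeq.pt B) (x₁ - x₂) = 0 := by rw [map_sub, hx12, sub_self]
    obtain ⟨S, f, hf0, hx⟩ := sigma_jointly_surj Ff (Adeq.pt B) (x₁ - x₂)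
    have hΘx := hΘsum B S f
    rw [← hx] at hΘx
    have hfz : ∀ j ∈ S, f j = 0 := by
      intro j hj
      apply hinj j (Adeq.pt B)
      have hsum0 : (∑ i ∈ S, (DirectSum.lof A ι (fun i => (M i : Type (u + 1))) i).baseChange B
          ((θ i).app (Adeq.pt B) (f i)) : (B : Type u) ⊗[A] (⨁ i, (M i : Type (u + 1)))) = 0 :=
        hΘx.symm.trans hsub
      have h := congrArg ((DirectSum.component A ι (fun i => (M i : Type (u + 1))) j).baseChange B)
        hsum0
      rw [map_sum, map_zero, Finset.sum_eq_single j] at h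
      · rw [AdeqCoker.bc_comp', ecs j, LinearMap.baseChange_id, LinearMap.id_apply] at h
        exact h.trans (map_zero _).symm
      · intro i _ hij
        rw [AdeqCoker.bc_comp', ecn i j hij, LinearMap.baseChange_zero, LinearMap.zero_apply]
      · intro hj'
        exact absurd hj hj'
    have h0 : x₁ - x₂ = 0 := by
      rw [hx]
      exact Finset.sum_eq_zero fun i hi => by rw [hfz i hi, map_zero]
    exact sub_eq_zero.mp h0
  · intro X x
    obtain ⟨B, rfl⟩ : ∃ B : Adeq.Alg A, X = Adeq.pt B := ⟨X.unop.unop, rfl⟩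
    obtain ⟨S, f, hf0, hx⟩ := sigma_jointly_surj Ff (Adeq.pt B) x
    have hΘx := hΘsum B S f
    rw [← hx] at hΘx
    change Φ.baseChange B (Θ.app (Adeq.pt B) x) = 0
    rw [hΘx, map_sum]
    refine Finset.sum_eq_zero fun i _ => ?_
    have hz : (φ i).hom.baseChange B ((θ i).app (Adeq.pt B) (f i)) = 0 :=
      hzero i (Adeq.pt B) (f i)
    rw [AdeqCoker.bc_comp', hΦ, e1 i, ← AdeqCoker.bc_comp', hz, map_zero]
  · intro X y hy
    obtain ⟨B, rfl⟩ : ∃ B : Adeq.Alg A, X = Adeq.pt B := ⟨X.unop.unop, rfl⟩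
    have hy' : (DirectSum.lmap (fun i => (φ i).hom)).baseChange B y = 0 := by
      rw [← hΦ]; exact hy
    have hcomp : ∀ i, (φ i).hom.baseChange B
        ((DirectSum.component A ι (fun i => (M i : Type (u + 1))) i).baseChange B y) = 0 := by
      intro i
      rw [AdeqCoker.bc_comp', e3 i, ← AdeqCoker.bc_comp', hy', map_zero]
    choose fi hfi using fun i => hex i (Adeq.pt B) _ (hcomp i)
    obtain ⟨S, hS⟩ := AdeqCoker.ds_sum B (fun i => (M i : Type (u + 1)))
      (fun i => DirectSum.lof A ι (fun i => (M i : Type (u + 1))) i) y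
    have hid : DirectSum.toModule A ι (⨁ i, (M i : Type (u + 1)))
        (fun i => DirectSum.lof A ι (fun i => (M i : Type (u + 1))) i) = LinearMap.id := by
      apply DirectSum.linearMap_ext
      intro i
      refine LinearMap.ext fun z => ?_
      rw [LinearMap.comp_apply, DirectSum.toModule_lof]
      rfl
    have h := hS S (Finset.Subset.refl S)
    rw [hid, LinearMap.baseChange_id, LinearMap.id_apply] at h
    refine ⟨∑ i ∈ S, (Sigma.ι Ff i).app (Adeq.pt B) (fi i), ?_⟩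
    refine (hΘsum B S fi).trans (Eq.trans ?_ h.symm)
    refine Finset.sum_congr rfl fun i _ => ?_
    rw [hfi i, AdeqCoker.bc_comp']

section Colim

variable {A : Type u} [CommRing A] {J : Type (u + 1)} [SmallCategory J] (D : J ⥤ Adeq.MVF A)

abbrev E₁ : Adeq.MVF A := ∐ fun f : (Σ p : J × J, p.1 ⟶ p.2) => D.obj f.1.1

abbrev E₀ : Adeq.MVF A := ∐ fun j => D.obj j

def sMap : E₁ D ⟶ E₀ D := Sigma.desc fun f => D.map f.2 ≫ Sigma.ι (fun j => D.obj j) f.1.2

def tMap : E₁ D ⟶ E₀ D := Sigma.desc fun f => Sigma.ι (fun j => D.obj j) f.1.1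

theorem hs (f : Σ p : J × J, p.1 ⟶ p.2) :
    Sigma.ι (fun f : (Σ p : J × J, p.1 ⟶ p.2) => D.obj f.1.1) f ≫ sMap D =
      D.map f.2 ≫ Sigma.ι (fun j => D.obj j) f.1.2 := Sigma.ι_desc _ _

theorem ht (f : Σ p : J × J, p.1 ⟶ p.2) :
    Sigma.ι (fun f : (Σ p : J × J, p.1 ⟶ p.2) => D.obj f.1.1) f ≫ tMap D =
      Sigma.ι (fun j => D.obj j) f.1.1 := Sigma.ι_desc _ _

theorem hq {j j' : J} (g : j ⟶ j') :
    D.map g ≫ Sigma.ι (fun j => D.obj j) j' ≫ cokernel.π (sMap D - tMap D) =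
      Sigma.ι (fun j => D.obj j) j ≫ cokernel.π (sMap D - tMap D) := by
  have h1 : Sigma.ι (fun f : (Σ p : J × J, p.1 ⟶ p.2) => D.obj f.1.1) ⟨(j, j'), g⟩ ≫
      (sMap D - tMap D) =
      D.map g ≫ Sigma.ι (fun j => D.obj j) j' - Sigma.ι (fun j => D.obj j) j := by
    rw [Preadditive.comp_sub, hs, ht]
  have h2 : (D.map g ≫ Sigma.ι (fun j => D.obj j) j' - Sigma.ι (fun j => D.obj j) j) ≫
      cokernel.π (sMap D - tMap D) = 0 := by
    rw [← h1, Category.assoc, cokernel.condition, comp_zero]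
  rw [Preadditive.sub_comp, sub_eq_zero, Category.assoc] at h2
  exact h2

def cokerCocone : Cocone D where
  pt := cokernel (sMap D - tMap D)
  ι :=
    { app := fun j => Sigma.ι (fun j => D.obj j) j ≫ cokernel.π (sMap D - tMap D)
      naturality := fun j j' g => (hq D g).trans (Category.comp_id _).symm }

theorem desc_w (Z : Cocone D) :
    (sMap D - tMap D) ≫ Sigma.desc (fun j => (Z.ι.app j : D.obj j ⟶ Z.pt)) = 0 := by
  apply Sigma.hom_ext
  intro f
  rw [comp_zero, ← Category.assoc, Preadditive.comp_sub, hs, ht, Preadditive.sub_comp,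
    Category.assoc, Sigma.ι_desc, Sigma.ι_desc, Z.w, sub_self]

def cokerCoconeIsColimit : IsColimit (cokerCocone D) where
  desc Z := cokernel.desc (sMap D - tMap D)
    (Sigma.desc (fun j => (Z.ι.app j : D.obj j ⟶ Z.pt))) (desc_w D Z)
  fac Z j := by
    change (Sigma.ι (fun j => D.obj j) j ≫ cokernel.π (sMap D - tMap D)) ≫
      cokernel.desc (sMap D - tMap D) _ _ = Z.ι.app j
    rw [Category.assoc, cokernel.π_desc, Sigma.ι_desc]
  uniq Z m hm := by
    apply (cancel_epi (cokernel.π (sMap D - tMap D))).mp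
    rw [cokernel.π_desc]
    apply Sigma.hom_ext
    intro j
    rw [Sigma.ι_desc, ← Category.assoc]
    exact hm j

theorem colimit_iso_coker : Nonempty (colimit D ≅ cokernel (sMap D - tMap D)) :=
  ⟨(colimit.isColimit D).coconePointUniqueUpToIso (cokerCoconeIsColimit D)⟩

theorem adequate_colimit (hD : ∀ j, Adeq.adequate A (D.obj j))
    (hcoker : ∀ {F G : Adeq.MVF A} (φ : F ⟶ G), Adeq.adequate A F → Adeq.adequate A G →
      Adeq.adequate A (cokernel φ)) : Adeq.adequate A (colimit D) := by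
  obtain ⟨e⟩ := colimit_iso_coker D
  have h1 : Adeq.adequate A (E₁ D) := adequate_sigma A _ (fun f => hD f.1.1)
  have h0 : Adeq.adequate A (E₀ D) := adequate_sigma A _ hD
  exact (Adeq.adequate A).prop_of_iso e.symm (hcoker (sMap D - tMap D) h1 h0)

end Colim

end

end Groth.Agent.Lib.Helper92.AdeqColim
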