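import Groth.Prelude.Def_Adeq
import Mathlib
import Groth.Agent.Lib.Helper92.MVFKernel
import Groth.Agent.Lib.Helper92.LinAdeq

/-!
# Extensions of a linearly adequate functor by `underline M` split (Stacks 46.3.15)
-/

set_option autoImplicit false

universe u

open CategoryTheory Limits TensorProduct

namespace Groth.Agent.Lib.Helper92.AdeqSplit

open Groth.Agent.Lib.Helper92.LinAdeq

noncomputable section

section PolyTensor

variable (A : Type u) [CommRing A] (B : Type u) [CommRing B] [Algebra A B]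
  (M : Type (u + 1)) [AddCommGroup M] [Module A M]

/-- the coefficient of `t`, as an `A`-linear map -/
def coef1 : Polynomial B →ₗ[A] B where
  toFun f := f.coeff 1
  map_add' f g := Polynomial.coeff_add f g 1
  map_smul' a f := Polynomial.coeff_smul a f 1

theorem coef1_apply (f : Polynomial B) : coef1 A B f = f.coeff 1 := rfl

theorem coef1_X_smul (z : B ⊗[A] M) :
    (coef1 A B).rTensor M ((Polynomial.X : Polynomial B) •
      ((Polynomial.CAlgHom (R := A) (A := B)).toLinearMap.rTensor M z)) = z := by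
  induction z using TensorProduct.induction_on with
  | zero => rw [map_zero, smul_zero, map_zero]
  | tmul c x =>
    rw [LinearMap.rTensor_tmul, TensorProduct.smul_tmul', LinearMap.rTensor_tmul]
    congr 1
    have h := Polynomial.coeff_X_mul (Polynomial.C c) 0
    rw [Polynomial.coeff_C_zero] at h
    exact h
  | add x y hx hy => rw [map_add, smul_add, map_add, hx, hy]

theorem coef1_map {B' : Type u} [CommRing B'] [Algebra A B'] (f : B →ₐ[A] B')
    (w : Polynomial B ⊗[A] M) :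
    (coef1 A B').rTensor M ((Polynomial.mapAlgHom f).toLinearMap.rTensor M w) =
      f.toLinearMap.rTensor M ((coef1 A B).rTensor M w) := by
  induction w using TensorProduct.induction_on with
  | zero => simp only [map_zero]
  | tmul p x =>
    simp only [LinearMap.rTensor_tmul, AlgHom.toLinearMap_apply]
    congr 1
    rw [coef1_apply, coef1_apply, Polynomial.coe_mapAlgHom, Polynomial.coeff_map]
    rfl
  | add x y hx hy => simp only [map_add, hx, hy]

/-- `t ↦ s t` -/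
def tauAlg : Polynomial B →ₐ[A] Polynomial (Polynomial B) :=
  (Polynomial.aeval
    (Polynomial.C Polynomial.X * Polynomial.X : Polynomial (Polynomial B))).restrictScalars A

theorem tauAlg_apply (p : Polynomial B) : tauAlg A B p =
    Polynomial.aeval (Polynomial.C Polynomial.X * Polynomial.X : Polynomial (Polynomial B)) p :=
  rfl

theorem tauAlg_C (b : B) : tauAlg A B (Polynomial.C b) = Polynomial.C (Polynomial.C b) := by
  rw [tauAlg_apply, Polynomial.aeval_C, Polynomial.algebraMap_apply, ← Polynomial.C_eq_algebraMap]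

theorem tauAlg_X : tauAlg A B Polynomial.X = Polynomial.C Polynomial.X * Polynomial.X := by
  rw [tauAlg_apply, Polynomial.aeval_X]

theorem tauAlg_coeff1 (p : Polynomial B) :
    (tauAlg A B p).coeff 1 = Polynomial.X * Polynomial.C (p.coeff 1) := by
  induction p using Polynomial.induction_on' with
  | add p q hp hq =>
    rw [map_add, Polynomial.coeff_add, hp, hq, Polynomial.coeff_add, map_add, mul_add]
  | monomial k a =>
    have h1 : tauAlg A B (Polynomial.monomial k a) =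
        Polynomial.C (Polynomial.C a * Polynomial.X ^ k) * Polynomial.X ^ k := by
      rw [tauAlg_apply, Polynomial.aeval_monomial, mul_pow, ← Polynomial.C_pow,
        Polynomial.algebraMap_apply, ← Polynomial.C_eq_algebraMap, ← mul_assoc,
        ← Polynomial.C_mul]
    rw [h1, Polynomial.coeff_C_mul_X_pow, Polynomial.coeff_monomial]
    by_cases hk : k = 1
    · subst hk
      rw [if_pos rfl, if_pos rfl, pow_one, mul_comm]
    · rw [if_neg (Ne.symm hk), if_neg hk, map_zero, mul_zero]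

theorem coef1_tau (w : Polynomial B ⊗[A] M) :
    (coef1 A (Polynomial B)).rTensor M ((tauAlg A B).toLinearMap.rTensor M w) =
      (Polynomial.X : Polynomial B) •
        ((Polynomial.CAlgHom (R := A) (A := B)).toLinearMap.rTensor M
          ((coef1 A B).rTensor M w)) := by
  induction w using TensorProduct.induction_on with
  | zero => simp only [map_zero, smul_zero]
  | tmul p x =>
    simp only [LinearMap.rTensor_tmul, AlgHom.toLinearMap_apply, TensorProduct.smul_tmul']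
    congr 1
    rw [coef1_apply, coef1_apply, tauAlg_coeff1]
    rfl
  | add x y hx hy => simp only [map_add, smul_add, hx, hy]

theorem TI_of_CI (s : B →ₐ[A] Polynomial B) (w : Polynomial B ⊗[A] M)
    (h : (Polynomial.mapAlgHom s).toLinearMap.rTensor M w - (tauAlg A B).toLinearMap.rTensor M w
      + (Polynomial.X : Polynomial (Polynomial B)) •
        ((Polynomial.CAlgHom (R := A) (A := Polynomial B)).toLinearMap.rTensor M w) = 0) :
    w + s.toLinearMap.rTensor M ((coef1 A B).rTensor M w) -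
      (Polynomial.X : Polynomial B) •
        ((Polynomial.CAlgHom (R := A) (A := B)).toLinearMap.rTensor M
          ((coef1 A B).rTensor M w)) = 0 := by
  have h' := congrArg ((coef1 A (Polynomial B)).rTensor M) h
  rw [map_add, map_sub, coef1_map, coef1_tau, coef1_X_smul, map_zero] at h'
  rw [← h']
  abel

end PolyTensor

section MP

variable {A : Type u} [CommRing A]

/-- transition map of a module-valued functor -/
def mp (F : Adeq.MVF A) {B B' : Adeq.Alg A} (f : B ⟶ B') (x : F.obj (Adeq.pt B)) :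
    F.obj (Adeq.pt B') := F.map (Adeq.ptHom f) x

theorem mp_comp (F : Adeq.MVF A) {B B' B'' : Adeq.Alg A} (f : B ⟶ B') (g : B' ⟶ B'')
    (x : F.obj (Adeq.pt B)) : mp F g (mp F f x) = mp F (f ≫ g) x :=
  (F.map_comp_apply (Adeq.ptHom f) (Adeq.ptHom g) x).symm

theorem mp_smul (F : Adeq.MVF A) {B B' : Adeq.Alg A} (f : B ⟶ B') (r : (B : Type u))
    (x : F.obj (Adeq.pt B)) : mp F f (r • x) = (f.hom r : (B' : Type u)) • mp F f x :=
  PresheafOfModules.map_smul F (Adeq.ptHom f) r x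

theorem mp_add (F : Adeq.MVF A) {B B' : Adeq.Alg A} (f : B ⟶ B') (x y : F.obj (Adeq.pt B)) :
    mp F f (x + y) = mp F f x + mp F f y := (F.map (Adeq.ptHom f)).hom.map_add x y

theorem mp_sub (F : Adeq.MVF A) {B B' : Adeq.Alg A} (f : B ⟶ B') (x y : F.obj (Adeq.pt B)) :
    mp F f (x - y) = mp F f x - mp F f y := (F.map (Adeq.ptHom f)).hom.map_sub x y

theorem mp_zero (F : Adeq.MVF A) {B B' : Adeq.Alg A} (f : B ⟶ B') :
    mp F f (0 : F.obj (Adeq.pt B)) = 0 := (F.map (Adeq.ptHom f)).hom.map_zero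

theorem mp_nat {F F' : Adeq.MVF A} (θ : F ⟶ F') {B B' : Adeq.Alg A} (f : B ⟶ B')
    (x : F.obj (Adeq.pt B)) :
    θ.app (Adeq.pt B') (mp F f x) = mp F' f (θ.app (Adeq.pt B) x) :=
  PresheafOfModules.naturality_apply θ (Adeq.ptHom f) x

theorem app_add {F F' : Adeq.MVF A} (θ : F ⟶ F') (B : Adeq.Alg A) (x y : F.obj (Adeq.pt B)) :
    θ.app (Adeq.pt B) (x + y) = θ.app (Adeq.pt B) x + θ.app (Adeq.pt B) y :=
  (θ.app (Adeq.pt B)).hom.map_add x y

theorem app_sub {F F' : Adeq.MVF A} (θ : F ⟶ F') (B : Adeq.Alg A) (x y : F.obj (Adeq.pt B)) :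
    θ.app (Adeq.pt B) (x - y) = θ.app (Adeq.pt B) x - θ.app (Adeq.pt B) y :=
  (θ.app (Adeq.pt B)).hom.map_sub x y

theorem app_zero {F F' : Adeq.MVF A} (θ : F ⟶ F') (B : Adeq.Alg A) :
    θ.app (Adeq.pt B) (0 : F.obj (Adeq.pt B)) = 0 :=
  (θ.app (Adeq.pt B)).hom.map_zero

/-- the polynomial algebra over an algebra -/
abbrev PB (B : Adeq.Alg A) : Adeq.Alg A := Adeq.algOf A (Polynomial (B : Type u))

/-- the variable, as a scalar of `PB B` -/
def Xs (B : Adeq.Alg A) : (PB B : Type u) := (Polynomial.X : Polynomial (B : Type u))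

def incH (B : Adeq.Alg A) : B ⟶ PB B :=
  CommAlgCat.ofHom (Polynomial.CAlgHom (R := A) (A := (B : Type u)))

def polyMap {B B' : Adeq.Alg A} (f : B ⟶ B') : PB B ⟶ PB B' :=
  CommAlgCat.ofHom (Polynomial.mapAlgHom f.hom)

def evH (B : Adeq.Alg A) (r : (B : Type u)) : PB B ⟶ B :=
  CommAlgCat.ofHom ((Polynomial.aeval r :
    Polynomial (B : Type u) →ₐ[(B : Type u)] (B : Type u)).restrictScalars A)

def tauH (B : Adeq.Alg A) : PB B ⟶ PB (PB B) := CommAlgCat.ofHom (tauAlg A (B : Type u))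

theorem incH_polyMap {B B' : Adeq.Alg A} (f : B ⟶ B') :
    incH B ≫ polyMap f = f ≫ incH B' := by
  apply CommAlgCat.hom_ext
  apply AlgHom.ext
  intro b
  show Polynomial.mapAlgHom f.hom (Polynomial.C b) = Polynomial.C (f.hom b)
  rw [Polynomial.coe_mapAlgHom, Polynomial.map_C]
  rfl

theorem polyMap_X {B B' : Adeq.Alg A} (f : B ⟶ B') : (polyMap f).hom (Xs B) = Xs B' := by
  show Polynomial.mapAlgHom f.hom Polynomial.X = Polynomial.X
  rw [Polynomial.coe_mapAlgHom, Polynomial.map_X]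

theorem evH_X (B : Adeq.Alg A) (r : (B : Type u)) : (evH B r).hom (Xs B) = r := by
  show Polynomial.aeval r Polynomial.X = r
  exact Polynomial.aeval_X r

theorem incH_evH (B : Adeq.Alg A) (r : (B : Type u)) : incH B ≫ evH B r = 𝟙 B := by
  apply CommAlgCat.hom_ext
  apply AlgHom.ext
  intro b
  show Polynomial.aeval r (Polynomial.C b) = b
  rw [Polynomial.aeval_C]
  rfl

theorem tauH_X (B : Adeq.Alg A) :
    (tauH B).hom (Xs B) = (incH (PB B)).hom (Xs B) * Xs (PB B) := by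
  show tauAlg A (B : Type u) Polynomial.X = Polynomial.C Polynomial.X * Polynomial.X
  exact tauAlg_X A (B : Type u)

theorem incH_tauH (B : Adeq.Alg A) : incH B ≫ tauH B = incH B ≫ incH (PB B) := by
  apply CommAlgCat.hom_ext
  apply AlgHom.ext
  intro b
  show tauAlg A (B : Type u) (Polynomial.C b) = Polynomial.C (Polynomial.C b)
  exact tauAlg_C A (B : Type u) b

theorem hom_scale (F : Adeq.MVF A) {CB B : Adeq.Alg A} (sH : CB ⟶ PB CB)
    (x : F.obj (Adeq.pt CB)) (hx : mp F sH x = Xs CB • mp F (incH CB) x)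
    (f : CB ⟶ B) (r : (B : Type u)) :
    mp F (sH ≫ polyMap f ≫ evH B r) x = r • mp F f x := by
  have hcomp : incH CB ≫ polyMap f ≫ evH B r = f := by
    rw [← Category.assoc, incH_polyMap, Category.assoc, incH_evH, Category.comp_id]
  have hX : (polyMap f ≫ evH B r).hom (Xs CB) = r := by
    rw [CommAlgCat.hom_comp, AlgHom.comp_apply, polyMap_X, evH_X]
  rw [← mp_comp F sH (polyMap f ≫ evH B r) x, hx, mp_smul, hX,
    mp_comp F (incH CB) (polyMap f ≫ evH B r) x, hcomp]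

theorem exists_homog_lift {G L : Adeq.MVF A} {M : ModuleCat.{u + 1} A}
    (i : (Adeq.underline A).obj M ⟶ G) (π : G ⟶ L)
    (hi : ∀ X, Function.Injective (i.app X))
    (hzero : ∀ X (w : ((Adeq.underline A).obj M).obj X), π.app X (i.app X w) = 0)
    (hex : ∀ X (y : G.obj X), π.app X y = 0 →
      ∃ w : ((Adeq.underline A).obj M).obj X, i.app X w = y)
    (CB : Adeq.Alg A) (sH : CB ⟶ PB CB) (hco : sH ≫ polyMap sH = sH ≫ tauH CB)
    (ξ : L.obj (Adeq.pt CB)) (hξ : mp L sH ξ = Xs CB • mp L (incH CB) ξ)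
    (η₀ : G.obj (Adeq.pt CB)) (hη₀ : π.app (Adeq.pt CB) η₀ = ξ) :
    ∃ η₁ : G.obj (Adeq.pt CB), π.app (Adeq.pt CB) η₁ = ξ ∧
      mp G sH η₁ = Xs CB • mp G (incH CB) η₁ := by
  obtain ⟨a, ha⟩ : ∃ a : G.obj (Adeq.pt (PB CB)), a = mp G sH η₀ := ⟨_, rfl⟩
  obtain ⟨b, hb⟩ : ∃ b : G.obj (Adeq.pt (PB CB)), b = mp G (incH CB) η₀ := ⟨_, rfl⟩
  obtain ⟨δ, hδ⟩ : ∃ δ : G.obj (Adeq.pt (PB CB)), δ = a - Xs CB • b := ⟨_, rfl⟩
  have hπδ : π.app (Adeq.pt (PB CB)) δ = 0 := by
    rw [hδ, app_sub, LinAdeq.app_smul, ha, hb, mp_nat, mp_nat, hη₀, hξ, sub_self]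
  obtain ⟨w, hw⟩ := hex (Adeq.pt (PB CB)) δ hπδ
  -- the cocycle identity in `G`
  have hG : mp G (polyMap sH) δ - mp G (tauH CB) δ + Xs (PB CB) • mp G (incH (PB CB)) δ = 0 := by
    have e1 : mp G (polyMap sH) a = mp G (sH ≫ polyMap sH) η₀ := by rw [ha, mp_comp]
    have e2 : mp G (polyMap sH) b = mp G (incH (PB CB)) a := by
      rw [hb, ha, mp_comp, mp_comp, incH_polyMap]
    have e3 : mp G (tauH CB) a = mp G (sH ≫ polyMap sH) η₀ := by rw [ha, mp_comp, hco]
    have e4 : mp G (tauH CB) b = mp G (incH (PB CB)) b := by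
      rw [hb, mp_comp, mp_comp, incH_tauH]
    rw [hδ, mp_sub, mp_sub, mp_sub, mp_smul, mp_smul, mp_smul, polyMap_X, tauH_X, e1, e2, e3, e4]
    generalize mp G (sH ≫ polyMap sH) η₀ = m0
    generalize mp G (incH (PB CB)) a = a'
    generalize mp G (incH (PB CB)) b = b'
    rw [smul_sub, smul_smul, mul_comm (Xs (PB CB)) ((incH (PB CB)).hom (Xs CB))]
    abel
  have hCI : mp ((Adeq.underline A).obj M) (polyMap sH) w -
      mp ((Adeq.underline A).obj M) (tauH CB) w +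
      Xs (PB CB) • mp ((Adeq.underline A).obj M) (incH (PB CB)) w = 0 := by
    apply hi (Adeq.pt (PB (PB CB)))
    rw [app_zero, app_add, app_sub, LinAdeq.app_smul, mp_nat, mp_nat, mp_nat, hw]
    exact hG
  have hTI := TI_of_CI A (CB : Type u) (M : Type (u + 1)) sH.hom w hCI
  obtain ⟨w₁, hw₁⟩ : ∃ w₁ : ((Adeq.underline A).obj M).obj (Adeq.pt CB),
      w₁ = (coef1 A (CB : Type u)).rTensor M w := ⟨_, rfl⟩
  have hTI' : w + mp ((Adeq.underline A).obj M) sH w₁ -
      Xs CB • mp ((Adeq.underline A).obj M) (incH CB) w₁ = 0 := by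
    rw [hw₁]
    exact hTI
  refine ⟨η₀ + i.app (Adeq.pt CB) w₁, ?_, ?_⟩
  · rw [app_add, hzero, add_zero, hη₀]
  · have h1 := congrArg (fun t => i.app (Adeq.pt (PB CB)) t) hTI'
    simp only [] at h1
    rw [app_zero, app_sub, app_add, LinAdeq.app_smul, mp_nat, mp_nat, hw, hδ, ha, hb] at h1
    rw [mp_add, mp_add, smul_add]
    have h2 : mp G sH η₀ + mp G sH (i.app (Adeq.pt CB) w₁) -
        (Xs CB • mp G (incH CB) η₀ + Xs CB • mp G (incH CB) (i.app (Adeq.pt CB) w₁)) = 0 := by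
      rw [← h1]
      abel
    exact sub_eq_zero.mp h2

end MP


section Sigma

variable {A : Type u} [CommRing A] {G L : Adeq.MVF A} {CB : Adeq.Alg A}
  {ξ : L.obj (Adeq.pt CB)}
  (hrep : ∀ (B : Adeq.Alg A) (k : L.obj (Adeq.pt B)), ∃! f : CB ⟶ B, mp L f ξ = k)

/-- the classifying map of an element -/
def fOf (B : Adeq.Alg A) (k : L.obj (Adeq.pt B)) : CB ⟶ B := (hrep B k).exists.choose

theorem fOf_spec (B : Adeq.Alg A) (k : L.obj (Adeq.pt B)) : mp L (fOf hrep B k) ξ = k :=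
  (hrep B k).exists.choose_spec

theorem fOf_uniq (B : Adeq.Alg A) (k : L.obj (Adeq.pt B)) (f : CB ⟶ B) (h : mp L f ξ = k) :
    f = fOf hrep B k := (hrep B k).unique h (fOf_spec hrep B k)

variable (η₁ : G.obj (Adeq.pt CB))

/-- the set-theoretic section attached to a lift of the universal element -/
def sig (B : Adeq.Alg A) (k : L.obj (Adeq.pt B)) : G.obj (Adeq.pt B) := mp G (fOf hrep B k) η₁

theorem sig_sec (π : G ⟶ L) (hη₁ : π.app (Adeq.pt CB) η₁ = ξ) (B : Adeq.Alg A)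
    (k : L.obj (Adeq.pt B)) : π.app (Adeq.pt B) (sig hrep η₁ B k) = k := by
  unfold sig
  rw [mp_nat, hη₁, fOf_spec]

theorem sig_nat {B B' : Adeq.Alg A} (g : B ⟶ B') (k : L.obj (Adeq.pt B)) :
    sig hrep η₁ B' (mp L g k) = mp G g (sig hrep η₁ B k) := by
  have h : fOf hrep B k ≫ g = fOf hrep B' (mp L g k) :=
    fOf_uniq hrep B' _ _ (by rw [← mp_comp, fOf_spec])
  unfold sig
  rw [← h, mp_comp]

theorem sig_smul (sH : CB ⟶ PB CB) (hξ : mp L sH ξ = Xs CB • mp L (incH CB) ξ)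
    (hη₁h : mp G sH η₁ = Xs CB • mp G (incH CB) η₁) (B : Adeq.Alg A) (r : (B : Type u))
    (k : L.obj (Adeq.pt B)) : sig hrep η₁ B (r • k) = r • sig hrep η₁ B k := by
  have h : sH ≫ polyMap (fOf hrep B k) ≫ evH B r = fOf hrep B (r • k) :=
    fOf_uniq hrep B _ _ (by rw [hom_scale L sH ξ hξ, fOf_spec])
  unfold sig
  rw [← h, hom_scale G sH η₁ hη₁h]

theorem sig_zero (sH : CB ⟶ PB CB) (hξ : mp L sH ξ = Xs CB • mp L (incH CB) ξ)
    (hη₁h : mp G sH η₁ = Xs CB • mp G (incH CB) η₁) (B : Adeq.Alg A) :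
    sig hrep η₁ B (0 : L.obj (Adeq.pt B)) = 0 := by
  have h := sig_smul hrep η₁ sH hξ hη₁h B (0 : (B : Type u)) (0 : L.obj (Adeq.pt B))
  rw [zero_smul, zero_smul] at h
  exact h

/-- the additivity defect -/
def Dd (B : Adeq.Alg A) (k k' : L.obj (Adeq.pt B)) : G.obj (Adeq.pt B) :=
  sig hrep η₁ B (k + k') - sig hrep η₁ B k - sig hrep η₁ B k'

theorem Dd_nat {B B' : Adeq.Alg A} (g : B ⟶ B') (k k' : L.obj (Adeq.pt B)) :
    mp G g (Dd hrep η₁ B k k') = Dd hrep η₁ B' (mp L g k) (mp L g k') := by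
  unfold Dd
  rw [mp_sub, mp_sub, ← sig_nat, ← sig_nat, ← sig_nat, mp_add]

theorem Dd_smul (sH : CB ⟶ PB CB) (hξ : mp L sH ξ = Xs CB • mp L (incH CB) ξ)
    (hη₁h : mp G sH η₁ = Xs CB • mp G (incH CB) η₁) (B : Adeq.Alg A) (r : (B : Type u))
    (k k' : L.obj (Adeq.pt B)) :
    Dd hrep η₁ B (r • k) (r • k') = r • Dd hrep η₁ B k k' := by
  unfold Dd
  rw [← smul_add, sig_smul hrep η₁ sH hξ hη₁h, sig_smul hrep η₁ sH hξ hη₁h,
    sig_smul hrep η₁ sH hξ hη₁h, smul_sub, smul_sub]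

theorem Dd_pi (π : G ⟶ L) (hη₁ : π.app (Adeq.pt CB) η₁ = ξ) (B : Adeq.Alg A)
    (k k' : L.obj (Adeq.pt B)) : π.app (Adeq.pt B) (Dd hrep η₁ B k k') = 0 := by
  unfold Dd
  rw [app_sub, app_sub, sig_sec hrep η₁ π hη₁, sig_sec hrep η₁ π hη₁, sig_sec hrep η₁ π hη₁]
  abel

theorem Dd_zero_right (sH : CB ⟶ PB CB) (hξ : mp L sH ξ = Xs CB • mp L (incH CB) ξ)
    (hη₁h : mp G sH η₁ = Xs CB • mp G (incH CB) η₁) (B : Adeq.Alg A)
    (k : L.obj (Adeq.pt B)) : Dd hrep η₁ B k 0 = 0 := by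
  unfold Dd
  rw [add_zero, sub_self, zero_sub, sig_zero hrep η₁ sH hξ hη₁h, neg_zero]

theorem Dd_zero_left (sH : CB ⟶ PB CB) (hξ : mp L sH ξ = Xs CB • mp L (incH CB) ξ)
    (hη₁h : mp G sH η₁ = Xs CB • mp G (incH CB) η₁) (B : Adeq.Alg A)
    (k' : L.obj (Adeq.pt B)) : Dd hrep η₁ B 0 k' = 0 := by
  unfold Dd
  rw [zero_add, sig_zero hrep η₁ sH hξ hη₁h, sub_zero, sub_self]

theorem sig_add_of_pair {M : ModuleCat.{u + 1} A}
    (i : (Adeq.underline A).obj M ⟶ G) (π : G ⟶ L)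
    (hi : ∀ X, Function.Injective (i.app X))
    (hex : ∀ X (y : G.obj X), π.app X y = 0 →
      ∃ w : ((Adeq.underline A).obj M).obj X, i.app X w = y)
    (hη₁ : π.app (Adeq.pt CB) η₁ = ξ)
    (sH : CB ⟶ PB CB) (hξ : mp L sH ξ = Xs CB • mp L (incH CB) ξ)
    (hη₁h : mp G sH η₁ = Xs CB • mp G (incH CB) η₁)
    (C2 : Adeq.Alg A) (j₁ j₂ j₀ : CB ⟶ C2) (sH2 : C2 ⟶ PB C2)
    (hj₁ : j₁ ≫ sH2 = sH ≫ polyMap j₁) (hj₂ : j₂ ≫ sH2 = sH ≫ polyMap j₂)
    (p₁ p₂ : C2 ⟶ C2) (hj₀ : mp L j₀ ξ = 0)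
    (h11 : j₁ ≫ p₁ = j₁) (h12 : j₂ ≫ p₁ = j₀) (h21 : j₁ ≫ p₂ = j₀) (h22 : j₂ ≫ p₂ = j₂)
    (hpair : ∀ (B : Adeq.Alg A) (f f' : CB ⟶ B), ∃ g : C2 ⟶ B, j₁ ≫ g = f ∧ j₂ ≫ g = f')
    (hdeg1 : ∀ z : (C2 : Type u) ⊗[A] (M : Type (u + 1)),
      sH2.hom.toLinearMap.rTensor M z = Xs C2 • ((incH C2).hom.toLinearMap.rTensor M z) →
      z = p₁.hom.toLinearMap.rTensor M z + p₂.hom.toLinearMap.rTensor M z)
    (B : Adeq.Alg A) (k k' : L.obj (Adeq.pt B)) :
    sig hrep η₁ B (k + k') = sig hrep η₁ B k + sig hrep η₁ B k' := by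
  obtain ⟨k₁, hk₁⟩ : ∃ k₁ : L.obj (Adeq.pt C2), k₁ = mp L j₁ ξ := ⟨_, rfl⟩
  obtain ⟨k₂, hk₂⟩ : ∃ k₂ : L.obj (Adeq.pt C2), k₂ = mp L j₂ ξ := ⟨_, rfl⟩
  have homog_push : ∀ (j : CB ⟶ C2), j ≫ sH2 = sH ≫ polyMap j →
      mp L sH2 (mp L j ξ) = Xs C2 • mp L (incH C2) (mp L j ξ) := by
    intro j hj
    rw [mp_comp L j sH2 ξ, hj, ← mp_comp L sH (polyMap j) ξ, hξ, mp_smul, polyMap_X,
      mp_comp L (incH CB) (polyMap j) ξ, incH_polyMap, ← mp_comp L j (incH C2) ξ]
  have hk₁h : mp L sH2 k₁ = Xs C2 • mp L (incH C2) k₁ := by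
    rw [hk₁]
    exact homog_push j₁ hj₁
  have hk₂h : mp L sH2 k₂ = Xs C2 • mp L (incH C2) k₂ := by
    rw [hk₂]
    exact homog_push j₂ hj₂
  obtain ⟨uu, hu⟩ : ∃ uu : G.obj (Adeq.pt C2), uu = Dd hrep η₁ C2 k₁ k₂ := ⟨_, rfl⟩
  have hπu : π.app (Adeq.pt C2) uu = 0 := by
    rw [hu]
    exact Dd_pi hrep η₁ π hη₁ C2 k₁ k₂
  obtain ⟨z, hz⟩ := hex (Adeq.pt C2) uu hπu
  have huh : mp G sH2 uu = Xs C2 • mp G (incH C2) uu := by
    rw [hu, Dd_nat, hk₁h, hk₂h, Dd_smul hrep η₁ sH hξ hη₁h, ← Dd_nat]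
  have hzh' : mp ((Adeq.underline A).obj M) sH2 z =
      Xs C2 • mp ((Adeq.underline A).obj M) (incH C2) z := by
    apply hi (Adeq.pt (PB C2))
    rw [LinAdeq.app_smul, mp_nat, mp_nat, hz]
    exact huh
  have hsplit := hdeg1 z hzh'
  have hp₁ : mp ((Adeq.underline A).obj M) p₁ z = 0 := by
    apply hi (Adeq.pt C2)
    rw [app_zero, mp_nat, hz, hu, Dd_nat]
    have e1 : mp L p₁ k₁ = k₁ := by rw [hk₁, mp_comp, h11]
    have e2 : mp L p₁ k₂ = 0 := by rw [hk₂, mp_comp, h12, hj₀]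
    rw [e1, e2]
    exact Dd_zero_right hrep η₁ sH hξ hη₁h C2 k₁
  have hp₂ : mp ((Adeq.underline A).obj M) p₂ z = 0 := by
    apply hi (Adeq.pt C2)
    rw [app_zero, mp_nat, hz, hu, Dd_nat]
    have e1 : mp L p₂ k₁ = 0 := by rw [hk₁, mp_comp, h21, hj₀]
    have e2 : mp L p₂ k₂ = k₂ := by rw [hk₂, mp_comp, h22]
    rw [e1, e2]
    exact Dd_zero_left hrep η₁ sH hξ hη₁h C2 k₂
  have h1 : p₁.hom.toLinearMap.rTensor M z = 0 := hp₁
  have h2 : p₂.hom.toLinearMap.rTensor M z = 0 := hp₂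
  rw [h1, h2, add_zero] at hsplit
  have hu0 : uu = 0 := by
    rw [← hz]
    have h3 : i.app (Adeq.pt C2) z = i.app (Adeq.pt C2) 0 := congrArg _ hsplit
    exact h3.trans (app_zero i C2)
  obtain ⟨g, hg₁, hg₂⟩ := hpair B (fOf hrep B k) (fOf hrep B k')
  have e1 : mp L g k₁ = k := by rw [hk₁, mp_comp, hg₁, fOf_spec]
  have e2 : mp L g k₂ = k' := by rw [hk₂, mp_comp, hg₂, fOf_spec]
  have hD : Dd hrep η₁ B k k' = 0 := by
    have h4 := Dd_nat hrep η₁ g k₁ k₂
    rw [e1, e2, ← hu, hu0, mp_zero] at h4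
    exact h4.symm
  unfold Dd at hD
  exact eq_add_of_sub_eq' (sub_eq_zero.mp hD)

theorem exists_hom_of_fun {F F' : Adeq.MVF A}
    (s : ∀ B : Adeq.Alg A, F.obj (Adeq.pt B) → F'.obj (Adeq.pt B))
    (hadd : ∀ (B : Adeq.Alg A) (x y : F.obj (Adeq.pt B)), s B (x + y) = s B x + s B y)
    (hsmul : ∀ (B : Adeq.Alg A) (r : (B : Type u)) (x : F.obj (Adeq.pt B)),
      s B (r • x) = r • s B x)
    (hnat : ∀ {B B' : Adeq.Alg A} (g : B ⟶ B') (x : F.obj (Adeq.pt B)),
      s B' (mp F g x) = mp F' g (s B x)) :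
    ∃ σ : F ⟶ F', ∀ (B : Adeq.Alg A) (x : F.obj (Adeq.pt B)), σ.app (Adeq.pt B) x = s B x :=
  ⟨PresheafOfModules.homMk (M₁ := F) (M₂ := F')
    { app := fun X => AddCommGrpCat.ofHom
        (AddMonoidHom.mk' (s X.unop.unop) (hadd X.unop.unop))
      naturality := fun {X Y} f => by
        ext x
        exact hnat f.unop.unop x }
    (fun X r x => hsmul X.unop.unop r x), fun B x => rfl⟩

end Sigma


section Concrete

variable {A : Type u} [CommRing A] {m n : ℕ} (T : Fin m → Fin n → A)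

theorem Cq_hom_ext {R : Type u} [Semiring R] [Algebra A R] (f g : Cq T →ₐ[A] R)
    (h : ∀ i, f (xb T i) = g (xb T i)) : f = g := by
  apply Ideal.Quotient.algHom_ext
  apply MvPolynomial.algHom_ext
  intro i
  exact h i

theorem sHom_xb (i : Fin n) : sHom T (xb T i) = Polynomial.C (xb T i) * Polynomial.X :=
  sHom_X T i

theorem rel_of_hom {R : Type u} [CommRing R] [Algebra A R] (f : Cq T →ₐ[A] R) :
    ∀ j, ∑ i, T j i • f (xb T i) = 0 := by
  intro j
  have h := congrArg f (rel T j)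
  rw [map_sum, map_zero] at h
  refine Eq.trans ?_ h
  refine Finset.sum_congr rfl fun i _ => ?_
  rw [map_smul]

/-- the block diagonal matrix -/
def Tpair (j : Fin (m + m)) (i : Fin (n + n)) : A :=
  Fin.addCases (fun j₁ => Fin.addCases (fun i₁ => T j₁ i₁) (fun _ => 0) i)
    (fun j₂ => Fin.addCases (fun _ => 0) (fun i₂ => T j₂ i₂) i) j

theorem Tpair_left {R : Type u} [CommRing R] [Algebra A R] (c : Fin (n + n) → R) (j : Fin m) :
    ∑ i, Tpair T (Fin.castAdd m j) i • c i = ∑ i, T j i • c (Fin.castAdd n i) := by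
  rw [Fin.sum_univ_add]
  simp only [Tpair, Fin.addCases_left, Fin.addCases_right, zero_smul, Finset.sum_const_zero,
    add_zero]

theorem Tpair_right {R : Type u} [CommRing R] [Algebra A R] (c : Fin (n + n) → R) (j : Fin m) :
    ∑ i, Tpair T (Fin.natAdd m j) i • c i = ∑ i, T j i • c (Fin.natAdd n i) := by
  rw [Fin.sum_univ_add]
  simp only [Tpair, Fin.addCases_left, Fin.addCases_right, zero_smul, Finset.sum_const_zero,
    zero_add]

theorem Tpair_rel {R : Type u} [CommRing R] [Algebra A R] (c c' : Fin n → R)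
    (hc : ∀ j, ∑ i, T j i • c i = 0) (hc' : ∀ j, ∑ i, T j i • c' i = 0) :
    ∀ j, ∑ i, Tpair T j i • (Fin.addCases c c' : Fin (n + n) → R) i = 0 := by
  intro j
  induction j using Fin.addCases with
  | left j₁ =>
    rw [Tpair_left]
    simp only [Fin.addCases_left]
    exact hc j₁
  | right j₂ =>
    rw [Tpair_right]
    simp only [Fin.addCases_right]
    exact hc' j₂

theorem rel_zero {R : Type u} [CommRing R] [Algebra A R] :
    ∀ j, ∑ i, T j i • ((fun _ => 0 : Fin n → R) i) = 0 := by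
  intro j
  simp only [smul_zero, Finset.sum_const_zero]

theorem rel_left : ∀ j, ∑ i, T j i • xb (Tpair T) (Fin.castAdd n i) = 0 := fun j =>
  (Tpair_left T (xb (Tpair T)) j).symm.trans (rel (Tpair T) (Fin.castAdd m j))

theorem rel_right : ∀ j, ∑ i, T j i • xb (Tpair T) (Fin.natAdd n i) = 0 := fun j =>
  (Tpair_right T (xb (Tpair T)) j).symm.trans (rel (Tpair T) (Fin.natAdd m j))

def j1alg : Cq T →ₐ[A] Cq (Tpair T) :=
  liftHom T (fun i => xb (Tpair T) (Fin.castAdd n i)) (rel_left T)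

def j2alg : Cq T →ₐ[A] Cq (Tpair T) :=
  liftHom T (fun i => xb (Tpair T) (Fin.natAdd n i)) (rel_right T)

def j0alg : Cq T →ₐ[A] Cq (Tpair T) := liftHom T (fun _ => 0) (rel_zero T)

def p1alg : Cq (Tpair T) →ₐ[A] Cq (Tpair T) :=
  liftHom (Tpair T) (Fin.addCases (fun i => xb (Tpair T) (Fin.castAdd n i)) (fun _ => 0))
    (Tpair_rel T _ _ (rel_left T) (rel_zero T))

def p2alg : Cq (Tpair T) →ₐ[A] Cq (Tpair T) :=
  liftHom (Tpair T) (Fin.addCases (fun _ => 0) (fun i => xb (Tpair T) (Fin.natAdd n i)))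
    (Tpair_rel T _ _ (rel_zero T) (rel_right T))

def pairAlg {R : Type u} [CommRing R] [Algebra A R] (f f' : Cq T →ₐ[A] R) :
    Cq (Tpair T) →ₐ[A] R :=
  liftHom (Tpair T) (Fin.addCases (fun i => f (xb T i)) (fun i => f' (xb T i)))
    (Tpair_rel T _ _ (rel_of_hom T f) (rel_of_hom T f'))

theorem pair_j1 {R : Type u} [CommRing R] [Algebra A R] (f f' : Cq T →ₐ[A] R) :
    (pairAlg T f f').comp (j1alg T) = f := by
  apply Cq_hom_ext
  intro i
  rw [AlgHom.comp_apply, j1alg, liftHom_xb, pairAlg, liftHom_xb, Fin.addCases_left]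

theorem pair_j2 {R : Type u} [CommRing R] [Algebra A R] (f f' : Cq T →ₐ[A] R) :
    (pairAlg T f f').comp (j2alg T) = f' := by
  apply Cq_hom_ext
  intro i
  rw [AlgHom.comp_apply, j2alg, liftHom_xb, pairAlg, liftHom_xb, Fin.addCases_right]

theorem p1_j1 : (p1alg T).comp (j1alg T) = j1alg T := by
  apply Cq_hom_ext
  intro i
  rw [AlgHom.comp_apply, j1alg, liftHom_xb, p1alg, liftHom_xb, Fin.addCases_left]

theorem p1_j2 : (p1alg T).comp (j2alg T) = j0alg T := by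
  apply Cq_hom_ext
  intro i
  rw [AlgHom.comp_apply, j2alg, liftHom_xb, p1alg, liftHom_xb, Fin.addCases_right, j0alg,
    liftHom_xb]

theorem p2_j1 : (p2alg T).comp (j1alg T) = j0alg T := by
  apply Cq_hom_ext
  intro i
  rw [AlgHom.comp_apply, j1alg, liftHom_xb, p2alg, liftHom_xb, Fin.addCases_left, j0alg,
    liftHom_xb]

theorem p2_j2 : (p2alg T).comp (j2alg T) = j2alg T := by
  apply Cq_hom_ext
  intro i
  rw [AlgHom.comp_apply, j2alg, liftHom_xb, p2alg, liftHom_xb, Fin.addCases_right]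

theorem p1_add_p2 (i : Fin (n + n)) :
    p1alg T (xb (Tpair T) i) + p2alg T (xb (Tpair T) i) = xb (Tpair T) i := by
  rw [p1alg, liftHom_xb, p2alg, liftHom_xb]
  induction i using Fin.addCases with
  | left i₁ => rw [Fin.addCases_left, Fin.addCases_left, add_zero]
  | right i₂ => rw [Fin.addCases_right, Fin.addCases_right, zero_add]

theorem sHom_j1 : (sHom (Tpair T)).comp (j1alg T) =
    (Polynomial.mapAlgHom (j1alg T)).comp (sHom T) := by
  apply Cq_hom_ext
  intro i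
  rw [AlgHom.comp_apply, AlgHom.comp_apply, sHom_xb, Polynomial.coe_mapAlgHom,
    Polynomial.map_mul, Polynomial.map_C, Polynomial.map_X]
  have h : j1alg T (xb T i) = xb (Tpair T) (Fin.castAdd n i) := by rw [j1alg, liftHom_xb]
  rw [h, sHom_xb]
  congr 2
  exact h.symm

theorem sHom_j2 : (sHom (Tpair T)).comp (j2alg T) =
    (Polynomial.mapAlgHom (j2alg T)).comp (sHom T) := by
  apply Cq_hom_ext
  intro i
  rw [AlgHom.comp_apply, AlgHom.comp_apply, sHom_xb, Polynomial.coe_mapAlgHom,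
    Polynomial.map_mul, Polynomial.map_C, Polynomial.map_X]
  have h : j2alg T (xb T i) = xb (Tpair T) (Fin.natAdd n i) := by rw [j2alg, liftHom_xb]
  rw [h, sHom_xb]
  congr 2
  exact h.symm

theorem sHom_coassoc : (Polynomial.mapAlgHom (sHom T)).comp (sHom T) =
    (tauAlg A (Cq T)).comp (sHom T) := by
  apply Cq_hom_ext
  intro i
  rw [AlgHom.comp_apply, AlgHom.comp_apply, sHom_xb, Polynomial.coe_mapAlgHom,
    Polynomial.map_mul, Polynomial.map_C, Polynomial.map_X, map_mul, tauAlg_C, tauAlg_X]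
  have h : (sHom T : Cq T →+* Polynomial (Cq T)) (xb T i) =
      Polynomial.C (xb T i) * Polynomial.X := sHom_xb T i
  rw [h, Polynomial.C_mul, mul_assoc]

theorem deg1_split (M : Type (u + 1)) [AddCommGroup M] [Module A M]
    (p₁ p₂ : Cq T →ₐ[A] Cq T) (hp : ∀ i, p₁ (xb T i) + p₂ (xb T i) = xb T i)
    (z : Cq T ⊗[A] M)
    (hz : (sHom T).toLinearMap.rTensor M z = (Polynomial.X : Polynomial (Cq T)) •
      ((Polynomial.CAlgHom (R := A) (A := Cq T)).toLinearMap.rTensor M z)) :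
    z = p₁.toLinearMap.rTensor M z + p₂.toLinearMap.rTensor M z := by
  obtain ⟨zt, hzt⟩ := LinearMap.rTensor_surjective M
    (g := (mkq T).toLinearMap) (mkq_surj T) z
  have h2 : (c1 T).rTensor M ((sHom T).toLinearMap.rTensor M z) =
      ∑ i, xb T i ⊗ₜ[A] (TensorProduct.lid A M ((dd i).rTensor M zt)) := by
    rw [← hzt, LinAdeq.T2 T M zt]
  have h3 : (c1 T).rTensor M ((sHom T).toLinearMap.rTensor M z) = z := by
    rw [hz]
    exact LinAdeq.T1 T M z
  obtain ⟨g, hg⟩ : ∃ g : Fin n → M, z = ∑ i, xb T i ⊗ₜ[A] g i := ⟨_, h3.symm.trans h2⟩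
  rw [hg, map_sum, map_sum, ← Finset.sum_add_distrib]
  refine Finset.sum_congr rfl fun i _ => ?_
  rw [LinearMap.rTensor_tmul, LinearMap.rTensor_tmul, ← TensorProduct.add_tmul]
  congr 1
  exact (hp i).symm

/-- the universal algebra, bundled -/
abbrev CqB : Adeq.Alg A := Adeq.algOf A (Cq T)

def sHB : CqB T ⟶ PB (CqB T) := CommAlgCat.ofHom (sHom T)

theorem sHB_coassoc : sHB T ≫ polyMap (sHB T) = sHB T ≫ tauH (CqB T) := by
  apply CommAlgCat.hom_ext
  exact sHom_coassoc T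

def j1B : CqB T ⟶ CqB (Tpair T) := CommAlgCat.ofHom (j1alg T)
def j2B : CqB T ⟶ CqB (Tpair T) := CommAlgCat.ofHom (j2alg T)
def j0B : CqB T ⟶ CqB (Tpair T) := CommAlgCat.ofHom (j0alg T)
def p1B : CqB (Tpair T) ⟶ CqB (Tpair T) := CommAlgCat.ofHom (p1alg T)
def p2B : CqB (Tpair T) ⟶ CqB (Tpair T) := CommAlgCat.ofHom (p2alg T)

theorem j1B_sH : j1B T ≫ sHB (Tpair T) = sHB T ≫ polyMap (j1B T) := by
  apply CommAlgCat.hom_ext
  exact sHom_j1 T

theorem j2B_sH : j2B T ≫ sHB (Tpair T) = sHB T ≫ polyMap (j2B T) := by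
  apply CommAlgCat.hom_ext
  exact sHom_j2 T

theorem j1B_p1 : j1B T ≫ p1B T = j1B T := by
  apply CommAlgCat.hom_ext
  exact p1_j1 T

theorem j2B_p1 : j2B T ≫ p1B T = j0B T := by
  apply CommAlgCat.hom_ext
  exact p1_j2 T

theorem j1B_p2 : j1B T ≫ p2B T = j0B T := by
  apply CommAlgCat.hom_ext
  exact p2_j1 T

theorem j2B_p2 : j2B T ≫ p2B T = j2B T := by
  apply CommAlgCat.hom_ext
  exact p2_j2 T

theorem pairB (B : Adeq.Alg A) (f f' : CqB T ⟶ B) :
    ∃ g : CqB (Tpair T) ⟶ B, j1B T ≫ g = f ∧ j2B T ≫ g = f' := by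
  refine ⟨CommAlgCat.ofHom (pairAlg T f.hom f'.hom), ?_, ?_⟩
  · apply CommAlgCat.hom_ext
    exact pair_j1 T f.hom f'.hom
  · apply CommAlgCat.hom_ext
    exact pair_j2 T f.hom f'.hom

theorem deg1B (M : ModuleCat.{u + 1} A)
    (z : (CqB (Tpair T) : Type u) ⊗[A] (M : Type (u + 1)))
    (hz : (sHB (Tpair T)).hom.toLinearMap.rTensor M z =
      Xs (CqB (Tpair T)) • ((incH (CqB (Tpair T))).hom.toLinearMap.rTensor M z)) :
    z = (p1B T).hom.toLinearMap.rTensor M z + (p2B T).hom.toLinearMap.rTensor M z :=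
  deg1_split (Tpair T) M (p1alg T) (p2alg T) (p1_add_p2 T) z hz

section Kappa

variable {L : Adeq.MVF A} {P : ModuleCat.{u + 1} A} (κ : L ⟶ (Adeq.underline A).obj P)
  (hκ : ∀ X, Function.Injective (κ.app X)) (bP : Fin n → P)
  (ξ : L.obj (Adeq.pt (CqB T)))
  (hξκ : (κ.app (Adeq.pt (CqB T)) ξ : Cq T ⊗[A] (P : Type (u + 1))) = ∑ i, xb T i ⊗ₜ[A] bP i)

include hξκ in
theorem kappa_mp {B : Adeq.Alg A} (f : CqB T ⟶ B) :
    (κ.app (Adeq.pt B) (mp L f ξ) : (B : Type u) ⊗[A] (P : Type (u + 1))) =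
      ∑ i, f.hom (xb T i) ⊗ₜ[A] bP i := by
  have h1 := LinAdeq.nat_apply κ f ξ
  refine h1.trans ?_
  rw [hξκ, map_sum]
  refine Finset.sum_congr rfl fun i _ => ?_
  rw [LinearMap.rTensor_tmul]
  rfl

include hκ hξκ in
theorem rep_exists_unique
    (D2 : ∀ (B : Adeq.Alg A) (k : L.obj (Adeq.pt B)), ∃ c : Fin n → (B : Type u),
      (∀ j, ∑ i, T j i • c i = 0) ∧
      (κ.app (Adeq.pt B) k : (B : Type u) ⊗[A] (P : Type (u + 1))) = ∑ i, c i ⊗ₜ[A] bP i)
    (D3 : ∀ (B : Adeq.Alg A) (c c' : Fin n → (B : Type u)),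
      (∑ i, c i ⊗ₜ[A] bP i : (B : Type u) ⊗[A] (P : Type (u + 1))) = ∑ i, c' i ⊗ₜ[A] bP i →
        c = c')
    (B : Adeq.Alg A) (k : L.obj (Adeq.pt B)) : ∃! f : CqB T ⟶ B, mp L f ξ = k := by
  obtain ⟨c, hrel, hc⟩ := D2 B k
  refine ⟨CommAlgCat.ofHom (liftHom T c hrel), ?_, ?_⟩
  · apply hκ (Adeq.pt B)
    refine (kappa_mp T κ bP ξ hξκ _).trans (Eq.trans ?_ hc.symm)
    refine Finset.sum_congr rfl fun i _ => ?_
    congr 1
    exact liftHom_xb T c hrel i
  · intro f' hf'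
    apply CommAlgCat.hom_ext
    apply Cq_hom_ext
    intro i
    have h1 : (∑ i, f'.hom (xb T i) ⊗ₜ[A] bP i : (B : Type u) ⊗[A] (P : Type (u + 1))) =
        ∑ i, c i ⊗ₜ[A] bP i :=
      (kappa_mp T κ bP ξ hξκ f').symm.trans
        ((congrArg (fun t => (κ.app (Adeq.pt B) t :
          (B : Type u) ⊗[A] (P : Type (u + 1)))) hf').trans hc)
    have h2 := D3 B _ _ h1
    exact (congrFun h2 i).trans (liftHom_xb T c hrel i).symm

include hκ hξκ in
theorem xi_homog : mp L (sHB T) ξ = Xs (CqB T) • mp L (incH (CqB T)) ξ := by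
  apply hκ (Adeq.pt (PB (CqB T)))
  rw [LinAdeq.app_smul]
  refine (kappa_mp T κ bP ξ hξκ _).trans ?_
  have h2 := kappa_mp T κ bP ξ hξκ (incH (CqB T))
  refine Eq.trans ?_ (congrArg (fun t : Polynomial (Cq T) ⊗[A] (P : Type (u + 1)) =>
    (Polynomial.X : Polynomial (Cq T)) • t) h2).symm
  rw [Finset.smul_sum]
  refine Finset.sum_congr rfl fun i _ => ?_
  rw [TensorProduct.smul_tmul']
  congr 1
  show sHom T (mkq T (MvPolynomial.X i)) =
    (Polynomial.X : Polynomial (Cq T)) * Polynomial.C (xb T i)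
  exact (sHom_X T i).trans (mul_comm (Polynomial.C (xb T i)) (Polynomial.X : Polynomial (Cq T)))

include hκ hξκ in
theorem j0_zero : mp L (j0B T) ξ = 0 := by
  apply hκ (Adeq.pt (CqB (Tpair T)))
  rw [app_zero]
  refine (kappa_mp T κ bP ξ hξκ _).trans ?_
  refine Finset.sum_eq_zero fun i _ => ?_
  have h : (j0B T).hom (xb T i) = 0 := by
    show j0alg T (xb T i) = 0
    rw [j0alg, liftHom_xb]
  rw [h, TensorProduct.zero_tmul]
  rfl

end Kappa

theorem coords_unique {P : ModuleCat.{u + 1} A} (b : Module.Basis (Fin n) A P) (B : Adeq.Alg A)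
    (c c' : Fin n → (B : Type u))
    (h : (∑ i, c i ⊗ₜ[A] b i : (B : Type u) ⊗[A] (P : Type (u + 1))) = ∑ i, c' i ⊗ₜ[A] b i) :
    c = c' := by
  classical
  have h2 : ∀ (d : Fin n → (B : Type u)) (j' : Fin n),
      (d j' ⊗ₜ[A] b j' : (B : Type u) ⊗[A] (P : Type (u + 1))) =
        d j' • (Algebra.TensorProduct.basis (B : Type u) b) j' := fun d j' =>
    (Algebra.TensorProduct.basis_repr_symm_apply' b _ j').symm
  simp only [h2] at h
  funext j
  have h3 := congrArg (fun v => (Algebra.TensorProduct.basis (B : Type u) b).repr v j) h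
  beta_reduce at h3
  rw [Module.Basis.repr_sum_self, Module.Basis.repr_sum_self] at h3
  exact h3

theorem D1 {L : Adeq.MVF A} {P P' : ModuleCat.{u + 1} A} (φ₀ : P ⟶ P')
    (κ : L ⟶ (Adeq.underline A).obj P)
    (hκex : ∀ X (y : ((Adeq.underline A).obj P).obj X),
      ((Adeq.underline A).map φ₀).app X y = 0 → ∃ x : L.obj X, κ.app X x = y)
    (b : Module.Basis (Fin n) A P) (b' : Module.Basis (Fin m) A P')
    (hT : ∀ i, φ₀.hom (b i) = ∑ j, T j i • b' j)
    (B : Adeq.Alg A) (c : Fin n → (B : Type u)) (hrel : ∀ j, ∑ i, T j i • c i = 0) :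
    ∃ k : L.obj (Adeq.pt B),
      (κ.app (Adeq.pt B) k : (B : Type u) ⊗[A] (P : Type (u + 1))) = ∑ i, c i ⊗ₜ[A] b i := by
  have h0 : φ₀.hom.baseChange (B : Type u) (∑ i, c i ⊗ₜ[A] b i) = 0 := by
    rw [baseChange_sum T φ₀.hom b b' hT c]
    refine Finset.sum_eq_zero fun j _ => ?_
    rw [hrel j, TensorProduct.zero_tmul]
  exact hκex (Adeq.pt B) (∑ i, c i ⊗ₜ[A] b i) h0

theorem D2 {L : Adeq.MVF A} {P P' : ModuleCat.{u + 1} A} (φ₀ : P ⟶ P')
    (κ : L ⟶ (Adeq.underline A).obj P)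
    (hκzero : ∀ X (x : L.obj X), ((Adeq.underline A).map φ₀).app X (κ.app X x) = 0)
    (b : Module.Basis (Fin n) A P) (b' : Module.Basis (Fin m) A P')
    (hT : ∀ i, φ₀.hom (b i) = ∑ j, T j i • b' j)
    (B : Adeq.Alg A) (k : L.obj (Adeq.pt B)) :
    ∃ c : Fin n → (B : Type u), (∀ j, ∑ i, T j i • c i = 0) ∧
      (κ.app (Adeq.pt B) k : (B : Type u) ⊗[A] (P : Type (u + 1))) = ∑ i, c i ⊗ₜ[A] b i := by
  classical
  obtain ⟨y, hy⟩ : ∃ y : (B : Type u) ⊗[A] (P : Type (u + 1)), y = κ.app (Adeq.pt B) k :=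
    ⟨_, rfl⟩
  have hy0 : φ₀.hom.baseChange (B : Type u) y = 0 := by
    rw [hy]
    exact hκzero (Adeq.pt B) k
  obtain ⟨c, hc⟩ : ∃ c : Fin n → (B : Type u), y = ∑ i, c i ⊗ₜ[A] b i := by
    refine ⟨fun i => (Algebra.TensorProduct.basis (B : Type u) b).repr y i, ?_⟩
    refine ((Algebra.TensorProduct.basis (B : Type u) b).sum_repr y).symm.trans
      (Finset.sum_congr rfl fun i _ => ?_)
    exact Algebra.TensorProduct.basis_repr_symm_apply' b _ i
  refine ⟨c, ?_, hy.symm.trans hc⟩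
  intro j
  have h1 := baseChange_sum T φ₀.hom b b' hT c
  rw [← hc, hy0] at h1
  have h2 : ∀ j', ((∑ i, T j' i • c i) ⊗ₜ[A] b' j' : (B : Type u) ⊗[A] (P' : Type (u + 1))) =
      (∑ i, T j' i • c i) • (Algebra.TensorProduct.basis (B : Type u) b') j' := fun j' =>
    (Algebra.TensorProduct.basis_repr_symm_apply' b' _ j').symm
  simp only [h2] at h1
  have h3 := congrArg (fun v => (Algebra.TensorProduct.basis (B : Type u) b').repr v j) h1
  simp only [map_zero, Finsupp.coe_zero, Pi.zero_apply] at h3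
  rw [Module.Basis.repr_sum_self] at h3
  exact h3.symm

end Concrete


section ProdTensor

variable {A : Type u} [CommRing A] (B : Type u) [CommRing B] [Algebra A B]
  (M P : Type (u + 1)) [AddCommGroup M] [Module A M] [AddCommGroup P] [Module A P]

theorem L1 (a : B ⊗[A] M) (c : B ⊗[A] P) :
    (LinearMap.fst A M P).baseChange B
      ((LinearMap.inl A M P).baseChange B a + (LinearMap.inr A M P).baseChange B c) = a := by
  have h1 : ((LinearMap.fst A M P).baseChange B) ∘ₗ ((LinearMap.inl A M P).baseChange B) =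
      LinearMap.id := by
    rw [← LinearMap.baseChange_comp, LinearMap.fst_comp_inl, LinearMap.baseChange_id]
  have h2 : ((LinearMap.fst A M P).baseChange B) ∘ₗ ((LinearMap.inr A M P).baseChange B) =
      0 := by
    rw [← LinearMap.baseChange_comp, LinearMap.fst_comp_inr, LinearMap.baseChange_zero]
  rw [map_add]
  exact (congrArg₂ (· + ·) (LinearMap.congr_fun h1 a) (LinearMap.congr_fun h2 c)).trans
    (add_zero a)

theorem L2 (a : B ⊗[A] M) (c : B ⊗[A] P) :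
    (LinearMap.snd A M P).baseChange B
      ((LinearMap.inl A M P).baseChange B a + (LinearMap.inr A M P).baseChange B c) = c := by
  have h1 : ((LinearMap.snd A M P).baseChange B) ∘ₗ ((LinearMap.inl A M P).baseChange B) =
      0 := by
    rw [← LinearMap.baseChange_comp, LinearMap.snd_comp_inl, LinearMap.baseChange_zero]
  have h2 : ((LinearMap.snd A M P).baseChange B) ∘ₗ ((LinearMap.inr A M P).baseChange B) =
      LinearMap.id := by
    rw [← LinearMap.baseChange_comp, LinearMap.snd_comp_inr, LinearMap.baseChange_id]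
  rw [map_add]
  exact (congrArg₂ (· + ·) (LinearMap.congr_fun h1 a) (LinearMap.congr_fun h2 c)).trans
    (zero_add c)

theorem L3 (w : B ⊗[A] (M × P)) :
    (LinearMap.inl A M P).baseChange B ((LinearMap.fst A M P).baseChange B w) +
      (LinearMap.inr A M P).baseChange B ((LinearMap.snd A M P).baseChange B w) = w := by
  have h : (LinearMap.inl A M P) ∘ₗ (LinearMap.fst A M P) +
      (LinearMap.inr A M P) ∘ₗ (LinearMap.snd A M P) = LinearMap.id := by
    apply LinearMap.ext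
    intro x
    simp
  have h' := congrArg (fun f : M × P →ₗ[A] M × P => f.baseChange B) h
  beta_reduce at h'
  rw [LinearMap.baseChange_add, LinearMap.baseChange_comp, LinearMap.baseChange_comp,
    LinearMap.baseChange_id] at h'
  exact LinearMap.congr_fun h' w

end ProdTensor

section Final

variable {A : Type u} [CommRing A]

/-- the product module -/
abbrev QM (M P : ModuleCat.{u + 1} A) : ModuleCat.{u + 1} A :=
  ModuleCat.of A (Prod (M : Type (u + 1)) (P : Type (u + 1)))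

def inlQ (M P : ModuleCat.{u + 1} A) : M ⟶ QM M P := ModuleCat.ofHom (LinearMap.inl A M P)

def inrQ (M P : ModuleCat.{u + 1} A) : P ⟶ QM M P := ModuleCat.ofHom (LinearMap.inr A M P)

def phiQ (M : ModuleCat.{u + 1} A) {P P' : ModuleCat.{u + 1} A} (T₀ : P ⟶ P') : QM M P ⟶ P' :=
  ModuleCat.ofHom (T₀.hom ∘ₗ LinearMap.snd A M P)

theorem adequate_of_split (S : ShortComplex (Adeq.MVF A)) (hS : S.ShortExact)
    (spl : S.Splitting) (M : ModuleCat.{u + 1} A) (e : S.X₁ ≅ (Adeq.underline A).obj M)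
    (P P' : ModuleCat.{u + 1} A) (T₀ : P ⟶ P') (κ : S.X₃ ⟶ (Adeq.underline A).obj P)
    (hκinj : ∀ X, Function.Injective (κ.app X))
    (hκzero : ∀ X (x : S.X₃.obj X), ((Adeq.underline A).map T₀).app X (κ.app X x) = 0)
    (hκex : ∀ X (y : ((Adeq.underline A).obj P).obj X),
      ((Adeq.underline A).map T₀).app X y = 0 → ∃ x : S.X₃.obj X, κ.app X x = y) :
    Adeq.adequate A S.X₂ := by
  have := hS.mono_f
  have := hS.epi_g
  obtain ⟨ρ, hρ⟩ : ∃ ρ : S.X₂ ⟶ (Adeq.underline A).obj M, ρ = spl.r ≫ e.hom := ⟨_, rfl⟩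
  have hρf : ∀ X (x : S.X₁.obj X), ρ.app X (S.f.app X x) = e.hom.app X x := by
    intro X x
    have h1 : S.f ≫ ρ = e.hom := by rw [hρ, ← Category.assoc, spl.f_r, Category.id_comp]
    exact congrArg (fun φ => (φ.app X) x) h1
  obtain ⟨θ, hθapp⟩ : ∃ θ : S.X₂ ⟶ (Adeq.underline A).obj (QM M P),
      ∀ (B : Adeq.Alg A) (y : S.X₂.obj (Adeq.pt B)),
      (θ.app (Adeq.pt B) y : (B : Type u) ⊗[A] (Prod (M : Type (u + 1)) (P : Type (u + 1)))) =
        (LinearMap.inl A M P).baseChange B (ρ.app (Adeq.pt B) y) +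
        (LinearMap.inr A M P).baseChange B (κ.app (Adeq.pt B) (S.g.app (Adeq.pt B) y)) :=
    ⟨ρ ≫ (Adeq.underline A).map (inlQ M P) + (S.g ≫ κ) ≫ (Adeq.underline A).map (inrQ M P),
      fun B y => rfl⟩
  have key : Nonempty (S.X₂ ≅ kernel ((Adeq.underline A).map (phiQ M T₀))) := by
    apply MVFKernel.nonempty_iso_kernel θ ((Adeq.underline A).map (phiQ M T₀))
    · intro X y y' hyy
      obtain ⟨B, rfl⟩ : ∃ B : Adeq.Alg A, X = Adeq.pt B := ⟨X.unop.unop, rfl⟩
      obtain ⟨d, hdd⟩ : ∃ d : S.X₂.obj (Adeq.pt B), d = y - y' := ⟨_, rfl⟩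
      have hd : θ.app (Adeq.pt B) d = 0 := by rw [hdd, app_sub, hyy, sub_self]
      obtain ⟨r₀, hr₀⟩ : ∃ r₀ : (B : Type u) ⊗[A] (M : Type (u + 1)),
          r₀ = ρ.app (Adeq.pt B) d := ⟨_, rfl⟩
      obtain ⟨s₀, hs₀⟩ : ∃ s₀ : (B : Type u) ⊗[A] (P : Type (u + 1)),
          s₀ = κ.app (Adeq.pt B) (S.g.app (Adeq.pt B) d) := ⟨_, rfl⟩
      have h0 : (LinearMap.inl A M P).baseChange B r₀ + (LinearMap.inr A M P).baseChange B s₀ =
          (0 : (B : Type u) ⊗[A] (Prod (M : Type (u + 1)) (P : Type (u + 1)))) := by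
        rw [hr₀, hs₀]
        exact (hθapp B d).symm.trans hd
      have hr0 : r₀ = 0 := by
        have h5 := congrArg ((LinearMap.fst A M P).baseChange B) h0
        rw [L1, map_zero] at h5
        exact h5
      have hs0 : s₀ = 0 := by
        have h5 := congrArg ((LinearMap.snd A M P).baseChange B) h0
        rw [L2, map_zero] at h5
        exact h5
      have hgd : S.g.app (Adeq.pt B) d = 0 := by
        apply hκinj (Adeq.pt B)
        rw [app_zero]
        exact hs₀.symm.trans hs0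
      obtain ⟨x, hx⟩ := MVFKernel.pointwise_exact_gen S hS.exact (Adeq.pt B) d hgd
      have hex0 : e.hom.app (Adeq.pt B) x = 0 := by
        rw [← hρf, hx]
        exact hr₀.symm.trans hr0
      have hx0 : x = 0 := by
        have h1 : e.inv.app (Adeq.pt B) (e.hom.app (Adeq.pt B) x) = x :=
          congrArg (fun φ => (φ.app (Adeq.pt B)) x) e.hom_inv_id
        rw [hex0, app_zero] at h1
        exact h1.symm
      have hd0 : d = 0 := by rw [← hx, hx0, app_zero]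
      rw [hdd] at hd0
      exact sub_eq_zero.mp hd0
    · intro X y
      obtain ⟨B, rfl⟩ : ∃ B : Adeq.Alg A, X = Adeq.pt B := ⟨X.unop.unop, rfl⟩
      have h1 : ((Adeq.underline A).map (phiQ M T₀)).app (Adeq.pt B) (θ.app (Adeq.pt B) y) =
          (T₀.hom ∘ₗ LinearMap.snd A M P).baseChange B (θ.app (Adeq.pt B) y) := rfl
      rw [h1, hθapp B y, LinearMap.baseChange_comp, LinearMap.comp_apply, L2]
      exact hκzero (Adeq.pt B) _
    · intro X w hw
      obtain ⟨B, rfl⟩ : ∃ B : Adeq.Alg A, X = Adeq.pt B := ⟨X.unop.unop, rfl⟩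
      obtain ⟨wt, hwt⟩ : ∃ wt : (B : Type u) ⊗[A] (Prod (M : Type (u + 1)) (P : Type (u + 1))),
          wt = w := ⟨_, rfl⟩
      have h1 : T₀.hom.baseChange B ((LinearMap.snd A M P).baseChange B wt) = 0 := by
        have h2 : (T₀.hom ∘ₗ LinearMap.snd A M P).baseChange B wt = 0 := by
          rw [hwt]
          exact hw
        rw [LinearMap.baseChange_comp, LinearMap.comp_apply] at h2
        exact h2
      obtain ⟨ℓ, hℓ⟩ := hκex (Adeq.pt B) ((LinearMap.snd A M P).baseChange B wt) h1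
      obtain ⟨y₀, hy₀⟩ := PresheafOfModules.surjective_of_epi S.g (Adeq.pt B) ℓ
      obtain ⟨r₀, hr₀⟩ : ∃ r₀ : (B : Type u) ⊗[A] (M : Type (u + 1)),
          r₀ = ρ.app (Adeq.pt B) y₀ := ⟨_, rfl⟩
      obtain ⟨v, hv⟩ : ∃ v : ((Adeq.underline A).obj M).obj (Adeq.pt B),
          v = (LinearMap.fst A M P).baseChange B wt - r₀ := ⟨_, rfl⟩
      obtain ⟨x, hx⟩ : ∃ x : S.X₁.obj (Adeq.pt B), e.hom.app (Adeq.pt B) x = v :=
        ⟨e.inv.app (Adeq.pt B) v, congrArg (fun φ => (φ.app (Adeq.pt B)) v) e.inv_hom_id⟩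
      refine ⟨y₀ + S.f.app (Adeq.pt B) x, ?_⟩
      have hρy : (ρ.app (Adeq.pt B) (y₀ + S.f.app (Adeq.pt B) x) :
          (B : Type u) ⊗[A] (M : Type (u + 1))) = (LinearMap.fst A M P).baseChange B wt := by
        rw [app_add, hρf, hx, hv, ← hr₀]
        exact add_sub_cancel r₀ ((LinearMap.fst A M P).baseChange B wt)
      have hgy : S.g.app (Adeq.pt B) (y₀ + S.f.app (Adeq.pt B) x) = ℓ := by
        rw [app_add, hy₀, MVFKernel.pointwise_comp_zero S.f S.g S.zero, add_zero]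
      refine (hθapp B _).trans ?_
      rw [hρy, hgy, hℓ]
      exact (L3 (B : Type u) (M : Type (u + 1)) (P : Type (u + 1)) wt).trans hwt
  exact ⟨QM M P, P', phiQ M T₀, key⟩

theorem main_aux (S : ShortComplex (Adeq.MVF A)) (hS : S.ShortExact)
    (M : ModuleCat.{u + 1} A) (e : S.X₁ ≅ (Adeq.underline A).obj M)
    (P P' : ModuleCat.{u + 1} A) (T₀ : P ⟶ P') (κ : S.X₃ ⟶ (Adeq.underline A).obj P)
    (hκinj : ∀ X, Function.Injective (κ.app X))
    (hκzero : ∀ X (x : S.X₃.obj X), ((Adeq.underline A).map T₀).app X (κ.app X x) = 0)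
    (hκex : ∀ X (y : ((Adeq.underline A).obj P).obj X),
      ((Adeq.underline A).map T₀).app X y = 0 → ∃ x : S.X₃.obj X, κ.app X x = y)
    {m n : ℕ} (b : Module.Basis (Fin n) A P) (b' : Module.Basis (Fin m) A P')
    (T : Fin m → Fin n → A) (hT : ∀ i, T₀.hom (b i) = ∑ j, T j i • b' j) :
    Nonempty S.Splitting ∧ Adeq.adequate A S.X₂ := by
  have := hS.mono_f
  have := hS.epi_g
  obtain ⟨i, hidef⟩ : ∃ i : (Adeq.underline A).obj M ⟶ S.X₂, i = e.inv ≫ S.f := ⟨_, rfl⟩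
  have hi : ∀ X, Function.Injective (i.app X) := by
    intro X
    rw [hidef]
    exact PresheafOfModules.injective_of_mono _ X
  have hπ : ∀ X, Function.Surjective (S.g.app X) := fun X =>
    PresheafOfModules.surjective_of_epi S.g X
  have hiw : i ≫ S.g = 0 := by rw [hidef, Category.assoc, S.zero, comp_zero]
  have hzero : ∀ X (w : ((Adeq.underline A).obj M).obj X), S.g.app X (i.app X w) = 0 :=
    fun X w => MVFKernel.pointwise_comp_zero i S.g hiw X w
  have hex : ∀ X (y : S.X₂.obj X), S.g.app X y = 0 →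
      ∃ w : ((Adeq.underline A).obj M).obj X, i.app X w = y := by
    intro X y hy
    obtain ⟨x, hx⟩ := MVFKernel.pointwise_exact_gen S hS.exact X y hy
    refine ⟨e.hom.app X x, ?_⟩
    have h1 : e.hom ≫ i = S.f := by
      rw [hidef, ← Category.assoc, e.hom_inv_id, Category.id_comp]
    have h2 : i.app X (e.hom.app X x) = S.f.app X x := congrArg (fun φ => (φ.app X) x) h1
    exact h2.trans hx
  obtain ⟨ξ, hξκ⟩ := D1 T T₀ κ hκex b b' hT (CqB T) (xb T) (rel T)
  have hrep := rep_exists_unique T κ hκinj b ξ hξκ (D2 T T₀ κ hκzero b b' hT)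
    (fun B c c' h => coords_unique b B c c' h)
  have hξ := xi_homog T κ hκinj b ξ hξκ
  obtain ⟨η₀, hη₀⟩ := hπ (Adeq.pt (CqB T)) ξ
  obtain ⟨η₁, hη₁, hη₁h⟩ := exists_homog_lift i S.g hi hzero hex (CqB T) (sHB T)
    (sHB_coassoc T) ξ hξ η₀ hη₀
  have hadd := sig_add_of_pair hrep η₁ i S.g hi hex hη₁ (sHB T) hξ hη₁h (CqB (Tpair T))
    (j1B T) (j2B T) (j0B T) (sHB (Tpair T)) (j1B_sH T) (j2B_sH T) (p1B T) (p2B T)
    (j0_zero T κ hκinj b ξ hξκ) (j1B_p1 T) (j2B_p1 T) (j1B_p2 T) (j2B_p2 T) (pairB T)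
    (deg1B T M)
  obtain ⟨σ, hσ⟩ := exists_hom_of_fun (sig hrep η₁) hadd
    (sig_smul hrep η₁ (sHB T) hξ hη₁h) (fun g x => sig_nat hrep η₁ g x)
  have hσg : σ ≫ S.g = 𝟙 S.X₃ := by
    ext X k
    obtain ⟨B, rfl⟩ : ∃ B : Adeq.Alg A, X = Adeq.pt B := ⟨X.unop.unop, rfl⟩
    exact (congrArg (fun t => S.g.app (Adeq.pt B) t) (hσ B k)).trans
      (sig_sec hrep η₁ S.g hη₁ B k)
  have spl : S.Splitting := ShortComplex.Splitting.ofExactOfSection S hS.exact σ hσg hS.mono_f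
  exact ⟨⟨spl⟩, adequate_of_split S hS spl M e P P' T₀ κ hκinj hκzero hκex⟩

theorem main (A : Type u) [CommRing A] (S : ShortComplex (Adeq.MVF A)) (hS : S.ShortExact)
    (M : ModuleCat.{u + 1} A) (e : S.X₁ ≅ (Adeq.underline A).obj M)
    (hL : Adeq.linAdequate A S.X₃) : Nonempty S.Splitting ∧ Adeq.adequate A S.X₂ := by
  classical
  obtain ⟨P, P', T₀, hfP, hfrP, hfP', hfrP', ⟨e₃⟩⟩ := hL
  have := hfP
  have := hfrP
  have := hfP'
  have := hfrP'
  obtain ⟨κ, hκinj, hκzero, hκex⟩ :=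
    MVFKernel.exists_pointwise_of_iso_kernel ((Adeq.underline A).map T₀) e₃
  obtain ⟨n, ⟨b⟩⟩ : ∃ n : ℕ, Nonempty (Module.Basis (Fin n) A P) :=
    ⟨_, ⟨(Module.Free.chooseBasis A P).reindex (Fintype.equivFin _)⟩⟩
  obtain ⟨m, ⟨b'⟩⟩ : ∃ m : ℕ, Nonempty (Module.Basis (Fin m) A P') :=
    ⟨_, ⟨(Module.Free.chooseBasis A P').reindex (Fintype.equivFin _)⟩⟩
  obtain ⟨T, hTdef⟩ : ∃ T : Fin m → Fin n → A, T = fun j i => b'.repr (T₀.hom (b i)) j :=
    ⟨_, rfl⟩
  have hT : ∀ i, T₀.hom (b i) = ∑ j, T j i • b' j := by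
    intro i
    rw [hTdef]
    exact (b'.sum_repr _).symm
  exact main_aux S hS M e P P' T₀ κ hκinj hκzero hκex b b' T hT

end Final

end

end Groth.Agent.Lib.Helper92.AdeqSplit
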