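import Groth.Prelude.Def_Adeq
import Mathlib
import Groth.Agent.Lib.Helper92.MVFKernel
import Groth.Agent.Lib.Helper92.LinAdeq
import Groth.Agent.Lib.Helper92.AdeqSplit
import Groth.Agent.Lib.Helper92.AdeqColim

/-!
# Extensions of adequate functors are adequate (Stacks 46.3.16)
-/

set_option autoImplicit false

universe u

open CategoryTheory Limits TensorProduct

namespace Groth.Agent.Lib.Helper92.AdeqExt

open Groth.Agent.Lib.Helper92.LinAdeq Groth.Agent.Lib.Helper92.AdeqSplit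

noncomputable section

section Lift

variable {A : Type u} [CommRing A] {G H L : Adeq.MVF A} {CB : Adeq.Alg A}
  {ξ : L.obj (Adeq.pt CB)}
  (hrep : ∀ (B : Adeq.Alg A) (k : L.obj (Adeq.pt B)), ∃! f : CB ⟶ B, mp L f ξ = k)
  (η₁ : G.obj (Adeq.pt CB))

theorem sig_sec' (π : G ⟶ H) (p : L ⟶ H)
    (hη₁ : π.app (Adeq.pt CB) η₁ = p.app (Adeq.pt CB) ξ) (B : Adeq.Alg A)
    (k : L.obj (Adeq.pt B)) : π.app (Adeq.pt B) (sig hrep η₁ B k) = p.app (Adeq.pt B) k := by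
  unfold sig
  rw [mp_nat, hη₁, ← mp_nat, fOf_spec]

theorem Dd_pi' (π : G ⟶ H) (p : L ⟶ H)
    (hη₁ : π.app (Adeq.pt CB) η₁ = p.app (Adeq.pt CB) ξ) (B : Adeq.Alg A)
    (k k' : L.obj (Adeq.pt B)) : π.app (Adeq.pt B) (Dd hrep η₁ B k k') = 0 := by
  unfold Dd
  rw [app_sub, app_sub, sig_sec' hrep η₁ π p hη₁, sig_sec' hrep η₁ π p hη₁,
    sig_sec' hrep η₁ π p hη₁, app_add]
  abel

theorem sig_add_of_pair' {M : ModuleCat.{u + 1} A}
    (i : (Adeq.underline A).obj M ⟶ G) (π : G ⟶ H) (p : L ⟶ H)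
    (hi : ∀ X, Function.Injective (i.app X))
    (hex : ∀ X (y : G.obj X), π.app X y = 0 →
      ∃ w : ((Adeq.underline A).obj M).obj X, i.app X w = y)
    (hη₁ : π.app (Adeq.pt CB) η₁ = p.app (Adeq.pt CB) ξ)
    (sH : CB ⟶ PB CB) (hξ : mp L sH ξ = Xs CB • mp L (incH CB) ξ)
    (hη₁h : mp G sH η₁ = Xs CB • mp G (incH CB) η₁)
    (C2 : Adeq.Alg A) (j₁ j₂ j₀ : CB ⟶ C2) (sH2 : C2 ⟶ PB C2)
    (hj₁ : j₁ ≫ sH2 = sH ≫ polyMap j₁) (hj₂ : j₂ ≫ sH2 = sH ≫ polyMap j₂)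
    (p₁ p₂ : C2 ⟶ C2) (hj₀ : mp L j₀ ξ = 0)
    (h11 : j₁ ≫ p₁ = j₁) (h12 : j₂ ≫ p₁ = j₀) (h21 : j₁ ≫ p₂ = j₀) (h22 : j₂ ≫ p₂ = j₂)
    (hpair : ∀ (B : Adeq.Alg A) (f f' : CB ⟶ B), ∃ g : C2 ⟶ B, j₁ ≫ g = f ∧ j₂ ≫ g = f')
    (hdeg1 : ∀ z : (C2 : Type u) ⊗[A] (M : Type (u + 1)),
      sH2.hom.toLinearMap.rTensor M z = Xs C2 • ((incH C2).hom.toLinearMap.rTensor M z) →
      z = p₁.hom.toLinearMap.rTensor M z + p₂.hom.toLinearMap.rTensor M z)
    (B : Adeq.Alg A) (k k' : L.obj (Adeq.pt B)) :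
    sig hrep η₁ B (k + k') = sig hrep η₁ B k + sig hrep η₁ B k' := by
  obtain ⟨k₁, hk₁⟩ : ∃ k₁ : L.obj (Adeq.pt C2), k₁ = mp L j₁ ξ := ⟨_, rfl⟩
  obtain ⟨k₂, hk₂⟩ : ∃ k₂ : L.obj (Adeq.pt C2), k₂ = mp L j₂ ξ := ⟨_, rfl⟩
  have homog_push : ∀ (j : CB ⟶ C2), j ≫ sH2 = sH ≫ polyMap j →
      mp L sH2 (mp L j ξ) = Xs C2 • mp L (incH C2) (mp L j ξ) := by
    intro j hj
    rw [mp_comp L j sH2 ξ, hj, ← mp_comp L sH (polyMap j) ξ, hξ, mp_smul, polyMap_X,
      mp_comp L (incH CB) (polyMap j) ξ, incH_polyMap, ← mp_comp L j (incH C2) ξ]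
  have hk₁h : mp L sH2 k₁ = Xs C2 • mp L (incH C2) k₁ := by
    rw [hk₁]
    exact homog_push j₁ hj₁
  have hk₂h : mp L sH2 k₂ = Xs C2 • mp L (incH C2) k₂ := by
    rw [hk₂]
    exact homog_push j₂ hj₂
  obtain ⟨uu, hu⟩ : ∃ uu : G.obj (Adeq.pt C2), uu = Dd hrep η₁ C2 k₁ k₂ := ⟨_, rfl⟩
  have hπu : π.app (Adeq.pt C2) uu = 0 := by
    rw [hu]
    exact Dd_pi' hrep η₁ π p hη₁ C2 k₁ k₂
  obtain ⟨z, hz⟩ := hex (Adeq.pt C2) uu hπu
  have huh : mp G sH2 uu = Xs C2 • mp G (incH C2) uu := by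
    rw [hu, Dd_nat, hk₁h, hk₂h, Dd_smul hrep η₁ sH hξ hη₁h, ← Dd_nat]
  have hzh' : mp ((Adeq.underline A).obj M) sH2 z =
      Xs C2 • mp ((Adeq.underline A).obj M) (incH C2) z := by
    apply hi (Adeq.pt (PB C2))
    rw [LinAdeq.app_smul, mp_nat, mp_nat, hz]
    exact huh
  have hsplit := hdeg1 z hzh'
  have hp₁ : mp ((Adeq.underline A).obj M) p₁ z = 0 := by
    apply hi (Adeq.pt C2)
    rw [app_zero, mp_nat, hz, hu, Dd_nat]
    have e1 : mp L p₁ k₁ = k₁ := by rw [hk₁, mp_comp, h11]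
    have e2 : mp L p₁ k₂ = 0 := by rw [hk₂, mp_comp, h12, hj₀]
    rw [e1, e2]
    exact Dd_zero_right hrep η₁ sH hξ hη₁h C2 k₁
  have hp₂ : mp ((Adeq.underline A).obj M) p₂ z = 0 := by
    apply hi (Adeq.pt C2)
    rw [app_zero, mp_nat, hz, hu, Dd_nat]
    have e1 : mp L p₂ k₁ = 0 := by rw [hk₁, mp_comp, h21, hj₀]
    have e2 : mp L p₂ k₂ = k₂ := by rw [hk₂, mp_comp, h22]
    rw [e1, e2]
    exact Dd_zero_left hrep η₁ sH hξ hη₁h C2 k₂
  have h1 : p₁.hom.toLinearMap.rTensor M z = 0 := hp₁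
  have h2 : p₂.hom.toLinearMap.rTensor M z = 0 := hp₂
  rw [h1, h2, add_zero] at hsplit
  have hu0 : uu = 0 := by
    rw [← hz]
    have h3 : i.app (Adeq.pt C2) z = i.app (Adeq.pt C2) 0 := congrArg _ hsplit
    exact h3.trans (app_zero i C2)
  obtain ⟨g, hg₁, hg₂⟩ := hpair B (fOf hrep B k) (fOf hrep B k')
  have e1 : mp L g k₁ = k := by rw [hk₁, mp_comp, hg₁, fOf_spec]
  have e2 : mp L g k₂ = k' := by rw [hk₂, mp_comp, hg₂, fOf_spec]
  have hD : Dd hrep η₁ B k k' = 0 := by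
    have h4 := Dd_nat hrep η₁ g k₁ k₂
    rw [e1, e2, ← hu, hu0, mp_zero] at h4
    exact h4.symm
  unfold Dd at hD
  exact eq_add_of_sub_eq' (sub_eq_zero.mp hD)


end Lift

section LiftMain

variable {A : Type u} [CommRing A]

theorem exists_lift_aux {G H Λ : Adeq.MVF A} {M : ModuleCat.{u + 1} A}
    (i : (Adeq.underline A).obj M ⟶ G) (π : G ⟶ H)
    (hi : ∀ X, Function.Injective (i.app X)) (hπ : ∀ X, Function.Surjective (π.app X))
    (hzero : ∀ X (w : ((Adeq.underline A).obj M).obj X), π.app X (i.app X w) = 0)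
    (hex : ∀ X (y : G.obj X), π.app X y = 0 →
      ∃ w : ((Adeq.underline A).obj M).obj X, i.app X w = y)
    (p : Λ ⟶ H)
    (P P' : ModuleCat.{u + 1} A) (T₀ : P ⟶ P') (κ : Λ ⟶ (Adeq.underline A).obj P)
    (hκinj : ∀ X, Function.Injective (κ.app X))
    (hκzero : ∀ X (x : Λ.obj X), ((Adeq.underline A).map T₀).app X (κ.app X x) = 0)
    (hκex : ∀ X (y : ((Adeq.underline A).obj P).obj X),
      ((Adeq.underline A).map T₀).app X y = 0 → ∃ x : Λ.obj X, κ.app X x = y)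
    {m n : ℕ} (b : Module.Basis (Fin n) A P) (b' : Module.Basis (Fin m) A P')
    (T : Fin m → Fin n → A) (hT : ∀ i, T₀.hom (b i) = ∑ j, T j i • b' j) :
    ∃ s : Λ ⟶ G, s ≫ π = p := by
  obtain ⟨ξ, hξκ⟩ := D1 T T₀ κ hκex b b' hT (CqB T) (xb T) (rel T)
  have hrep := rep_exists_unique T κ hκinj b ξ hξκ (D2 T T₀ κ hκzero b b' hT)
    (fun B c c' h => coords_unique b B c c' h)
  have hξ := xi_homog T κ hκinj b ξ hξκ
  have hξ' : mp H (sHB T) (p.app (Adeq.pt (CqB T)) ξ) =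
      Xs (CqB T) • mp H (incH (CqB T)) (p.app (Adeq.pt (CqB T)) ξ) := by
    rw [← mp_nat, hξ, LinAdeq.app_smul, mp_nat]
  obtain ⟨η₀, hη₀⟩ := hπ (Adeq.pt (CqB T)) (p.app (Adeq.pt (CqB T)) ξ)
  obtain ⟨η₁, hη₁, hη₁h⟩ := exists_homog_lift i π hi hzero hex (CqB T) (sHB T)
    (sHB_coassoc T) (p.app (Adeq.pt (CqB T)) ξ) hξ' η₀ hη₀
  have hadd := sig_add_of_pair' hrep η₁ i π p hi hex hη₁ (sHB T) hξ hη₁h (CqB (Tpair T))
    (j1B T) (j2B T) (j0B T) (sHB (Tpair T)) (j1B_sH T) (j2B_sH T) (p1B T) (p2B T)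
    (j0_zero T κ hκinj b ξ hξκ) (j1B_p1 T) (j2B_p1 T) (j1B_p2 T) (j2B_p2 T) (pairB T)
    (deg1B T M)
  obtain ⟨σ, hσ⟩ := exists_hom_of_fun (sig hrep η₁) hadd
    (sig_smul hrep η₁ (sHB T) hξ hη₁h) (fun g x => sig_nat hrep η₁ g x)
  refine ⟨σ, ?_⟩
  ext X k
  obtain ⟨B, rfl⟩ : ∃ B : Adeq.Alg A, X = Adeq.pt B := ⟨X.unop.unop, rfl⟩
  exact (congrArg (fun t => π.app (Adeq.pt B) t) (hσ B k)).trans
    (sig_sec' hrep η₁ π p hη₁ B k)

theorem exists_lift_of_linAdequate {G H Λ : Adeq.MVF A} {M : ModuleCat.{u + 1} A}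
    (i : (Adeq.underline A).obj M ⟶ G) (π : G ⟶ H)
    (hi : ∀ X, Function.Injective (i.app X)) (hπ : ∀ X, Function.Surjective (π.app X))
    (hzero : ∀ X (w : ((Adeq.underline A).obj M).obj X), π.app X (i.app X w) = 0)
    (hex : ∀ X (y : G.obj X), π.app X y = 0 →
      ∃ w : ((Adeq.underline A).obj M).obj X, i.app X w = y)
    (hΛ : Adeq.linAdequate A Λ) (p : Λ ⟶ H) : ∃ s : Λ ⟶ G, s ≫ π = p := by
  classical
  obtain ⟨P, P', T₀, hfP, hfrP, hfP', hfrP', ⟨e₃⟩⟩ := hΛ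
  have := hfP
  have := hfrP
  have := hfP'
  have := hfrP'
  obtain ⟨κ, hκinj, hκzero, hκex⟩ :=
    MVFKernel.exists_pointwise_of_iso_kernel ((Adeq.underline A).map T₀) e₃
  obtain ⟨n, ⟨b⟩⟩ : ∃ n : ℕ, Nonempty (Module.Basis (Fin n) A P) :=
    ⟨_, ⟨(Module.Free.chooseBasis A P).reindex (Fintype.equivFin _)⟩⟩
  obtain ⟨m, ⟨b'⟩⟩ : ∃ m : ℕ, Nonempty (Module.Basis (Fin m) A P') :=
    ⟨_, ⟨(Module.Free.chooseBasis A P').reindex (Fintype.equivFin _)⟩⟩
  obtain ⟨T, hTdef⟩ : ∃ T : Fin m → Fin n → A, T = fun j i => b'.repr (T₀.hom (b i)) j :=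
    ⟨_, rfl⟩
  have hT : ∀ i, T₀.hom (b i) = ∑ j, T j i • b' j := by
    intro i
    rw [hTdef]
    exact (b'.sum_repr _).symm
  exact exists_lift_aux i π hi hπ hzero hex p P P' T₀ κ hκinj hκzero hκex b b' T hT

end LiftMain

section Pointwise

variable {A : Type u} [CommRing A]

theorem pw1 {F G H : Adeq.MVF A} {f : F ⟶ G} {g : G ⟶ H} {k : F ⟶ H} (h : f ≫ g = k)
    (X : (Adeq.Alg A)ᵒᵖᵒᵖ) (x : F.obj X) : g.app X (f.app X x) = k.app X x :=
  congrArg (fun φ : F ⟶ H => (φ.app X) x) h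

theorem pw2 {F G G' H : Adeq.MVF A} {f : F ⟶ G} {g : G ⟶ H} {f' : F ⟶ G'} {g' : G' ⟶ H}
    (h : f ≫ g = f' ≫ g') (X : (Adeq.Alg A)ᵒᵖᵒᵖ) (x : F.obj X) :
    g.app X (f.app X x) = g'.app X (f'.app X x) :=
  congrArg (fun φ : F ⟶ H => (φ.app X) x) h

theorem pw_id {F G : Adeq.MVF A} {f : F ⟶ G} {g : G ⟶ F} (h : f ≫ g = 𝟙 F)
    (X : (Adeq.Alg A)ᵒᵖᵒᵖ) (x : F.obj X) : g.app X (f.app X x) = x :=
  congrArg (fun φ : F ⟶ F => (φ.app X) x) h

theorem pw_zero {F G H : Adeq.MVF A} {f : F ⟶ G} {g : G ⟶ H} (h : f ≫ g = 0)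
    (X : (Adeq.Alg A)ᵒᵖᵒᵖ) (x : F.obj X) : g.app X (f.app X x) = 0 :=
  MVFKernel.pointwise_comp_zero f g h X x

theorem appX_add {F F' : Adeq.MVF A} (θ : F ⟶ F') (X : (Adeq.Alg A)ᵒᵖᵒᵖ) (x y : F.obj X) :
    θ.app X (x + y) = θ.app X x + θ.app X y := (θ.app X).hom.map_add x y

theorem appX_sub {F F' : Adeq.MVF A} (θ : F ⟶ F') (X : (Adeq.Alg A)ᵒᵖᵒᵖ) (x y : F.obj X) :
    θ.app X (x - y) = θ.app X x - θ.app X y := (θ.app X).hom.map_sub x y

theorem appX_zero {F F' : Adeq.MVF A} (θ : F ⟶ F') (X : (Adeq.Alg A)ᵒᵖᵒᵖ) :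
    θ.app X (0 : F.obj X) = 0 := (θ.app X).hom.map_zero

theorem inj_of_ker {F F' : Adeq.MVF A} (θ : F ⟶ F') (X : (Adeq.Alg A)ᵒᵖᵒᵖ)
    (h : ∀ x : F.obj X, θ.app X x = 0 → x = 0) : Function.Injective (θ.app X) := by
  intro x y hxy
  have h1 : θ.app X (x - y) = 0 := by rw [appX_sub, hxy, sub_self]
  exact sub_eq_zero.mp (h _ h1)

theorem bd_ext {E X₁ X₂ : Adeq.MVF A} (pf : E ⟶ X₁) (ps : E ⟶ X₂) (il : X₁ ⟶ E) (ir : X₂ ⟶ E)
    (htot : pf ≫ il + ps ≫ ir = 𝟙 E) (Z : (Adeq.Alg A)ᵒᵖᵒᵖ) (e e' : E.obj Z)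
    (h1 : pf.app Z e = pf.app Z e') (h2 : ps.app Z e = ps.app Z e') : e = e' := by
  have t1 : il.app Z (pf.app Z e) + ir.app Z (ps.app Z e) = e :=
    congrArg (fun φ : E ⟶ E => (φ.app Z) e) htot
  have t2 : il.app Z (pf.app Z e') + ir.app Z (ps.app Z e') = e' :=
    congrArg (fun φ : E ⟶ E => (φ.app Z) e') htot
  rw [← t1, ← t2, h1, h2]

theorem nonempty_iso_cokernel {F G H : Adeq.MVF A} (ψ : F ⟶ G) (θ : G ⟶ H)
    (hsurj : ∀ X, Function.Surjective (θ.app X))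
    (hzero : ∀ X (x : F.obj X), θ.app X (ψ.app X x) = 0)
    (hex : ∀ X (y : G.obj X), θ.app X y = 0 → ∃ x : F.obj X, ψ.app X x = y) :
    Nonempty (cokernel ψ ≅ H) := by
  have w : ψ ≫ θ = 0 := by
    ext X x
    exact hzero X x
  have hepiθ : Epi θ := PresheafOfModules.epi_of_surjective (fun X => hsurj X)
  obtain ⟨l, hl⟩ : ∃ l : cokernel ψ ⟶ H, cokernel.π ψ ≫ l = θ :=
    ⟨cokernel.desc ψ θ w, cokernel.π_desc ψ θ w⟩
  have hepi : Epi l := by
    have : Epi (cokernel.π ψ ≫ l) := by rw [hl]; exact hepiθ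
    exact epi_of_epi (cokernel.π ψ) l
  have hmono : Mono l := by
    apply PresheafOfModules.mono_of_injective
    intro X
    apply inj_of_ker
    intro c hc
    obtain ⟨g, hg⟩ := PresheafOfModules.surjective_of_epi (cokernel.π ψ) X c
    have h2 : l.app X ((cokernel.π ψ).app X g) = θ.app X g := pw1 hl X g
    rw [hg, hc] at h2
    obtain ⟨x, hx⟩ := hex X g h2.symm
    rw [← hg, ← hx]
    exact pw_zero (cokernel.condition ψ) X x
  have : IsIso l := isIso_of_mono_of_epi l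
  exact ⟨asIso l⟩

theorem exists_iso_kernel_compat {F G H : Adeq.MVF A} (θ : F ⟶ G) (ψ : G ⟶ H)
    (hinj : ∀ X, Function.Injective (θ.app X))
    (hzero : ∀ X (x : F.obj X), ψ.app X (θ.app X x) = 0)
    (hex : ∀ X (y : G.obj X), ψ.app X y = 0 → ∃ x : F.obj X, θ.app X x = y) :
    ∃ l : F ≅ kernel ψ, l.hom ≫ kernel.ι ψ = θ := by
  have w : θ ≫ ψ = 0 := by
    ext X x
    exact hzero X x
  have hmonoθ : Mono θ := PresheafOfModules.mono_of_injective (fun X => hinj X)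
  obtain ⟨l, hl⟩ : ∃ l : F ⟶ kernel ψ, l ≫ kernel.ι ψ = θ :=
    ⟨kernel.lift ψ θ w, kernel.lift_ι ψ θ w⟩
  have hmono : Mono l := mono_of_mono_fac hl
  have hepi : Epi l := by
    apply PresheafOfModules.epi_of_surjective
    intro X k
    have hk0 : ψ.app X ((kernel.ι ψ).app X k) = 0 := pw_zero (kernel.condition ψ) X k
    obtain ⟨x, hx⟩ := hex X _ hk0
    refine ⟨x, ?_⟩
    apply PresheafOfModules.injective_of_mono (kernel.ι ψ) X
    exact (pw1 hl X x).trans hx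
  have : IsIso l := isIso_of_mono_of_epi l
  exact ⟨asIso l, hl⟩

theorem adequate_underline (M : ModuleCat.{u + 1} A) :
    Adeq.adequate A ((Adeq.underline A).obj M) := by
  refine ⟨M, M, 0, ?_⟩
  apply MVFKernel.nonempty_iso_kernel (𝟙 _) ((Adeq.underline A).map (0 : M ⟶ M))
  · intro X x y h
    exact h
  · intro X x
    rw [Functor.map_zero]
    rfl
  · intro X y _
    exact ⟨y, rfl⟩

theorem adequate_of_lin {F : Adeq.MVF A} (h : Adeq.linAdequate A F) : Adeq.adequate A F := by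
  obtain ⟨M, N, φ, _, _, _, _, he⟩ := h
  exact ⟨M, N, φ, he⟩

end Pointwise


section Ext

variable {A : Type u} [CommRing A]

theorem adequate_ext_und {G H : Adeq.MVF A} {M : ModuleCat.{u + 1} A}
    (i : (Adeq.underline A).obj M ⟶ G) (π : G ⟶ H)
    (hi : ∀ X, Function.Injective (i.app X)) (hπ : ∀ X, Function.Surjective (π.app X))
    (hzero : ∀ X (w : ((Adeq.underline A).obj M).obj X), π.app X (i.app X w) = 0)
    (hex : ∀ X (y : G.obj X), π.app X y = 0 →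
      ∃ w : ((Adeq.underline A).obj M).obj X, i.app X w = y)
    (hH : Adeq.adequate A H)
    (hker : ∀ {F G : Adeq.MVF A} (φ : F ⟶ G), Adeq.adequate A F → Adeq.adequate A G →
      Adeq.adequate A (kernel φ))
    (hcoker : ∀ {F G : Adeq.MVF A} (φ : F ⟶ G), Adeq.adequate A F → Adeq.adequate A G →
      Adeq.adequate A (cokernel φ))
    (hcover : ∃ (ι : Type (u + 1)) (Lf : ι → Adeq.MVF A), (∀ i, Adeq.linAdequate A (Lf i)) ∧
      ∃ (c : Cofan Lf) (_ : IsColimit c) (p : c.pt ⟶ H), Epi p) :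
    Adeq.adequate A G := by
  obtain ⟨ι, Lf, hLf, c, hc, p, hp⟩ := hcover
  have hlift : ∀ j, ∃ s : Lf j ⟶ G, s ≫ π = c.inj j ≫ p := fun j =>
    exists_lift_of_linAdequate i π hi hπ hzero hex (hLf j) (c.inj j ≫ p)
  choose sf hsf using hlift
  obtain ⟨s, hs⟩ : ∃ s : c.pt ⟶ G, ∀ j, c.inj j ≫ s = sf j :=
    ⟨Cofan.IsColimit.desc hc sf, fun j => Cofan.IsColimit.fac hc sf j⟩
  have hsp : s ≫ π = p := by
    apply Cofan.IsColimit.hom_ext hc
    intro j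
    rw [← Category.assoc, hs, hsf]
  have hL : Adeq.adequate A c.pt := by
    have h1 : Adeq.adequate A (∐ Lf) :=
      AdeqColim.adequate_sigma A Lf (fun j => adequate_of_lin (hLf j))
    exact (Adeq.adequate A).prop_of_iso ((colimit.isColimit _).coconePointUniqueUpToIso hc) h1
  have hK : Adeq.adequate A (kernel p) := hker p hL hH
  obtain ⟨l, hl⟩ := exists_iso_kernel_compat i π hi hzero hex
  have hw : (kernel.ι p ≫ s) ≫ π = 0 := by rw [Category.assoc, hsp, kernel.condition]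
  obtain ⟨sbar, hsbar⟩ : ∃ sbar : kernel p ⟶ (Adeq.underline A).obj M,
      sbar ≫ i = kernel.ι p ≫ s := by
    refine ⟨kernel.lift π (kernel.ι p ≫ s) hw ≫ l.inv, ?_⟩
    have h1 : l.inv ≫ i = kernel.ι π := by
      rw [← hl, ← Category.assoc, l.inv_hom_id, Category.id_comp]
    rw [Category.assoc, h1, kernel.lift_ι]
  -- the direct sum
  have hE : Adeq.adequate A ((Adeq.underline A).obj M ⊞ c.pt) := by
    obtain ⟨ML, NL, φL, ⟨eL⟩⟩ := hL
    obtain ⟨κL, hκLinj, hκLzero, hκLex⟩ :=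
      MVFKernel.exists_pointwise_of_iso_kernel ((Adeq.underline A).map φL) eL
    have spl' := ShortComplex.Splitting.ofHasBinaryBiproduct ((Adeq.underline A).obj M) c.pt
    exact adequate_of_split _ spl'.shortExact spl' M (Iso.refl _) ML NL φL κL hκLinj hκLzero
      hκLex
  obtain ⟨E, hEad, pf, ps, il, ir, h_il_pf, h_il_ps, h_ir_pf, h_ir_ps, htot⟩ :
      ∃ (E : Adeq.MVF A) (_ : Adeq.adequate A E) (pf : E ⟶ (Adeq.underline A).obj M)
        (ps : E ⟶ c.pt) (il : (Adeq.underline A).obj M ⟶ E) (ir : c.pt ⟶ E),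
        il ≫ pf = 𝟙 _ ∧ il ≫ ps = 0 ∧ ir ≫ pf = 0 ∧ ir ≫ ps = 𝟙 _ ∧
          pf ≫ il + ps ≫ ir = 𝟙 E :=
    ⟨(Adeq.underline A).obj M ⊞ c.pt, hE, biprod.fst, biprod.snd, biprod.inl, biprod.inr,
      biprod.inl_fst, biprod.inl_snd, biprod.inr_fst, biprod.inr_snd, biprod.total⟩
  obtain ⟨ψ, hψdef⟩ : ∃ ψ : kernel p ⟶ E, ψ = sbar ≫ il + kernel.ι p ≫ ir := ⟨_, rfl⟩
  have hψ₁ : ψ ≫ pf = sbar := by
    rw [hψdef, Preadditive.add_comp, Category.assoc, Category.assoc, h_il_pf, h_ir_pf,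
      Category.comp_id, comp_zero, add_zero]
  have hψ₂ : ψ ≫ ps = kernel.ι p := by
    rw [hψdef, Preadditive.add_comp, Category.assoc, Category.assoc, h_il_ps, h_ir_ps,
      comp_zero, Category.comp_id, zero_add]
  obtain ⟨t, htapp, hψt⟩ : ∃ t : E ⟶ G, (∀ X (e : E.obj X),
      t.app X e = i.app X (pf.app X e) - s.app X (ps.app X e)) ∧ ψ ≫ t = 0 := by
    refine ⟨pf ≫ i - ps ≫ s, fun X e => rfl, ?_⟩
    rw [Preadditive.comp_sub, ← Category.assoc, ← Category.assoc, hψ₁, hψ₂, hsbar, sub_self]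
  have key : Nonempty (cokernel ψ ≅ G) := by
    apply nonempty_iso_cokernel ψ t
    · intro X y
      obtain ⟨ℓ, hℓ⟩ := PresheafOfModules.surjective_of_epi p X (π.app X (-y))
      have h1 : π.app X (y + s.app X ℓ) = 0 := by
        rw [appX_add, pw1 hsp X ℓ, hℓ, ← appX_add, add_neg_cancel, appX_zero]
      obtain ⟨w, hw⟩ := hex X _ h1
      refine ⟨il.app X w + ir.app X ℓ, ?_⟩
      rw [htapp, appX_add pf X, appX_add ps X, pw_id h_il_pf X w, pw_zero h_ir_pf X ℓ,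
        pw_zero h_il_ps X w, pw_id h_ir_ps X ℓ, add_zero, zero_add, hw]
      exact add_sub_cancel_right y (s.app X ℓ)
    · intro X k
      exact pw_zero hψt X k
    · intro X e he
      rw [htapp] at he
      have h1 : s.app X (ps.app X e) = i.app X (pf.app X e) := (sub_eq_zero.mp he).symm
      have h2 : p.app X (ps.app X e) = 0 := by
        rw [← pw1 hsp X, h1, hzero]
      have hSK : (ShortComplex.mk (kernel.ι p) p (kernel.condition p)).Exact :=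
        ShortComplex.exact_of_f_is_kernel _ (kernelIsKernel p)
      obtain ⟨k, hk⟩ := MVFKernel.pointwise_exact_gen _ hSK X (ps.app X e) h2
      have hk' : (kernel.ι p).app X k = ps.app X e := hk
      refine ⟨k, ?_⟩
      apply bd_ext pf ps il ir htot X
      · rw [pw1 hψ₁ X k]
        apply hi X
        rw [pw2 hsbar X k, hk', h1]
      · rw [pw1 hψ₂ X k, hk']
  obtain ⟨ec⟩ := key
  exact (Adeq.adequate A).prop_of_iso ec (hcoker ψ hK hEad)

theorem adequate_ext (S : ShortComplex (Adeq.MVF A)) (hS : S.ShortExact)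
    (h₁ : Adeq.adequate A S.X₁) (h₃ : Adeq.adequate A S.X₃)
    (hker : ∀ {F G : Adeq.MVF A} (φ : F ⟶ G), Adeq.adequate A F → Adeq.adequate A G →
      Adeq.adequate A (kernel φ))
    (hcoker : ∀ {F G : Adeq.MVF A} (φ : F ⟶ G), Adeq.adequate A F → Adeq.adequate A G →
      Adeq.adequate A (cokernel φ))
    (hcover : ∀ H : Adeq.MVF A, Adeq.adequate A H →
      ∃ (ι : Type (u + 1)) (Lf : ι → Adeq.MVF A), (∀ i, Adeq.linAdequate A (Lf i)) ∧
        ∃ (c : Cofan Lf) (_ : IsColimit c) (p : c.pt ⟶ H), Epi p) :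
    Adeq.adequate A S.X₂ := by
  have := hS.mono_f
  have := hS.epi_g
  have hSf : ∀ X, Function.Injective (S.f.app X) := fun X =>
    PresheafOfModules.injective_of_mono S.f X
  have hSg : ∀ X, Function.Surjective (S.g.app X) := fun X =>
    PresheafOfModules.surjective_of_epi S.g X
  have h₁' := h₁
  obtain ⟨M, N, φ, ⟨e₁⟩⟩ := h₁
  obtain ⟨j, hjinj, -, -⟩ :=
    MVFKernel.exists_pointwise_of_iso_kernel ((Adeq.underline A).map φ) e₁
  have huM : Adeq.adequate A ((Adeq.underline A).obj M) := adequate_underline M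
  have hQ : Adeq.adequate A (cokernel j) := hcoker j h₁' huM
  obtain ⟨E, pf, ps, il, ir, h_il_pf, h_il_ps, h_ir_pf, h_ir_ps, htot⟩ :
      ∃ (E : Adeq.MVF A) (pf : E ⟶ (Adeq.underline A).obj M)
        (ps : E ⟶ S.X₂) (il : (Adeq.underline A).obj M ⟶ E) (ir : S.X₂ ⟶ E),
        il ≫ pf = 𝟙 _ ∧ il ≫ ps = 0 ∧ ir ≫ pf = 0 ∧ ir ≫ ps = 𝟙 _ ∧
          pf ≫ il + ps ≫ ir = 𝟙 E :=
    ⟨(Adeq.underline A).obj M ⊞ S.X₂, biprod.fst, biprod.snd, biprod.inl, biprod.inr,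
      biprod.inl_fst, biprod.inl_snd, biprod.inr_fst, biprod.inr_snd, biprod.total⟩
  obtain ⟨α, hαdef⟩ : ∃ α : S.X₁ ⟶ E, α = j ≫ il + S.f ≫ ir := ⟨_, rfl⟩
  have hα₁ : α ≫ pf = j := by
    rw [hαdef, Preadditive.add_comp, Category.assoc, Category.assoc, h_il_pf, h_ir_pf,
      Category.comp_id, comp_zero, add_zero]
  have hα₂ : α ≫ ps = S.f := by
    rw [hαdef, Preadditive.add_comp, Category.assoc, Category.assoc, h_il_ps, h_ir_ps,
      comp_zero, Category.comp_id, zero_add]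
  have w₁ : α ≫ ps ≫ S.g = 0 := by rw [← Category.assoc, hα₂, S.zero]
  have w₂ : α ≫ pf ≫ cokernel.π j = 0 := by rw [← Category.assoc, hα₁, cokernel.condition]
  obtain ⟨π', hπ'⟩ : ∃ π' : cokernel α ⟶ S.X₃, cokernel.π α ≫ π' = ps ≫ S.g :=
    ⟨cokernel.desc α (ps ≫ S.g) w₁, cokernel.π_desc _ _ _⟩
  obtain ⟨β, hβ⟩ : ∃ β : cokernel α ⟶ cokernel j, cokernel.π α ≫ β = pf ≫ cokernel.π j :=
    ⟨cokernel.desc α (pf ≫ cokernel.π j) w₂, cokernel.π_desc _ _ _⟩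
  have hSc : (ShortComplex.mk α (cokernel.π α) (cokernel.condition α)).Exact :=
    ShortComplex.exact_of_g_is_cokernel _ (cokernelIsCokernel α)
  have hSj : (ShortComplex.mk j (cokernel.π j) (cokernel.condition j)).Exact :=
    ShortComplex.exact_of_g_is_cokernel _ (cokernelIsCokernel j)
  have hcex : ∀ X (e : E.obj X), (cokernel.π α).app X e = 0 →
      ∃ f : S.X₁.obj X, α.app X f = e := fun X e he =>
    MVFKernel.pointwise_exact_gen _ hSc X e he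
  have hjex : ∀ X (m : ((Adeq.underline A).obj M).obj X), (cokernel.π j).app X m = 0 →
      ∃ f : S.X₁.obj X, j.app X f = m := fun X m hm =>
    MVFKernel.pointwise_exact_gen _ hSj X m hm
  have hcsurj : ∀ X, Function.Surjective ((cokernel.π α).app X) := fun X =>
    PresheafOfModules.surjective_of_epi (cokernel.π α) X
  have hcα : ∀ X (f : S.X₁.obj X), (cokernel.π α).app X (α.app X f) = 0 := fun X f =>
    pw_zero (cokernel.condition α) X f
  -- key: elements congruent modulo the image of α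
  have hcong : ∀ X (e e' : E.obj X) (f : S.X₁.obj X), e - e' = α.app X f →
      (cokernel.π α).app X e = (cokernel.π α).app X e' := by
    intro X e e' f h
    have h4 := congrArg (fun t => (cokernel.π α).app X t) h
    beta_reduce at h4
    rw [appX_sub, hcα, sub_eq_zero] at h4
    exact h4
  obtain ⟨i', hi'app⟩ : ∃ i' : (Adeq.underline A).obj M ⟶ cokernel α,
      ∀ X (m : ((Adeq.underline A).obj M).obj X),
        i'.app X m = (cokernel.π α).app X (il.app X m) :=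
    ⟨il ≫ cokernel.π α, fun X m => rfl⟩
  obtain ⟨θ, hθapp⟩ : ∃ θ : S.X₂ ⟶ cokernel α,
      ∀ X (g : S.X₂.obj X), θ.app X g = (cokernel.π α).app X (ir.app X g) :=
    ⟨ir ≫ cokernel.π α, fun X g => rfl⟩
  -- the pushout is adequate
  have hG' : Adeq.adequate A (cokernel α) := by
    apply adequate_ext_und i' π' ?_ ?_ ?_ ?_ h₃ hker hcoker (hcover S.X₃ h₃)
    · intro X
      apply inj_of_ker
      intro m hm
      rw [hi'app] at hm
      obtain ⟨f, hf⟩ := hcex X _ hm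
      have h1 : S.f.app X f = 0 := by
        rw [← pw1 hα₂ X f, hf, pw_zero h_il_ps X m]
      have hf0 : f = 0 := hSf X (h1.trans (appX_zero S.f X).symm)
      have h2 : j.app X f = m := by
        rw [← pw1 hα₁ X f, hf, pw_id h_il_pf X m]
      rw [← h2, hf0, appX_zero]
    · intro X h
      obtain ⟨g, hg⟩ := hSg X h
      refine ⟨(cokernel.π α).app X (ir.app X g), ?_⟩
      rw [pw2 hπ' X (ir.app X g), pw_id h_ir_ps X g, hg]
    · intro X m
      rw [hi'app, pw2 hπ' X (il.app X m), pw_zero h_il_ps X m, appX_zero]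
    · intro X y hy
      obtain ⟨e, he⟩ := hcsurj X y
      have h1 : S.g.app X (ps.app X e) = 0 := by
        rw [← pw2 hπ' X e, he, hy]
      obtain ⟨f, hf⟩ := MVFKernel.pointwise_exact_gen S hS.exact X (ps.app X e) h1
      have hf' : S.f.app X f = ps.app X e := hf
      obtain ⟨w, hw⟩ : ∃ w : ((Adeq.underline A).obj M).obj X,
          w = pf.app X e - j.app X f := ⟨_, rfl⟩
      refine ⟨w, ?_⟩
      have h3 : e - il.app X w = α.app X f := by
        apply bd_ext pf ps il ir htot X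
        · rw [appX_sub, pw_id h_il_pf X w, pw1 hα₁ X f, hw]
          exact sub_sub_cancel _ _
        · rw [appX_sub, pw_zero h_il_ps X w, sub_zero, pw1 hα₂ X f, hf']
      rw [hi'app, ← hcong X e (il.app X w) f h3, he]
  have hKβ : Adeq.adequate A (kernel β) := hker β hG' hQ
  have key : Nonempty (S.X₂ ≅ kernel β) := by
    apply MVFKernel.nonempty_iso_kernel θ β
    · intro X
      apply inj_of_ker
      intro g hg
      rw [hθapp] at hg
      obtain ⟨f, hf⟩ := hcex X _ hg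
      have h1 : j.app X f = 0 := by
        rw [← pw1 hα₁ X f, hf, pw_zero h_ir_pf X g]
      have hf0 : f = 0 := hjinj X (h1.trans (appX_zero j X).symm)
      have h2 : S.f.app X f = g := by
        rw [← pw1 hα₂ X f, hf, pw_id h_ir_ps X g]
      rw [← h2, hf0, appX_zero]
    · intro X g
      rw [hθapp, pw2 hβ X (ir.app X g), pw_zero h_ir_pf X g, appX_zero]
    · intro X y hy
      obtain ⟨e, he⟩ := hcsurj X y
      have h1 : (cokernel.π j).app X (pf.app X e) = 0 := by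
        rw [← pw2 hβ X e, he, hy]
      obtain ⟨f, hf⟩ := hjex X _ h1
      obtain ⟨g, hg⟩ : ∃ g : S.X₂.obj X, g = ps.app X e - S.f.app X f := ⟨_, rfl⟩
      refine ⟨g, ?_⟩
      have h3 : e - ir.app X g = α.app X f := by
        apply bd_ext pf ps il ir htot X
        · rw [appX_sub, pw_zero h_ir_pf X g, sub_zero, pw1 hα₁ X f, hf]
        · rw [appX_sub, pw_id h_ir_ps X g, pw1 hα₂ X f, hg]
          exact sub_sub_cancel _ _
      rw [hθapp, ← hcong X e (ir.app X g) f h3, he]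
  obtain ⟨ek⟩ := key
  exact (Adeq.adequate A).prop_of_iso ek.symm hKβ

end Ext

end

end Groth.Agent.Lib.Helper92.AdeqExt
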