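import Mathlib

/-!
# Flat base change for kernels of base-changed linear maps (element form)
-/

set_option autoImplicit false

open TensorProduct

namespace Groth.Agent.Lib.Helper92.FlatKer

variable {A B B' : Type*} [CommRing A] [CommRing B] [CommRing B'] [Algebra A B] [Algebra A B']
  [Algebra B B'] [IsScalarTower A B B']
  {M N : Type*} [AddCommGroup M] [Module A M] [AddCommGroup N] [Module A N] (g : M →ₗ[A] N)

/-- the canonical identification `B' ⊗[B] (B ⊗[A] M) ≃ B' ⊗[A] M`. -/
noncomputable abbrev cM (M : Type*) [AddCommGroup M] [Module A M] :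
    B' ⊗[B] (B ⊗[A] M) ≃ₗ[B'] B' ⊗[A] M :=
  TensorProduct.AlgebraTensorModule.cancelBaseChange A B B' B' M

theorem cM_nat (w : B' ⊗[B] (B ⊗[A] M)) :
    cM (A := A) (B := B) (B' := B') N ((g.baseChange B).lTensor B' w) =
      (g.baseChange B') (cM (A := A) (B := B) (B' := B') M w) := by
  induction w using TensorProduct.induction_on with
  | zero => simp
  | add x y hx hy => rw [map_add, map_add, map_add, map_add, hx, hy]
  | tmul b' v =>
    induction v using TensorProduct.induction_on with
    | zero => simp
    | add x y hx hy =>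
      rw [TensorProduct.tmul_add, map_add, map_add, map_add, map_add, hx, hy]
    | tmul b m =>
      simp [TensorProduct.AlgebraTensorModule.cancelBaseChange_tmul]

theorem cM_tmul (ρ : B →ₗ[A] B') (hρ : ∀ b, ρ b = algebraMap B B' b) (b' : B') (w : B ⊗[A] M) :
    cM (A := A) (B := B) (B' := B') M (b' ⊗ₜ[B] w) = b' • (ρ.rTensor M w) := by
  induction w using TensorProduct.induction_on with
  | zero => simp
  | add x y hx hy => rw [TensorProduct.tmul_add, map_add, map_add, smul_add, hx, hy]
  | tmul b m =>
    rw [TensorProduct.AlgebraTensorModule.cancelBaseChange_tmul, LinearMap.rTensor_tmul, hρ,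
      TensorProduct.smul_tmul', Algebra.smul_def, smul_eq_mul, mul_comm]

variable [Module.Flat B B']
  {FB FB' : Type*} [AddCommGroup FB] [Module B FB] [AddCommGroup FB'] [Module B' FB'] [Module B FB']
  [IsScalarTower B B' FB']

theorem bijective_liftBaseChange
    (θ : FB →ₗ[B] B ⊗[A] M) (hθ : Function.Injective θ) (hex : Function.Exact θ (g.baseChange B))
    (θ' : FB' →ₗ[B'] B' ⊗[A] M) (hθ' : Function.Injective θ')
    (hex' : Function.Exact θ' (g.baseChange B'))
    (Ff : FB →ₗ[B] FB') (ρ : B →ₗ[A] B') (hρ : ∀ b, ρ b = algebraMap B B' b)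
    (hcomp : ∀ x, θ' (Ff x) = ρ.rTensor M (θ x)) :
    Function.Bijective (LinearMap.liftBaseChange B' Ff) := by
  have hstar : ∀ z : B' ⊗[B] FB, θ' (LinearMap.liftBaseChange B' Ff z) =
      cM (A := A) (B := B) (B' := B') M (θ.lTensor B' z) := by
    intro z
    induction z using TensorProduct.induction_on with
    | zero => simp
    | add x y hx hy => rw [map_add, map_add, map_add, map_add, hx, hy]
    | tmul b' x =>
      rw [LinearMap.liftBaseChange_tmul, map_smul, hcomp, LinearMap.lTensor_tmul, cM_tmul ρ hρ]
  have hΘinj : Function.Injective (θ.lTensor B') :=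
    Module.Flat.lTensor_preserves_injective_linearMap θ hθ
  have hΘex : Function.Exact (θ.lTensor B') ((g.baseChange B).lTensor B') :=
    Module.Flat.lTensor_exact B' hex
  constructor
  · rw [injective_iff_map_eq_zero]
    intro z hz
    have h1 := hstar z
    rw [hz, map_zero] at h1
    have h2 : θ.lTensor B' z = 0 := by
      apply (cM (A := A) (B := B) (B' := B') M).injective
      rw [← h1, map_zero]
    exact hΘinj (h2.trans (map_zero _).symm)
  · intro y
    have h1 : (g.baseChange B') (θ' y) = 0 := hex'.apply_apply_eq_zero y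
    have h2 : ((g.baseChange B).lTensor B') ((cM (A := A) (B := B) (B' := B') M).symm (θ' y)) = 0 := by
      apply (cM (A := A) (B := B) (B' := B') N).injective
      rw [cM_nat, LinearEquiv.apply_symm_apply, h1, map_zero]
    obtain ⟨z, hz⟩ := (hΘex _).mp h2
    refine ⟨z, hθ' ?_⟩
    rw [hstar, hz, LinearEquiv.apply_symm_apply]

end Groth.Agent.Lib.Helper92.FlatKer
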