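import Mathlib

/-!
# The identification `(A' ⊗[A] B) ⊗[A'] M' ≃ B ⊗[A] M'`
-/

set_option autoImplicit false

open TensorProduct

namespace Groth.Agent.Lib.Helper92.PushIso

variable {A A' : Type*} [CommRing A] [CommRing A'] [Algebra A A']
  {M' N' : Type*} [AddCommGroup M'] [Module A' M'] [Module A M'] [IsScalarTower A A' M']
  [AddCommGroup N'] [Module A' N'] [Module A N'] [IsScalarTower A A' N']

/-- the additive equivalence `(A' ⊗[A] B) ⊗[A'] M' ≃+ B ⊗[A] M'`. -/
noncomputable def dEquiv (B : Type*) [CommRing B] [Algebra A B] (M' : Type*) [AddCommGroup M']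
    [Module A' M'] [Module A M'] [IsScalarTower A A' M'] :
    (A' ⊗[A] B) ⊗[A'] M' ≃+ B ⊗[A] M' :=
  ((TensorProduct.comm A' (A' ⊗[A] B) M').toAddEquiv.trans
    (TensorProduct.AlgebraTensorModule.cancelBaseChange A A' A' M' B).toAddEquiv).trans
    (TensorProduct.comm A M' B).toAddEquiv

variable {B : Type*} [CommRing B] [Algebra A B]

theorem dEquiv_tmul (a' : A') (b : B) (m' : M') :
    dEquiv (A := A) (A' := A') B M' ((a' ⊗ₜ[A] b) ⊗ₜ[A'] m') = b ⊗ₜ[A] (a' • m') := rfl

theorem dEquiv_smul (b : B) (w : (A' ⊗[A] B) ⊗[A'] M') :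
    dEquiv (A := A) (A' := A') B M' (((1 : A') ⊗ₜ[A] b) • w) = b • dEquiv (A := A) (A' := A') B M' w := by
  induction w using TensorProduct.induction_on with
  | zero => simp
  | add x y hx hy => rw [smul_add, map_add, map_add, smul_add, hx, hy]
  | tmul c m' =>
    induction c using TensorProduct.induction_on with
    | zero => simp
    | add x y hx hy =>
      rw [TensorProduct.add_tmul, smul_add, map_add, map_add, smul_add, hx, hy]
    | tmul a' b₀ =>
      rw [TensorProduct.smul_tmul', smul_eq_mul, Algebra.TensorProduct.tmul_mul_tmul, one_mul,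
        dEquiv_tmul, dEquiv_tmul, TensorProduct.smul_tmul', smul_eq_mul]

theorem dEquiv_nat {B₁ B₂ : Type*} [CommRing B₁] [Algebra A B₁] [CommRing B₂] [Algebra A B₂]
    (h : B₁ →ₐ[A] B₂) (w : (A' ⊗[A] B₁) ⊗[A'] M') :
    dEquiv (A := A) (A' := A') B₂ M'
      ((Algebra.TensorProduct.map (AlgHom.id A' A') h).toLinearMap.rTensor M' w) =
      (h.toLinearMap.rTensor M') (dEquiv (A := A) (A' := A') B₁ M' w) := by
  induction w using TensorProduct.induction_on with
  | zero => simp
  | add x y hx hy => rw [map_add, map_add, map_add, map_add, hx, hy]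
  | tmul c m' =>
    induction c using TensorProduct.induction_on with
    | zero => simp
    | add x y hx hy =>
      rw [TensorProduct.add_tmul, map_add, map_add, map_add, map_add, hx, hy]
    | tmul a' b₀ =>
      rw [LinearMap.rTensor_tmul, AlgHom.toLinearMap_apply, Algebra.TensorProduct.map_tmul,
        dEquiv_tmul, dEquiv_tmul, LinearMap.rTensor_tmul]
      rfl

theorem dEquiv_compat (φ' : M' →ₗ[A'] N') (w : (A' ⊗[A] B) ⊗[A'] M') :
    ((φ'.restrictScalars A).baseChange B) (dEquiv (A := A) (A' := A') B M' w) =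
      dEquiv (A := A) (A' := A') B N' ((φ'.baseChange (A' ⊗[A] B)) w) := by
  induction w using TensorProduct.induction_on with
  | zero => simp
  | add x y hx hy => rw [map_add, map_add, map_add, map_add, hx, hy]
  | tmul c m' =>
    induction c using TensorProduct.induction_on with
    | zero => simp
    | add x y hx hy =>
      rw [TensorProduct.add_tmul, map_add, map_add, map_add, map_add, hx, hy]
    | tmul a' b₀ =>
      rw [dEquiv_tmul, LinearMap.baseChange_tmul, LinearMap.baseChange_tmul, dEquiv_tmul,
        LinearMap.restrictScalars_apply, map_smul]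

end Groth.Agent.Lib.Helper92.PushIso
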