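import Groth.Prelude.Def_Adeq
import Mathlib
import Groth.Agent.Lib.Helper92.MVFKernel
import Groth.Agent.Lib.Helper92.AdeqColim
import Groth.Agent.Lib.Helper92.AdeqExt
import Groth.Agent.S8744
import Groth.Agent.S8749
import Groth.Agent.S8750
import Groth.Agent.S8751

/-!
# Descent of adequacy along a finite family of ring maps

`adequate_of_family`: if `F` is a module-valued functor on `A`-algebras, `A → A'_j` a finite family of
ring maps such that each restriction of `F` to `A'_j`-algebras is adequate and `F` satisfies the sheaf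
condition for the families `{B → A'_j ⊗ B}`, then `F` is adequate.
-/

set_option autoImplicit false

universe u

open CategoryTheory Limits

namespace Groth.Agent.Lib.Helper92.AdeqFam

open Groth.Agent.Lib.Helper92 Groth.Agent.S8751

variable {A : Type u} [CommRing A]

theorem hom_sub_app {F G : Adeq.MVF A} (f g : F ⟶ G) (X : (Adeq.Alg A)ᵒᵖᵒᵖ) (z : F.obj X) :
    (f - g).app X z = f.app X z - g.app X z := rfl

theorem hom_comp_app {F G H : Adeq.MVF A} (f : F ⟶ G) (g : G ⟶ H) (X : (Adeq.Alg A)ᵒᵖᵒᵖ)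
    (z : F.obj X) : (f ≫ g).app X z = g.app X (f.app X z) := rfl

/-- evaluation at an element as an additive map on morphisms -/
noncomputable def evalAt (F G : Adeq.MVF A) (X : (Adeq.Alg A)ᵒᵖᵒᵖ) (z : F.obj X) :
    (F ⟶ G) →+ G.obj X where
  toFun f := f.app X z
  map_zero' := rfl
  map_add' _ _ := rfl

theorem evalAt_apply (F G : Adeq.MVF A) (X : (Adeq.Alg A)ᵒᵖᵒᵖ) (z : F.obj X) (f : F ⟶ G) :
    evalAt F G X z f = f.app X z := rfl

instance hasFinBiprod : HasFiniteBiproducts (Adeq.MVF A) := Abelian.hasFiniteBiproducts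

section Biprod

variable {ι : Type (u + 1)} [Fintype ι] (P : ι → Adeq.MVF A)

theorem biprod_pt_zero (X : (Adeq.Alg A)ᵒᵖᵒᵖ) (z : (⨁ P).obj X)
    (h : ∀ j, (biproduct.π P j).app X z = 0) : z = 0 := by
  have e : ∑ j : ι, biproduct.π P j ≫ biproduct.ι P j = 𝟙 (⨁ P) :=
    IsBilimit.total (biproduct.isBilimit P)
  have h1 : evalAt (⨁ P) (⨁ P) X z (∑ j : ι, biproduct.π P j ≫ biproduct.ι P j) =
      evalAt (⨁ P) (⨁ P) X z (𝟙 (⨁ P)) := congrArg _ e
  rw [map_sum] at h1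
  have h2 : ∀ j, evalAt (⨁ P) (⨁ P) X z (biproduct.π P j ≫ biproduct.ι P j) = 0 := by
    intro j
    rw [evalAt_apply, hom_comp_app, h j]
    exact AdeqExt.appX_zero _ X
  rw [Finset.sum_eq_zero (fun j _ => h2 j)] at h1
  have h3 : evalAt (⨁ P) (⨁ P) X z (𝟙 (⨁ P)) = z := rfl
  exact h3.symm.trans h1.symm

theorem biprod_pt_ext (X : (Adeq.Alg A)ᵒᵖᵒᵖ) (z z' : (⨁ P).obj X)
    (h : ∀ j, (biproduct.π P j).app X z = (biproduct.π P j).app X z') : z = z' := by
  have h1 : z - z' = 0 := by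
    apply biprod_pt_zero P X
    intro j
    rw [AdeqExt.appX_sub, h j, sub_self]
  exact sub_eq_zero.mp h1

theorem adequate_biproduct (h : ∀ j, Adeq.adequate A (P j)) : Adeq.adequate A (⨁ P) :=
  (Adeq.adequate A).prop_of_iso (biproduct.isoCoproduct P).symm (AdeqColim.adequate_sigma A P h)

end Biprod

section Family

variable {ι : Type (u + 1)} [Fintype ι]
  (A' : ι → Type u) [∀ j, CommRing (A' j)] [∀ j, Algebra A (A' j)] (F : Adeq.MVF A)

/-- `B ↦ F(A'_j ⊗ B)` -/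
noncomputable abbrev PP (j : ι) : Adeq.MVF A :=
  (Adeq.push A (A' j)).obj ((Adeq.restr A (A' j)).obj F)

/-- `B ↦ F(A'_k ⊗ (A'_j ⊗ B))` for `jk = (j, k)` -/
noncomputable abbrev QQ (jk : ι × ι) : Adeq.MVF A :=
  (Adeq.push A (A' jk.1)).obj ((Adeq.restr A (A' jk.1)).obj (PP A' F jk.2))

noncomputable def e1 (jk : ι × ι) : PP A' F jk.2 ⟶ QQ A' F jk := eta (A' jk.1) (PP A' F jk.2)

noncomputable def e0 (jk : ι × ι) : PP A' F jk.1 ⟶ QQ A' F jk :=
  (Adeq.push A (A' jk.1)).map ((Adeq.restr A (A' jk.1)).map (eta (A' jk.2) F))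

theorem e1_app (j k : ι) (B : Adeq.Alg A)
    (y : F.obj (Adeq.pt ((Adeq.Alg.restr A (A' k)).obj ((Adeq.Alg.baseChange A (A' k)).obj B)))) :
    (e1 A' F (j, k)).app (Adeq.pt B) y =
      F.map (Adeq.ptHom ((Adeq.Alg.restr A (A' k)).map
        ((Adeq.Alg.baseChange A (A' k)).map (Adeq.Alg.unit A (A' j) B)))) y := rfl

theorem e0_app (j k : ι) (B : Adeq.Alg A)
    (y : F.obj (Adeq.pt ((Adeq.Alg.restr A (A' j)).obj ((Adeq.Alg.baseChange A (A' j)).obj B)))) :
    (e0 A' F (j, k)).app (Adeq.pt B) y =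
      F.map (Adeq.ptHom (Adeq.Alg.unit A (A' k)
        ((Adeq.Alg.restr A (A' j)).obj ((Adeq.Alg.baseChange A (A' j)).obj B)))) y := rfl

theorem eta_comm (jk : ι × ι) :
    eta (A' jk.2) F ≫ e1 A' F jk = eta (A' jk.1) F ≫ e0 A' F jk := by
  obtain ⟨j, k⟩ := jk
  ext X x
  obtain ⟨B, rfl⟩ : ∃ B : Adeq.Alg A, X = Adeq.pt B := ⟨X.unop.unop, rfl⟩
  have e1' := (PresheafOfModules.map_comp_apply F (Adeq.ptHom (Adeq.Alg.unit A (A' k) B))
    (Adeq.ptHom ((Adeq.Alg.restr A (A' k)).map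
      ((Adeq.Alg.baseChange A (A' k)).map (Adeq.Alg.unit A (A' j) B)))) x).symm
  have e2' := (PresheafOfModules.map_comp_apply F (Adeq.ptHom (Adeq.Alg.unit A (A' j) B))
    (Adeq.ptHom (Adeq.Alg.unit A (A' k)
      ((Adeq.Alg.restr A (A' j)).obj ((Adeq.Alg.baseChange A (A' j)).obj B)))) x).symm
  have h : Adeq.ptHom (Adeq.Alg.unit A (A' j) B) ≫ Adeq.ptHom (Adeq.Alg.unit A (A' k)
        ((Adeq.Alg.restr A (A' j)).obj ((Adeq.Alg.baseChange A (A' j)).obj B))) =
      Adeq.ptHom (Adeq.Alg.unit A (A' k) B) ≫ Adeq.ptHom ((Adeq.Alg.restr A (A' k)).map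
        ((Adeq.Alg.baseChange A (A' k)).map (Adeq.Alg.unit A (A' j) B))) :=
    congrArg (fun g => Adeq.ptHom g) (unit_nat (A' := A' k) (Adeq.Alg.unit A (A' j) B))
  exact e1'.trans ((PresheafOfModules.congr_map_apply F h x).symm.trans e2'.symm)

theorem adequate_of_family
    (h₁ : ∀ j, Adeq.adequate (A' j) ((Adeq.restr A (A' j)).obj F))
    (hinj : ∀ (B : Adeq.Alg A) (x : F.obj (Adeq.pt B)),
      (∀ j, F.map (Adeq.ptHom (Adeq.Alg.unit A (A' j) B)) x = 0) → x = 0)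
    (hglue : ∀ (B : Adeq.Alg A)
      (y : ∀ j, F.obj (Adeq.pt ((Adeq.Alg.restr A (A' j)).obj ((Adeq.Alg.baseChange A (A' j)).obj B)))),
      (∀ j k, F.map (Adeq.ptHom ((Adeq.Alg.restr A (A' k)).map
          ((Adeq.Alg.baseChange A (A' k)).map (Adeq.Alg.unit A (A' j) B)))) (y k) =
        F.map (Adeq.ptHom (Adeq.Alg.unit A (A' k)
          ((Adeq.Alg.restr A (A' j)).obj ((Adeq.Alg.baseChange A (A' j)).obj B)))) (y j)) →
      ∃ x : F.obj (Adeq.pt B), ∀ j, F.map (Adeq.ptHom (Adeq.Alg.unit A (A' j) B)) x = y j) :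
    Adeq.adequate A F := by
  classical
  have hP : ∀ j, Adeq.adequate A (PP A' F j) := fun j =>
    Groth.Agent.S8750.result A (A' j) _ (h₁ j)
  have hQ : ∀ jk, Adeq.adequate A (QQ A' F jk) := fun jk =>
    Groth.Agent.S8750.result A (A' jk.1) _ (Groth.Agent.S8749.result A (A' jk.1) _ (hP jk.2))
  have hX : Adeq.adequate A (⨁ (PP A' F)) := adequate_biproduct _ hP
  have hY : Adeq.adequate A (⨁ (QQ A' F)) := adequate_biproduct _ hQ
  obtain ⟨θ, hθ⟩ : ∃ θ : F ⟶ ⨁ (PP A' F), ∀ j, θ ≫ biproduct.π (PP A' F) j = eta (A' j) F :=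
    ⟨biproduct.lift (fun j => eta (A' j) F), fun j => biproduct.lift_π _ _⟩
  obtain ⟨ψ, hψ⟩ : ∃ ψ : ⨁ (PP A' F) ⟶ ⨁ (QQ A' F), ∀ jk, ψ ≫ biproduct.π (QQ A' F) jk =
      biproduct.π (PP A' F) jk.2 ≫ e1 A' F jk - biproduct.π (PP A' F) jk.1 ≫ e0 A' F jk :=
    ⟨biproduct.lift (fun jk => biproduct.π (PP A' F) jk.2 ≫ e1 A' F jk -
      biproduct.π (PP A' F) jk.1 ≫ e0 A' F jk), fun jk => biproduct.lift_π _ _⟩
  have hker : Adeq.adequate A (kernel ψ) := Groth.Agent.S8744.result A ψ hX hY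
  have hθapp : ∀ (B : Adeq.Alg A) (j : ι) (x : F.obj (Adeq.pt B)),
      (biproduct.π (PP A' F) j).app (Adeq.pt B) (θ.app (Adeq.pt B) x) =
        F.map (Adeq.ptHom (Adeq.Alg.unit A (A' j) B)) x := by
    intro B j x
    exact (AdeqExt.pw1 (hθ j) (Adeq.pt B) x).trans (eta_app (A' j) F B x)
  have hψapp : ∀ (B : Adeq.Alg A) (j k : ι) (y : (⨁ (PP A' F)).obj (Adeq.pt B)),
      (biproduct.π (QQ A' F) (j, k)).app (Adeq.pt B) (ψ.app (Adeq.pt B) y) =
        (e1 A' F (j, k)).app (Adeq.pt B) ((biproduct.π (PP A' F) k).app (Adeq.pt B) y) -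
        (e0 A' F (j, k)).app (Adeq.pt B) ((biproduct.π (PP A' F) j).app (Adeq.pt B) y) := by
    intro B j k y
    have h1 := AdeqExt.pw1 (hψ (j, k)) (Adeq.pt B) y
    rw [hom_sub_app, hom_comp_app, hom_comp_app] at h1
    exact h1
  have hiso : Nonempty (F ≅ kernel ψ) := by
    refine MVFKernel.nonempty_iso_kernel θ ψ ?_ ?_ ?_
    · intro X
      obtain ⟨B, rfl⟩ : ∃ B : Adeq.Alg A, X = Adeq.pt B := ⟨X.unop.unop, rfl⟩
      refine AdeqExt.inj_of_ker θ _ ?_
      intro x hx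
      apply hinj B x
      intro j
      rw [← hθapp B j x, hx]
      exact AdeqExt.appX_zero _ _
    · intro X x
      have w : θ ≫ ψ = 0 := by
        refine biproduct.hom_ext _ _ (fun jk => ?_)
        rw [Category.assoc, hψ, Preadditive.comp_sub, ← Category.assoc, ← Category.assoc, hθ, hθ,
          eta_comm, sub_self, zero_comp]
      exact AdeqExt.pw_zero w X x
    · intro X y hy
      obtain ⟨B, rfl⟩ : ∃ B : Adeq.Alg A, X = Adeq.pt B := ⟨X.unop.unop, rfl⟩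
      have hcompat : ∀ j k, F.map (Adeq.ptHom ((Adeq.Alg.restr A (A' k)).map
          ((Adeq.Alg.baseChange A (A' k)).map (Adeq.Alg.unit A (A' j) B))))
            ((biproduct.π (PP A' F) k).app (Adeq.pt B) y) =
          F.map (Adeq.ptHom (Adeq.Alg.unit A (A' k)
            ((Adeq.Alg.restr A (A' j)).obj ((Adeq.Alg.baseChange A (A' j)).obj B))))
              ((biproduct.π (PP A' F) j).app (Adeq.pt B) y) := by
        intro j k
        have h1 := hψapp B j k y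
        rw [hy] at h1
        have h2 : (biproduct.π (QQ A' F) (j, k)).app (Adeq.pt B) 0 = 0 := AdeqExt.appX_zero _ _
        have h3 := sub_eq_zero.mp (h1.symm.trans h2)
        exact ((e1_app A' F j k B _).symm.trans h3).trans (e0_app A' F j k B _)
      obtain ⟨x, hx⟩ := hglue B (fun j => (biproduct.π (PP A' F) j).app (Adeq.pt B) y) hcompat
      refine ⟨x, ?_⟩
      apply biprod_pt_ext (PP A' F) (Adeq.pt B)
      intro j
      rw [hθapp B j x]
      exact hx j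
  obtain ⟨e⟩ := hiso
  exact (Adeq.adequate A).prop_of_iso e.symm hker

end Family

end Groth.Agent.Lib.Helper92.AdeqFam
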