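import Groth.Prelude.Def_Adeq2
import Mathlib
import Groth.Agent.Lib.Helper92.MVFKernel
import Groth.Agent.Lib.Helper92.AdeqFam
import Groth.Agent.S8751

/-!
# Adequate modules on big sites: sheaf condition plumbing

* `toMVF_restr_iso`: `F_{M,R₂} ≅ F_{M,R₁}|_{R₂}` when `Spec R₂ → S` factors through `Spec R₁ → S`;
* `adequate_of_affine_cover`: if `{Spec A'_j → Spec R}` is a finite `K`-covering and every restriction of
  `F_{M,R}` to `A'_j`-algebras is adequate then `F_{M,R}` is adequate (uses the sheaf condition of `M`).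
-/

set_option autoImplicit false

universe u w

open CategoryTheory Limits AlgebraicGeometry Opposite TensorProduct

namespace Groth.Agent.Lib.Helper92.Adeq2Base

open Groth.Agent.Lib.Helper92

section Gen

/-- iso from a pointwise bijective morphism -/
theorem nonempty_iso_of_bij {C₀ : Type*} [Category C₀] {R : C₀ᵒᵖ ⥤ RingCat.{u}}
    {F G : PresheafOfModules.{u + 1} R} (θ : F ⟶ G) (h : ∀ X, Function.Bijective (θ.app X)) :
    Nonempty (F ≅ G) := by
  obtain ⟨e⟩ := MVFKernel.nonempty_iso_kernel θ (0 : G ⟶ G) (fun X => (h X).1) (fun X x => rfl)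
    (fun X y _ => (h X).2 y)
  exact ⟨e ≪≫ kernelZeroIsoSource⟩

end Gen

variable {K : Precoverage Scheme.{u}} [BigSite.OSh K] {S : Scheme.{u}} (M : BigSite.Mod K S)

theorem rho_comp {U V W : Over S} (f : U ⟶ V) (g : V ⟶ W) (x : M.val.presheaf.obj (op W)) :
    M.val.presheaf.map (f ≫ g).op x = M.val.presheaf.map f.op (M.val.presheaf.map g.op x) := by
  rw [op_comp, CategoryTheory.Functor.map_comp]
  rfl

theorem rho_id (U : Over S) (x : M.val.presheaf.obj (op U)) :
    M.val.presheaf.map (𝟙 U).op x = x := by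
  rw [op_id, CategoryTheory.Functor.map_id]
  rfl

theorem rho_congr {U V : Over S} {f g : U ⟶ V} (h : f = g) (x : M.val.presheaf.obj (op V)) :
    M.val.presheaf.map f.op x = M.val.presheaf.map g.op x := by rw [h]

section Sheaf

theorem isSheafFor_of_cover {ι : Type w} {U : Over S} (Y : ι → Over S) (π : ∀ j, Y j ⟶ U)
    (hcov : Sieve.ofArrows Y π ∈ QuotSh.J K S U) :
    Presieve.IsSheafFor (M.val.presheaf ⋙ forget AddCommGrpCat.{u + 1}) (Presieve.ofArrows Y π) := by
  have h1 := (Presheaf.isSheaf_iff_isSheaf_forget (QuotSh.J K S) M.val.presheaf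
    (forget AddCommGrpCat.{u + 1})).mp M.isSheaf
  have h2 := (isSheaf_iff_isSheaf_of_type _ _).mp h1
  have h3 := h2 _ hcov
  exact (Presieve.isSheafFor_iff_generate (Presieve.ofArrows Y π)).mpr h3

theorem sheaf_glue {ι : Type w} {U : Over S} (Y : ι → Over S) (π : ∀ j, Y j ⟶ U)
    (hcov : Sieve.ofArrows Y π ∈ QuotSh.J K S U)
    (y : ∀ j, M.val.presheaf.obj (op (Y j)))
    (hy : ∀ j k (Z : Over S) (gj : Z ⟶ Y j) (gk : Z ⟶ Y k), gj ≫ π j = gk ≫ π k →
      M.val.presheaf.map gj.op (y j) = M.val.presheaf.map gk.op (y k)) :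
    ∃ x : M.val.presheaf.obj (op U), ∀ j, M.val.presheaf.map (π j).op x = y j := by
  have h := (Presieve.isSheafFor_arrows_iff _ _).mp (isSheafFor_of_cover M Y π hcov) y hy
  obtain ⟨t, ht, -⟩ := h
  exact ⟨t, ht⟩

theorem sheaf_sep {ι : Type w} {U : Over S} (Y : ι → Over S) (π : ∀ j, Y j ⟶ U)
    (hcov : Sieve.ofArrows Y π ∈ QuotSh.J K S U)
    (x : M.val.presheaf.obj (op U)) (hx : ∀ j, M.val.presheaf.map (π j).op x = 0) : x = 0 := by
  have hs := (isSheafFor_of_cover M Y π hcov).isSeparatedFor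
  refine hs.ext ?_
  rintro Z f ⟨j⟩
  exact (hx j).trans (M.val.presheaf.map (π j).op).hom.map_zero.symm

end Sheaf

section Affine

variable {R : CommRingCat.{u}} (a : Spec R ⟶ S)

/-- `A'' ⊗ C` as an `R`-algebra -/
abbrev CB1 (A'' : Type u) [CommRing A''] [Algebra R A''] (C : Adeq.Alg R) : Adeq.Alg R :=
  (Adeq.Alg.restr R A'').obj ((Adeq.Alg.baseChange R A'').obj C)

/-- `Spec C → Spec R` -/
noncomputable def specAlg (C : Adeq.Alg R) : Spec (CommRingCat.of C) ⟶ Spec R :=
  Spec.map (CommRingCat.ofHom (algebraMap R C))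

/-- `Spec` of a map of algebras -/
noncomputable def specMap {C₁ C₂ : Adeq.Alg R} (φ : C₁ ⟶ C₂) :
    Spec (CommRingCat.of C₂) ⟶ Spec (CommRingCat.of C₁) :=
  Spec.map (CommRingCat.ofHom φ.hom.toRingHom)

/-- `Spec (A'' ⊗ C) → Spec A''` -/
noncomputable def specInclL (A'' : Type u) [CommRing A''] [Algebra R A''] (C : Adeq.Alg R) :
    Spec (CommRingCat.of (CB1 A'' C)) ⟶ Spec (CommRingCat.of A'') :=
  Spec.map (CommRingCat.ofHom
    (Algebra.TensorProduct.includeLeftRingHom : A'' →+* A'' ⊗[R] C))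

theorem specMap_specAlg {C₁ C₂ : Adeq.Alg R} (φ : C₁ ⟶ C₂) :
    specMap φ ≫ specAlg C₁ = specAlg C₂ := by
  unfold specMap specAlg
  rw [← Spec.map_comp, ← CommRingCat.ofHom_comp, AlgHom.toRingHom_eq_coe, AlgHom.comp_algebraMap]

theorem sq (A'' : Type u) [CommRing A''] [Algebra R A''] (C : Adeq.Alg R) :
    IsPullback (specMap (Adeq.Alg.unit R A'' C)) (specInclL A'' C) (specAlg C)
      (Spec.map (CommRingCat.ofHom (algebraMap R A''))) :=
  isPullback_SpecMap_of_isPushout _ _ _ _ (CommRingCat.isPushout_tensorProduct R A'' C).flip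

theorem specMap_specInclL (A'' : Type u) [CommRing A''] [Algebra R A''] {C₁ C₂ : Adeq.Alg R}
    (φ : C₁ ⟶ C₂) :
    specMap ((Adeq.Alg.restr R A'').map ((Adeq.Alg.baseChange R A'').map φ)) ≫ specInclL A'' C₁ =
      specInclL A'' C₂ := by
  unfold specMap specInclL
  rw [← Spec.map_comp, ← CommRingCat.ofHom_comp]
  refine congrArg (fun f => Spec.map (CommRingCat.ofHom f)) (RingHom.ext fun x => ?_)
  change Algebra.TensorProduct.map (AlgHom.id A'' A'') φ.hom (x ⊗ₜ[R] (1 : C₁)) =
    x ⊗ₜ[R] (1 : C₂)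
  rw [Algebra.TensorProduct.map_tmul, map_one]
  rfl

/-- the object `Spec B → Spec R → S` of the big site -/
noncomputable abbrev XB (B : Adeq.Alg R) : Over S := (Adeq.specOver a).obj (op B)

theorem XB_hom (C : Adeq.Alg R) : (XB a C).hom = specAlg C ≫ a := rfl

theorem specOver_map_left {C₁ C₂ : Adeq.Alg R} (φ : C₁ ⟶ C₂) :
    ((Adeq.specOver a).map φ.op).left = specMap φ := rfl

variable {J : Type w} (A' : J → Type u) [∀ j, CommRing (A' j)] [∀ j, Algebra R (A' j)]

/-- `A'_j ⊗ B` as an `R`-algebra -/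
abbrev CB (j : J) (B : Adeq.Alg R) : Adeq.Alg R := CB1 (A' j) B

/-- `Spec (A'_j ⊗ B) → Spec B` in the big site -/
noncomputable abbrev piB (j : J) (B : Adeq.Alg R) : XB a (CB A' j B) ⟶ XB a B :=
  (Adeq.specOver a).map (Adeq.Alg.unit R (A' j) B).op

theorem cover_mem [K.IsStableUnderBaseChange]
    (hcov : Presieve.ofArrows (fun j => Spec (CommRingCat.of (A' j)))
      (fun j => Spec.map (CommRingCat.ofHom (algebraMap R (A' j)))) ∈ K.coverings (Spec R))
    (B : Adeq.Alg R) :
    Sieve.ofArrows (fun j => XB a (CB A' j B)) (fun j => piB a A' j B) ∈ QuotSh.J K S (XB a B) := by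
  rw [GrothendieckTopology.mem_over_iff, Sieve.overEquiv_ofArrows]
  apply Precoverage.generate_mem_toGrothendieck
  exact Precoverage.mem_coverings_of_isPullback _ hcov (specAlg B) _
    (fun j => specInclL (A' j) B) (fun j => sq (A' j) B)

theorem compat_of_overlap (B : Adeq.Alg R)
    (y : ∀ j, M.val.presheaf.obj (op (XB a (CB A' j B))))
    (hy : ∀ j k,
      M.val.presheaf.map ((Adeq.specOver a).map ((Adeq.Alg.restr R (A' k)).map
        ((Adeq.Alg.baseChange R (A' k)).map (Adeq.Alg.unit R (A' j) B))).op).op (y k) =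
      M.val.presheaf.map ((Adeq.specOver a).map (Adeq.Alg.unit R (A' k) (CB A' j B)).op).op (y j)) :
    ∀ j k (Z : Over S) (gj : Z ⟶ XB a (CB A' j B)) (gk : Z ⟶ XB a (CB A' k B)),
      gj ≫ piB a A' j B = gk ≫ piB a A' k B →
      M.val.presheaf.map gj.op (y j) = M.val.presheaf.map gk.op (y k) := by
  intro j k Z gj gk hg
  obtain ⟨m, hm⟩ : ∃ m : CB A' k B ⟶ CB A' k (CB A' j B), m = (Adeq.Alg.restr R (A' k)).map
      ((Adeq.Alg.baseChange R (A' k)).map (Adeq.Alg.unit R (A' j) B)) := ⟨_, rfl⟩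
  have hsq1 := sq (R := R) (A' k) (CB A' j B)
  have hsq2 := sq (R := R) (A' k) B
  have hgl : gj.left ≫ specMap (Adeq.Alg.unit R (A' j) B) =
      gk.left ≫ specMap (Adeq.Alg.unit R (A' k) B) :=
    congrArg (fun h => h.left) hg
  have hL2 : specMap m ≫ specMap (Adeq.Alg.unit R (A' k) B) =
      specMap (Adeq.Alg.unit R (A' k) (CB A' j B)) ≫ specMap (Adeq.Alg.unit R (A' j) B) := by
    have h : Adeq.Alg.unit R (A' j) B ≫ Adeq.Alg.unit R (A' k) (CB A' j B) =
        Adeq.Alg.unit R (A' k) B ≫ m := by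
      rw [hm]
      exact Groth.Agent.S8751.unit_nat (A' := A' k) (Adeq.Alg.unit R (A' j) B)
    have h2 : (Adeq.specOver a).map m.op ≫ piB a A' k B =
        (Adeq.specOver a).map (Adeq.Alg.unit R (A' k) (CB A' j B)).op ≫ piB a A' j B := by
      rw [← CategoryTheory.Functor.map_comp, ← CategoryTheory.Functor.map_comp, ← op_comp,
        ← op_comp, h]
    exact congrArg (fun h => h.left) h2
  have hL3 : specMap m ≫ specInclL (A' k) B = specInclL (A' k) (CB A' j B) := by
    rw [hm]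
    exact specMap_specInclL (A' k) (Adeq.Alg.unit R (A' j) B)
  have hcond : gj.left ≫ specAlg (CB A' j B) =
      (gk.left ≫ specInclL (A' k) B) ≫ Spec.map (CommRingCat.ofHom (algebraMap R (A' k))) :=
    calc gj.left ≫ specAlg (CB A' j B)
        = gj.left ≫ (specMap (Adeq.Alg.unit R (A' j) B) ≫ specAlg B) :=
          congrArg (fun h => gj.left ≫ h) (specMap_specAlg (Adeq.Alg.unit R (A' j) B)).symm
      _ = (gj.left ≫ specMap (Adeq.Alg.unit R (A' j) B)) ≫ specAlg B :=
          (Category.assoc _ _ _).symm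
      _ = (gk.left ≫ specMap (Adeq.Alg.unit R (A' k) B)) ≫ specAlg B :=
          congrArg (fun h => h ≫ specAlg B) hgl
      _ = gk.left ≫ (specMap (Adeq.Alg.unit R (A' k) B) ≫ specAlg B) :=
          Category.assoc _ _ _
      _ = gk.left ≫ (specInclL (A' k) B ≫
            Spec.map (CommRingCat.ofHom (algebraMap R (A' k)))) :=
          congrArg (fun h => gk.left ≫ h) hsq2.w
      _ = _ := (Category.assoc _ _ _).symm
  obtain ⟨t, ht1, ht2⟩ : ∃ t : Z.left ⟶ Spec (CommRingCat.of (CB A' k (CB A' j B))),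
      t ≫ specMap (Adeq.Alg.unit R (A' k) (CB A' j B)) = gj.left ∧
      t ≫ specInclL (A' k) (CB A' j B) = gk.left ≫ specInclL (A' k) B :=
    ⟨hsq1.lift _ _ hcond, hsq1.lift_fst _ _ _, hsq1.lift_snd _ _ _⟩
  have ht3 : t ≫ specMap m = gk.left := by
    apply hsq2.hom_ext
    · exact
        calc (t ≫ specMap m) ≫ specMap (Adeq.Alg.unit R (A' k) B)
            = t ≫ (specMap m ≫ specMap (Adeq.Alg.unit R (A' k) B)) := Category.assoc _ _ _
          _ = t ≫ (specMap (Adeq.Alg.unit R (A' k) (CB A' j B)) ≫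
                specMap (Adeq.Alg.unit R (A' j) B)) := congrArg (fun h => t ≫ h) hL2
          _ = (t ≫ specMap (Adeq.Alg.unit R (A' k) (CB A' j B))) ≫
                specMap (Adeq.Alg.unit R (A' j) B) := (Category.assoc _ _ _).symm
          _ = gj.left ≫ specMap (Adeq.Alg.unit R (A' j) B) :=
              congrArg (fun h => h ≫ specMap (Adeq.Alg.unit R (A' j) B)) ht1
          _ = gk.left ≫ specMap (Adeq.Alg.unit R (A' k) B) := hgl
    · exact
        calc (t ≫ specMap m) ≫ specInclL (A' k) B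
            = t ≫ (specMap m ≫ specInclL (A' k) B) := Category.assoc _ _ _
          _ = t ≫ specInclL (A' k) (CB A' j B) := congrArg (fun h => t ≫ h) hL3
          _ = _ := ht2
  have hw : t ≫ (XB a (CB A' k (CB A' j B))).hom = Z.hom := by
    have h1 : specMap (Adeq.Alg.unit R (A' k) (CB A' j B)) ≫ (XB a (CB A' j B)).hom =
        (XB a (CB A' k (CB A' j B))).hom :=
      Over.w ((Adeq.specOver a).map (Adeq.Alg.unit R (A' k) (CB A' j B)).op)
    rw [← h1, ← Category.assoc, ht1]
    exact Over.w gj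
  obtain ⟨T, hT⟩ : ∃ T : Z ⟶ XB a (CB A' k (CB A' j B)), T.left = t := ⟨Over.homMk t hw, rfl⟩
  have hT1 : T ≫ (Adeq.specOver a).map (Adeq.Alg.unit R (A' k) (CB A' j B)).op = gj := by
    apply Over.OverMorphism.ext
    change T.left ≫ specMap (Adeq.Alg.unit R (A' k) (CB A' j B)) = _
    rw [hT]
    exact ht1
  have hT2 : T ≫ (Adeq.specOver a).map m.op = gk := by
    apply Over.OverMorphism.ext
    change T.left ≫ specMap m = _
    rw [hT]
    exact ht3
  subst hm
  rw [← hT1, ← hT2, rho_comp, rho_comp]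
  exact congrArg (fun z => M.val.presheaf.map T.op z) (hy j k).symm

theorem toMVF_map {B B' : Adeq.Alg R} (φ : B ⟶ B') (x : ((Adeq.toMVF K a).obj M).obj (Adeq.pt B)) :
    ((Adeq.toMVF K a).obj M).map (Adeq.ptHom φ) x =
      M.val.presheaf.map ((Adeq.specOver a).map φ.op).op x := rfl

end Affine

section Restr

variable {R₁ R₂ : CommRingCat.{u}} [Algebra R₁ R₂] (a₁ : Spec R₁ ⟶ S) (b : Spec R₂ ⟶ S)
  (hb : Spec.map (CommRingCat.ofHom (algebraMap R₁ R₂)) ≫ a₁ = b)

/-- comparison iso of objects of the big site -/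
noncomputable def eIso (B : Adeq.Alg R₂) :
    (Adeq.specOver a₁).obj (op ((Adeq.Alg.restr R₁ R₂).obj B)) ≅ (Adeq.specOver b).obj (op B) :=
  Over.isoMk (Iso.refl _) (by
    change 𝟙 _ ≫ (Spec.map (CommRingCat.ofHom (algebraMap R₂ B)) ≫ b) =
      Spec.map (CommRingCat.ofHom ((algebraMap R₂ B).comp (algebraMap R₁ R₂))) ≫ a₁
    rw [Category.id_comp, ← hb, ← Category.assoc, ← Spec.map_comp]
    rfl)

theorem eIso_nat {B B' : Adeq.Alg R₂} (φ : B ⟶ B') :
    (eIso a₁ b hb B').hom ≫ (Adeq.specOver b).map φ.op =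
      (Adeq.specOver a₁).map ((Adeq.Alg.restr R₁ R₂).map φ).op ≫ (eIso a₁ b hb B).hom := by
  apply Over.OverMorphism.ext
  change 𝟙 _ ≫ Spec.map (CommRingCat.ofHom φ.hom.toRingHom) =
    Spec.map (CommRingCat.ofHom ((Adeq.Alg.restr R₁ R₂).map φ).hom.toRingHom) ≫ 𝟙 _
  rw [Category.id_comp, Category.comp_id]

include hb in
theorem toMVF_restr_iso :
    Nonempty ((Adeq.toMVF K b).obj M ≅ (Adeq.restr R₁ R₂).obj ((Adeq.toMVF K a₁).obj M)) := by
  let θ : (Adeq.toMVF K b).obj M ⟶ (Adeq.restr R₁ R₂).obj ((Adeq.toMVF K a₁).obj M) :=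
    PresheafOfModules.homMk (M₁ := (Adeq.toMVF K b).obj M)
      (M₂ := (Adeq.restr R₁ R₂).obj ((Adeq.toMVF K a₁).obj M))
      { app := fun X => AddCommGrpCat.ofHom
          (M.val.presheaf.map (eIso a₁ b hb X.unop.unop).hom.op).hom
        naturality := fun {X Y} f => by
          ext x
          exact (rho_comp M _ _ x).symm.trans
            ((rho_congr M (eIso_nat a₁ b hb f.unop.unop) x).trans (rho_comp M _ _ x)) }
      (fun X r m => by
        have h := M.val.map_smul (eIso a₁ b hb X.unop.unop).hom.op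
          (Adeq.toSect K b X.unop.unop r) m
        refine h.trans ?_
        congr 1)
  refine nonempty_iso_of_bij θ (fun X => ?_)
  refine Function.bijective_iff_has_inverse.mpr
    ⟨fun y => M.val.presheaf.map (eIso a₁ b hb X.unop.unop).inv.op y, ?_, ?_⟩
  · intro x
    change M.val.presheaf.map (eIso a₁ b hb X.unop.unop).inv.op
      (M.val.presheaf.map (eIso a₁ b hb X.unop.unop).hom.op x) = x
    rw [← rho_comp, Iso.inv_hom_id, rho_id]
  · intro y
    change M.val.presheaf.map (eIso a₁ b hb X.unop.unop).hom.op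
      (M.val.presheaf.map (eIso a₁ b hb X.unop.unop).inv.op y) = y
    rw [← rho_comp, Iso.hom_inv_id, rho_id]

end Restr

section Main

variable {R : CommRingCat.{u}} (a : Spec R ⟶ S)

theorem adequate_of_affine_cover [K.IsStableUnderBaseChange] {J : Type (u + 1)} [Fintype J]
    (A' : J → Type u) [∀ j, CommRing (A' j)] [∀ j, Algebra R (A' j)]
    (hcov : Presieve.ofArrows (fun j => Spec (CommRingCat.of (A' j)))
      (fun j => Spec.map (CommRingCat.ofHom (algebraMap R (A' j)))) ∈ K.coverings (Spec R))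
    (h₁ : ∀ j, Adeq.adequate (A' j) ((Adeq.restr R (A' j)).obj ((Adeq.toMVF K a).obj M))) :
    Adeq.adequate R ((Adeq.toMVF K a).obj M) := by
  refine AdeqFam.adequate_of_family A' _ h₁ ?_ ?_
  · intro B x hx
    exact sheaf_sep M (fun j => XB a (CB A' j B)) (fun j => piB a A' j B)
      (cover_mem a A' hcov B) x hx
  · intro B y hy
    exact sheaf_glue M _ _ (cover_mem a A' hcov B) y (compat_of_overlap M a A' B y hy)

end Main

end Groth.Agent.Lib.Helper92.Adeq2Base
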