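import Groth.Prelude.Def_Adeq2
import Mathlib
import Groth.Agent.Lib.Helper92.Adeq2Base
import Groth.Agent.S8749

/-!
# Adequate modules on big sites: `F_{M,R}` is adequate for every affine `Spec R → S`

`refine_affine`: coverings of an affine scheme for `Scheme.precoverage P` (with `P` containing open immersions,
stable under composition, consisting of open maps) can be refined by finite affine coverings.
`main`: the reference's Lemma "adequate module ⟹ all `F_{M,R}` adequate".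
-/

set_option autoImplicit false

universe u

open CategoryTheory Limits AlgebraicGeometry Opposite

namespace Groth.Agent.Lib.Helper92.Adeq2Main

open Groth.Agent.Lib.Helper92

theorem refine_affine (P : MorphismProperty Scheme.{u}) [P.IsStableUnderComposition]
    (hoi : ∀ {X Y : Scheme.{u}} (f : X ⟶ Y), IsOpenImmersion f → P f)
    (hopen : ∀ {X Y : Scheme.{u}} (f : X ⟶ Y), P f → IsOpenMap f)
    (R : CommRingCat.{u}) {ι : Type u} (W : ι → Scheme.{u}) (f : ∀ i, W i ⟶ Spec R)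
    (hcov : Presieve.ofArrows W f ∈ (Scheme.precoverage P).coverings (Spec R)) :
    ∃ (J : Type (u + 1)) (_ : Fintype J) (A' : J → CommRingCat.{u}) (φ : ∀ j, R ⟶ A' j)
      (i : J → ι) (h : ∀ j, Spec (A' j) ⟶ W (i j)), (∀ j, h j ≫ f (i j) = Spec.map (φ j)) ∧
      Presieve.ofArrows (fun j => Spec (A' j)) (fun j => Spec.map (φ j)) ∈
        (Scheme.precoverage P).coverings (Spec R) := by
  classical
  obtain ⟨hsurj, hP⟩ := (Scheme.ofArrows_mem_precoverage_iff P).mp hcov
  have hpt : ∀ x : Spec R, ∃ (i : ι) (R' : CommRingCat.{u}) (g : Spec R' ⟶ W i),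
      IsOpenImmersion g ∧ x ∈ Set.range (g ≫ f i) := by
    intro x
    obtain ⟨i, w, hw⟩ := hsurj x
    obtain ⟨R', g, hg, y, hy⟩ := Scheme.exists_Spec_apply_eq w
    refine ⟨i, R', g, hg, y, ?_⟩
    rw [Scheme.Hom.comp_apply, hy, hw]
  choose i R' g hg hx using hpt
  have hPh : ∀ x, P (g x ≫ f (i x)) := fun x => P.comp_mem _ _ (hoi _ (hg x)) (hP _)
  have hop : ∀ x, IsOpen (Set.range (g x ≫ f (i x))) := fun x => (hopen _ (hPh x)).isOpen_range
  obtain ⟨t, ht⟩ := isCompact_univ.elim_finite_subcover (fun x => Set.range (g x ≫ f (i x))) hop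
    (fun x _ => Set.mem_iUnion.mpr ⟨x, hx x⟩)
  refine ⟨ULift.{u + 1} ↥t, inferInstance, fun j => R' j.down.1,
    fun j => Spec.preimage (g j.down.1 ≫ f (i j.down.1)),
    fun j => i j.down.1, fun j => g j.down.1, fun j => (Spec.map_preimage _).symm, ?_⟩
  refine (Scheme.ofArrows_mem_precoverage_iff P).mpr ⟨fun x => ?_, fun j => ?_⟩
  · obtain ⟨x', hx't, hxr⟩ := Set.mem_iUnion₂.mp (ht (Set.mem_univ x))
    refine ⟨⟨⟨x', hx't⟩⟩, ?_⟩
    rw [Spec.map_preimage]
    exact hxr
  · rw [Spec.map_preimage]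
    exact hPh _

theorem main (K : Precoverage Scheme.{u}) [BigSite.OSh K] [K.IsStableUnderBaseChange]
    (href : ∀ (R : CommRingCat.{u}) {ι : Type u} (W : ι → Scheme.{u}) (f : ∀ i, W i ⟶ Spec R),
      Presieve.ofArrows W f ∈ K.coverings (Spec R) →
      ∃ (J : Type (u + 1)) (_ : Fintype J) (A' : J → CommRingCat.{u}) (φ : ∀ j, R ⟶ A' j)
        (i : J → ι) (h : ∀ j, Spec (A' j) ⟶ W (i j)), (∀ j, h j ≫ f (i j) = Spec.map (φ j)) ∧
        Presieve.ofArrows (fun j => Spec (A' j)) (fun j => Spec.map (φ j)) ∈ K.coverings (Spec R))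
    (S : Scheme.{u}) (M : BigSite.Mod K S) (hM : Adeq.adequateMod K S M)
    (R : CommRingCat.{u}) (a : Spec R ⟶ S) :
    Adeq.adequate R ((Adeq.toMVF K a).obj M) := by
  obtain ⟨ι, R₀, a₀, hcov, hadq⟩ := hM
  have hcovR : Presieve.ofArrows (fun i => pullback a (a₀ i)) (fun i => pullback.fst a (a₀ i)) ∈
      K.coverings (Spec R) :=
    Precoverage.mem_coverings_of_isPullback a₀ hcov a (fun i => pullback.fst a (a₀ i))
      (fun i => pullback.snd a (a₀ i)) (fun i => IsPullback.of_hasPullback a (a₀ i))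
  obtain ⟨J, hJ, A', φ, i, h, hφ, hcov'⟩ := href R _ _ hcovR
  let _ : Fintype J := hJ
  let alg : ∀ j, Algebra R (A' j) := fun j => (φ j).hom.toAlgebra
  refine Adeq2Base.adequate_of_affine_cover M a (fun j => (A' j : Type u)) hcov' ?_
  intro j
  have hb1 : Spec.map (CommRingCat.ofHom (algebraMap R (A' j))) ≫ a = Spec.map (φ j) ≫ a := rfl
  obtain ⟨e1⟩ := Adeq2Base.toMVF_restr_iso M a (Spec.map (φ j) ≫ a) hb1
  obtain ⟨ψ, hψ⟩ : ∃ ψ : R₀ (i j) ⟶ A' j, Spec.map ψ = h j ≫ pullback.snd a (a₀ (i j)) :=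
    ⟨Spec.preimage _, Spec.map_preimage _⟩
  have hfac : Spec.map ψ ≫ a₀ (i j) = Spec.map (φ j) ≫ a := by
    rw [hψ, ← hφ j, Category.assoc, Category.assoc, pullback.condition]
  let alg2 : Algebra (R₀ (i j)) (A' j) := ψ.hom.toAlgebra
  have hb2 : Spec.map (CommRingCat.ofHom (algebraMap (R₀ (i j)) (A' j))) ≫ a₀ (i j) =
      Spec.map (φ j) ≫ a := hfac
  obtain ⟨e2⟩ := Adeq2Base.toMVF_restr_iso M (a₀ (i j)) (Spec.map (φ j) ≫ a) hb2
  have h3 : Adeq.adequate (A' j) ((Adeq.restr (R₀ (i j)) (A' j)).obj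
      ((Adeq.toMVF K (a₀ (i j))).obj M)) :=
    Groth.Agent.S8749.result (R₀ (i j)) (A' j) _ (hadq (i j))
  have h4 := (Adeq.adequate (A' j)).prop_of_iso e2.symm h3
  exact (Adeq.adequate (A' j)).prop_of_iso e1 h4

theorem main_fppf (S : Scheme.{u}) (M : BigSite.Mod Scheme.fppfPrecoverage S)
    (hM : Adeq.adequateMod Scheme.fppfPrecoverage S M) (R : CommRingCat.{u}) (a : Spec R ⟶ S) :
    Adeq.adequate R ((Adeq.toMVF Scheme.fppfPrecoverage a).obj M) := by
  refine main Scheme.fppfPrecoverage ?_ S M hM R a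
  intro R ι W f hcov
  exact refine_affine (@Flat ⊓ @LocallyOfFinitePresentation)
    (fun f hf => by have := hf; exact ⟨inferInstance, inferInstance⟩)
    (fun f hf => by
      obtain ⟨h1, h2⟩ := hf
      have := h1
      have := h2
      exact f.isOpenMap) R W f hcov

theorem main_zariski (S : Scheme.{u}) (M : BigSite.Mod Scheme.zariskiPrecoverage S)
    (hM : Adeq.adequateMod Scheme.zariskiPrecoverage S M) (R : CommRingCat.{u}) (a : Spec R ⟶ S) :
    Adeq.adequate R ((Adeq.toMVF Scheme.zariskiPrecoverage a).obj M) := by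
  refine main Scheme.zariskiPrecoverage ?_ S M hM R a
  intro R ι W f hcov
  exact refine_affine @IsOpenImmersion (fun f hf => hf)
    (fun f hf => by have := hf; exact f.isOpenMap) R W f hcov

end Groth.Agent.Lib.Helper92.Adeq2Main
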