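import Groth.Prelude.Def_Adeq2
import Mathlib
import Groth.Agent.Lib.Helper92.Adeq2Main
import Groth.Agent.Lib.Helper92.AdeqExt
import Groth.Agent.S8743

/-!
# Adequate modules on the big fppf site: cokernels (presheaf level)

The presheaf cokernel of a morphism of adequate modules has adequate `F_{P,R}` for all affine `Spec R → S`.
-/

set_option autoImplicit false

universe u v w

open CategoryTheory Limits AlgebraicGeometry Opposite

namespace Groth.Agent.Lib.Helper92.Adeq2Coker

open Groth.Agent.Lib.Helper92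

section Gen

/-- for a reflective-type adjunction `L ⊣ G` (counit iso), cokernels in the target are computed by applying `L`
to the cokernel in the source -/
theorem nonempty_iso_cokernel_adj {C D : Type*} [Category C] [Category D] [HasZeroMorphisms C]
    [HasZeroMorphisms D] [HasCokernels C] [HasCokernels D]
    {L : C ⥤ D} {G : D ⥤ C} (adj : L ⊣ G) [IsIso adj.counit]
    {M N : D} (φ : M ⟶ N) :
    Nonempty (L.obj (cokernel (G.map φ)) ≅ cokernel φ) := by
  have hL : L.IsLeftAdjoint := adj.isLeftAdjoint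
  have hpres : PreservesColimit (parallelPair (G.map φ) 0) L := inferInstance
  have e1 : L.obj (cokernel (G.map φ)) ≅ cokernel (L.map (G.map φ)) :=
    PreservesCokernel.iso L (G.map φ)
  have e2 : cokernel (L.map (G.map φ)) ≅ cokernel φ :=
    cokernel.mapIso (L.map (G.map φ)) φ (asIso (adj.counit.app M)) (asIso (adj.counit.app N))
      (adj.counit.naturality φ)
  exact ⟨e1 ≪≫ e2⟩

end Gen

section PCoker

variable {C₀ : Type*} [Category C₀] {R₀ : C₀ᵒᵖ ⥤ RingCat.{v}} {P₁ P₂ : PresheafOfModules.{w} R₀}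
  (g : P₁ ⟶ P₂)

theorem pcoker_surj (X : C₀ᵒᵖ) : Function.Surjective ((cokernel.π g).app X) :=
  PresheafOfModules.surjective_of_epi (cokernel.π g) X

theorem pcoker_zero (X : C₀ᵒᵖ) (x : P₁.obj X) : (cokernel.π g).app X (g.app X x) = 0 := by
  have h0 : g.app X ≫ (cokernel.π g).app X = 0 := by
    rw [← PresheafOfModules.comp_app, cokernel.condition]
    rfl
  have := congrArg (fun φ => φ.hom x) h0
  simpa using this

theorem pcoker_exact (X : C₀ᵒᵖ) (y : P₂.obj X) (hy : (cokernel.π g).app X y = 0) :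
    ∃ x : P₁.obj X, g.app X x = y := by
  have hS : (ShortComplex.mk g (cokernel.π g) (cokernel.condition g)).Exact :=
    ShortComplex.exact_of_g_is_cokernel _ (cokernelIsCokernel g)
  have h1 := hS.map_of_epi_of_preservesCokernel (PresheafOfModules.evaluation R₀ X)
    inferInstance inferInstance
  rw [ShortComplex.moduleCat_exact_iff] at h1
  exact h1 y hy

/-- the identity map `P → P` viewed as a map to the restriction of scalars along the identity -/
noncomputable def toRS (P : PresheafOfModules.{w} R₀) :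
    P ⟶ (PresheafOfModules.restrictScalars (𝟙 R₀)).obj P :=
  PresheafOfModules.homMk (M₁ := P) (M₂ := (PresheafOfModules.restrictScalars (𝟙 R₀)).obj P)
    (𝟙 P.presheaf) (fun X r m => rfl)

theorem toRS_app (P : PresheafOfModules.{w} R₀) (X : C₀ᵒᵖ) (x : P.obj X) :
    (toRS P).app X x = x := rfl

end PCoker

section Main

variable (S : Scheme.{u}) {M N : BigSite.Mod Scheme.fppfPrecoverage S} (φ : M ⟶ N)

theorem pre_map_app {R : CommRingCat.{u}} (a : Spec R ⟶ S)
    {P P' : PresheafOfModules.{u + 1} (BigSite.ORing Scheme.fppfPrecoverage S).obj} (ψ : P ⟶ P')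
    (X : (Adeq.Alg R)ᵒᵖᵒᵖ) (x : ((Adeq.toMVFPre Scheme.fppfPrecoverage a).obj P).obj X) :
    ((Adeq.toMVFPre Scheme.fppfPrecoverage a).map ψ).app X x =
      ψ.app (op ((Adeq.specOver a).obj (op X.unop.unop))) x := rfl

theorem pre_cokernel_adequate (hM : Adeq.adequateMod Scheme.fppfPrecoverage S M)
    (hN : Adeq.adequateMod Scheme.fppfPrecoverage S N) (R : CommRingCat.{u}) (a : Spec R ⟶ S) :
    Adeq.adequate R ((Adeq.toMVFPre Scheme.fppfPrecoverage a).obj
      (cokernel ((SheafOfModules.forget (BigSite.ORing Scheme.fppfPrecoverage S) ⋙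
        PresheafOfModules.restrictScalars (𝟙 (BigSite.ORing Scheme.fppfPrecoverage S).obj)).map
          φ))) := by
  have hM' := Adeq2Main.main_fppf S M hM R a
  have hN' := Adeq2Main.main_fppf S N hN R a
  obtain ⟨g, hg⟩ : ∃ g : (PresheafOfModules.restrictScalars
        (𝟙 (BigSite.ORing Scheme.fppfPrecoverage S).obj)).obj M.val ⟶
      (PresheafOfModules.restrictScalars
        (𝟙 (BigSite.ORing Scheme.fppfPrecoverage S).obj)).obj N.val,
      g = (SheafOfModules.forget (BigSite.ORing Scheme.fppfPrecoverage S) ⋙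
        PresheafOfModules.restrictScalars (𝟙 (BigSite.ORing Scheme.fppfPrecoverage S).obj)).map
          φ := ⟨_, rfl⟩
  rw [← hg]
  have hgφ : ∀ (U : (Over S)ᵒᵖ) (x : M.val.obj U), g.app U x = φ.val.app U x := by
    intro U x
    rw [hg]
    rfl
  let ψ' : (Adeq.toMVF Scheme.fppfPrecoverage a).obj M ⟶
      (Adeq.toMVF Scheme.fppfPrecoverage a).obj N := (Adeq.toMVF Scheme.fppfPrecoverage a).map φ
  let θ' : (Adeq.toMVF Scheme.fppfPrecoverage a).obj N ⟶
      (Adeq.toMVFPre Scheme.fppfPrecoverage a).obj (cokernel g) :=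
    (Adeq.toMVFPre Scheme.fppfPrecoverage a).map (toRS N.val ≫ cokernel.π g)
  have hθ : ∀ X (y : ((Adeq.toMVF Scheme.fppfPrecoverage a).obj N).obj X),
      θ'.app X y = (cokernel.π g).app (op ((Adeq.specOver a).obj (op X.unop.unop))) y :=
    fun X y => rfl
  have hψ : ∀ X (x : ((Adeq.toMVF Scheme.fppfPrecoverage a).obj M).obj X),
      ψ'.app X x = g.app (op ((Adeq.specOver a).obj (op X.unop.unop))) x :=
    fun X x => (hgφ _ x).symm
  obtain ⟨e⟩ := AdeqExt.nonempty_iso_cokernel ψ' θ'
    (fun X z => by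
      obtain ⟨y, hy⟩ := pcoker_surj g (op ((Adeq.specOver a).obj (op X.unop.unop))) z
      exact ⟨y, (hθ X y).trans hy⟩)
    (fun X x => by
      rw [hθ, hψ]
      exact pcoker_zero g _ x)
    (fun X y hy => by
      rw [hθ] at hy
      obtain ⟨x, hx⟩ := pcoker_exact g _ y hy
      exact ⟨x, (hψ X x).trans hx⟩)
  exact (Adeq.adequate R).prop_of_iso e (Groth.Agent.S8743.result R ψ' hM' hN')

end Main

end Groth.Agent.Lib.Helper92.Adeq2Coker
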