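import Groth.Prelude.Def_Adeq2
import Mathlib
import Groth.Agent.Lib.Helper92.Adeq2Coker
import Groth.Agent.S8745

/-!
# Adequate modules on the big fppf site: colimits (presheaf level)

The presheaf colimit of a diagram of adequate modules has adequate `F_{P,R}` for all affine `Spec R → S`.
-/

set_option autoImplicit false

universe u

open CategoryTheory Limits AlgebraicGeometry Opposite

namespace Groth.Agent.Lib.Helper92.Adeq2Colim

open Groth.Agent.Lib.Helper92

section Gen

theorem nonempty_iso_colimit_adj {C D : Type*} [Category C] [Category D] {J : Type*} [Category J]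
    {L : C ⥤ D} {G : D ⥤ C} (adj : L ⊣ G) [IsIso adj.counit] (E : J ⥤ D) [HasColimit E]
    [HasColimit (E ⋙ G)] :
    Nonempty (L.obj (colimit (E ⋙ G)) ≅ colimit E) := by
  have hL : L.IsLeftAdjoint := adj.isLeftAdjoint
  have hp : PreservesColimit (E ⋙ G) L := inferInstance
  have i0 : (E ⋙ G) ⋙ L ≅ E :=
    Functor.associator E G L ≪≫ Functor.isoWhiskerLeft E (asIso adj.counit) ≪≫
      Functor.rightUnitor E
  have hc : HasColimit ((E ⋙ G) ⋙ L) := hasColimit_of_iso i0
  exact ⟨preservesColimitIso L (E ⋙ G) ≪≫ HasColimit.isoOfNatIso i0⟩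

end Gen

section Pres

variable {S : Scheme.{u}} {R : CommRingCat.{u}} (a : Spec R ⟶ S)

/-- compatibility of `toMVFPre` with the forgetful functors to presheaves of abelian groups -/
noncomputable def compIso :
    Adeq.toMVFPre Scheme.fppfPrecoverage a ⋙ PresheafOfModules.toPresheaf (Adeq.ringOf R) ≅
      PresheafOfModules.toPresheaf (BigSite.ORing Scheme.fppfPrecoverage S).obj ⋙
        (Functor.whiskeringLeft _ _ AddCommGrpCat.{u + 1}).obj (Adeq.specOver a).op :=
  NatIso.ofComponents (fun P => NatIso.ofComponents (fun X => Iso.refl _) (by intros; rfl))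
    (by intros; rfl)

theorem pres {J : Type (u + 1)} [SmallCategory J]
    (E : J ⥤ PresheafOfModules.{u + 1} (BigSite.ORing Scheme.fppfPrecoverage S).obj) :
    PreservesColimit E (Adeq.toMVFPre Scheme.fppfPrecoverage a) := by
  have h1 : PreservesColimit E
      (PresheafOfModules.toPresheaf (BigSite.ORing Scheme.fppfPrecoverage S).obj ⋙
        (Functor.whiskeringLeft _ _ AddCommGrpCat.{u + 1}).obj (Adeq.specOver a).op) :=
    inferInstance
  have h2 : PreservesColimit E (Adeq.toMVFPre Scheme.fppfPrecoverage a ⋙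
      PresheafOfModules.toPresheaf (Adeq.ringOf R)) :=
    preservesColimit_of_natIso E (compIso a).symm
  have h3 : ReflectsColimit (E ⋙ Adeq.toMVFPre Scheme.fppfPrecoverage a)
      (PresheafOfModules.toPresheaf (Adeq.ringOf R)) :=
    reflectsColimit_of_reflectsIsomorphisms _ _
  exact preservesColimit_of_reflects_of_preserves (Adeq.toMVFPre Scheme.fppfPrecoverage a)
    (PresheafOfModules.toPresheaf (Adeq.ringOf R))

end Pres

section Main

theorem pre_colimit_adequate (S : Scheme.{u}) {J : Type (u + 1)} [SmallCategory J]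
    (D : J ⥤ BigSite.Mod Scheme.fppfPrecoverage S)
    (hD : ∀ j, Adeq.adequateMod Scheme.fppfPrecoverage S (D.obj j))
    (R : CommRingCat.{u}) (a : Spec R ⟶ S) :
    Adeq.adequate R ((Adeq.toMVFPre Scheme.fppfPrecoverage a).obj
      (colimit (D ⋙ (SheafOfModules.forget (BigSite.ORing Scheme.fppfPrecoverage S) ⋙
        PresheafOfModules.restrictScalars
          (𝟙 (BigSite.ORing Scheme.fppfPrecoverage S).obj))))) := by
  have hp := pres a (D ⋙ (SheafOfModules.forget (BigSite.ORing Scheme.fppfPrecoverage S) ⋙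
    PresheafOfModules.restrictScalars (𝟙 (BigSite.ORing Scheme.fppfPrecoverage S).obj)))
  have e := preservesColimitIso (Adeq.toMVFPre Scheme.fppfPrecoverage a)
    (D ⋙ (SheafOfModules.forget (BigSite.ORing Scheme.fppfPrecoverage S) ⋙
      PresheafOfModules.restrictScalars (𝟙 (BigSite.ORing Scheme.fppfPrecoverage S).obj)))
  refine (Adeq.adequate R).prop_of_iso e.symm ?_
  refine Groth.Agent.S8745.result R _ (fun j => ?_)
  have h1 := Adeq2Main.main_fppf S (D.obj j) (hD j) R a
  obtain ⟨i⟩ := Adeq2Base.nonempty_iso_of_bij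
    ((Adeq.toMVFPre Scheme.fppfPrecoverage a).map (Adeq2Coker.toRS (D.obj j).val))
    (fun X => ⟨fun x y h => h, fun y => ⟨y, rfl⟩⟩)
  exact (Adeq.adequate R).prop_of_iso i h1

end Main

end Groth.Agent.Lib.Helper92.Adeq2Colim
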