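import Groth.Prelude.Def_Adeq2
import Mathlib
import Groth.Agent.Lib.Helper92.Adeq2Main
import Groth.Agent.S8744

/-!
# Adequate modules on big sites: pullback, locality, kernels
-/

set_option autoImplicit false

universe u

open CategoryTheory Limits AlgebraicGeometry Opposite

namespace Groth.Agent.Lib.Helper92.Adeq2Pull

open Groth.Agent.Lib.Helper92 Groth.Agent.Lib.Helper92.Adeq2Base

section Pull

variable {K : Precoverage Scheme.{u}} [BigSite.OSh K] {S T : Scheme.{u}} (f : T ⟶ S)
  (M : BigSite.Mod K S) {R : CommRingCat.{u}} (b : Spec R ⟶ T)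

/-- comparison iso of objects of the big site -/
noncomputable def pIso (B : Adeq.Alg R) :
    (Over.map f).obj ((Adeq.specOver b).obj (op B)) ≅ (Adeq.specOver (b ≫ f)).obj (op B) :=
  Over.isoMk (Iso.refl _) (by
    change 𝟙 _ ≫ (Spec.map (CommRingCat.ofHom (algebraMap R B)) ≫ b ≫ f) =
      (Spec.map (CommRingCat.ofHom (algebraMap R B)) ≫ b) ≫ f
    rw [Category.id_comp, Category.assoc])

theorem pIso_nat {B B' : Adeq.Alg R} (φ : B ⟶ B') :
    (pIso f b B').hom ≫ (Adeq.specOver (b ≫ f)).map φ.op =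
      (Over.map f).map ((Adeq.specOver b).map φ.op) ≫ (pIso f b B).hom := by
  apply Over.OverMorphism.ext
  change 𝟙 _ ≫ Spec.map (CommRingCat.ofHom φ.hom.toRingHom) =
    Spec.map (CommRingCat.ofHom φ.hom.toRingHom) ≫ 𝟙 _
  rw [Category.id_comp, Category.comp_id]

theorem toMVF_pull_iso :
    Nonempty ((Adeq.toMVF K (b ≫ f)).obj M ≅ (Adeq.toMVF K b).obj ((BigSite.pullMod K f).obj M)) := by
  let θ : (Adeq.toMVF K (b ≫ f)).obj M ⟶ (Adeq.toMVF K b).obj ((BigSite.pullMod K f).obj M) :=
    PresheafOfModules.homMk (M₁ := (Adeq.toMVF K (b ≫ f)).obj M)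
      (M₂ := (Adeq.toMVF K b).obj ((BigSite.pullMod K f).obj M))
      { app := fun X => AddCommGrpCat.ofHom
          (M.val.presheaf.map (pIso f b X.unop.unop).hom.op).hom
        naturality := fun {X Y} g => by
          ext x
          exact (rho_comp M _ _ x).symm.trans
            ((rho_congr M (pIso_nat f b g.unop.unop) x).trans (rho_comp M _ _ x)) }
      (fun X r m => by
        have h := M.val.map_smul (pIso f b X.unop.unop).hom.op
          (Adeq.toSect K (b ≫ f) X.unop.unop r) m
        refine h.trans ?_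
        congr 1)
  refine nonempty_iso_of_bij θ (fun X => ?_)
  refine Function.bijective_iff_has_inverse.mpr
    ⟨fun y => M.val.presheaf.map (pIso f b X.unop.unop).inv.op y, ?_, ?_⟩
  · intro x
    change M.val.presheaf.map (pIso f b X.unop.unop).inv.op
      (M.val.presheaf.map (pIso f b X.unop.unop).hom.op x) = x
    rw [← rho_comp, Iso.inv_hom_id, rho_id]
  · intro y
    change M.val.presheaf.map (pIso f b X.unop.unop).hom.op
      (M.val.presheaf.map (pIso f b X.unop.unop).inv.op y) = y
    rw [← rho_comp, Iso.hom_inv_id, rho_id]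

end Pull

section Kernel

variable {K : Precoverage Scheme.{u}} [BigSite.OSh K] {S : Scheme.{u}} {M N : BigSite.Mod K S}
  (φ : M ⟶ N)

theorem evaluation_additive (U : (Over S)ᵒᵖ) :
    (SheafOfModules.evaluation (BigSite.ORing K S) U :
      BigSite.Mod K S ⥤ ModuleCat.{u + 1} ((BigSite.ORing K S).obj.obj U)).Additive := by
  unfold SheafOfModules.evaluation
  infer_instance

theorem ker_inj (U : (Over S)ᵒᵖ) : Function.Injective ((kernel.ι φ).val.app U) := by
  have h : Mono ((SheafOfModules.evaluation (BigSite.ORing K S) U).map (kernel.ι φ)) :=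
    inferInstance
  exact (ModuleCat.mono_iff_injective _).mp h

theorem ker_exact (U : (Over S)ᵒᵖ) (y : M.val.obj U) (hy : φ.val.app U y = 0) :
    ∃ x : (kernel φ).val.obj U, (kernel.ι φ).val.app U x = y := by
  have hadd := evaluation_additive (K := K) (S := S) U
  have hS : (ShortComplex.mk (kernel.ι φ) φ (kernel.condition φ)).Exact :=
    ShortComplex.exact_of_f_is_kernel _ (kernelIsKernel φ)
  have h1 := hS.map_of_mono_of_preservesKernel
    (SheafOfModules.evaluation (BigSite.ORing K S) U) inferInstance inferInstance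
  rw [ShortComplex.moduleCat_exact_iff] at h1
  exact h1 y hy

theorem toMVF_kernel_iso {R : CommRingCat.{u}} (a : Spec R ⟶ S) :
    Nonempty ((Adeq.toMVF K a).obj (kernel φ) ≅ kernel ((Adeq.toMVF K a).map φ)) := by
  refine MVFKernel.nonempty_iso_kernel ((Adeq.toMVF K a).map (kernel.ι φ))
    ((Adeq.toMVF K a).map φ) ?_ ?_ ?_
  · intro X
    exact ker_inj φ (op ((Adeq.specOver a).obj (op X.unop.unop)))
  · intro X x
    have w : (Adeq.toMVF K a).map (kernel.ι φ) ≫ (Adeq.toMVF K a).map φ = 0 := by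
      rw [← CategoryTheory.Functor.map_comp, kernel.condition, CategoryTheory.Functor.map_zero]
    exact MVFKernel.pointwise_comp_zero _ _ w X x
  · intro X y hy
    exact ker_exact φ (op ((Adeq.specOver a).obj (op X.unop.unop))) y hy

end Kernel

section Results

theorem kernel_adequate (S : Scheme.{u}) {M N : BigSite.Mod Scheme.fppfPrecoverage S} (φ : M ⟶ N)
    (hM : Adeq.adequateMod Scheme.fppfPrecoverage S M)
    (hN : Adeq.adequateMod Scheme.fppfPrecoverage S N) :
    Adeq.adequateMod Scheme.fppfPrecoverage S (kernel φ) := by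
  obtain ⟨ι, R₀, a₀, hcov, hadq⟩ := hM
  refine ⟨ι, R₀, a₀, hcov, fun i => ?_⟩
  have hN' := Adeq2Main.main_fppf S N hN (R₀ i) (a₀ i)
  have hker := Groth.Agent.S8744.result (R₀ i) ((Adeq.toMVF Scheme.fppfPrecoverage (a₀ i)).map φ)
    (hadq i) hN'
  obtain ⟨e⟩ := toMVF_kernel_iso φ (a₀ i)
  exact (Adeq.adequate (R₀ i)).prop_of_iso e.symm hker

theorem pull_adequate {S T : Scheme.{u}} (f : T ⟶ S) (M : BigSite.Mod Scheme.fppfPrecoverage S)
    (hM : Adeq.adequateMod Scheme.fppfPrecoverage S M) :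
    Adeq.adequateMod Scheme.fppfPrecoverage T ((BigSite.pullMod Scheme.fppfPrecoverage f).obj M) := by
  refine ⟨T.affineOpenCover.I₀, fun j => T.affineOpenCover.X j, fun j => T.affineOpenCover.f j,
    ?_, fun j => ?_⟩
  · refine Scheme.zariskiPrecoverage_le_fppfPrecoverage _ ?_
    refine (Scheme.ofArrows_mem_precoverage_iff _).mpr ⟨fun x => ?_, fun j => inferInstance⟩
    exact ⟨T.affineOpenCover.idx x, T.affineOpenCover.covers x⟩
  · have h1 := Adeq2Main.main_fppf S M hM (T.affineOpenCover.X j) (T.affineOpenCover.f j ≫ f)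
    obtain ⟨e⟩ := toMVF_pull_iso f M (T.affineOpenCover.f j)
    exact (Adeq.adequate _).prop_of_iso e h1

theorem local_adequate (S : Scheme.{u}) (M : BigSite.Mod Scheme.fppfPrecoverage S) (ι : Type u)
    (T : ι → Scheme.{u}) (f : ∀ i, T i ⟶ S)
    (hcov : Presieve.ofArrows T f ∈ Scheme.fppfPrecoverage.coverings S)
    (h : ∀ i, Adeq.adequateMod Scheme.fppfPrecoverage (T i)
      ((BigSite.pullMod Scheme.fppfPrecoverage (f i)).obj M)) :
    Adeq.adequateMod Scheme.fppfPrecoverage S M := by
  choose ι' R' a' hcov' hadq' using h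
  refine ⟨Σ i, ι' i, fun p => R' p.1 p.2, fun p => a' p.1 p.2 ≫ f p.1, ?_, fun p => ?_⟩
  · exact Precoverage.comp_mem_coverings f hcov (fun i j => a' i j) hcov'
  · obtain ⟨e⟩ := toMVF_pull_iso (f p.1) M (a' p.1 p.2)
    exact (Adeq.adequate _).prop_of_iso e.symm (hadq' p.1 p.2)

end Results

end Groth.Agent.Lib.Helper92.Adeq2Pull
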