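import Groth.Prelude.Def_Adeq
import Mathlib
import Groth.Agent.Lib.Helper92.MVFKernel

/-!
# Faithfully flat descent (first two degrees) for adequate functors

`exact_d`: for a faithfully flat `A`-algebra `B` and an `A`-module `M` the sequence
`A ⊗ M → B ⊗ M → (B ⊗ B) ⊗ M` is exact; `adequate_amitsur`: the same for an adequate functor.
-/

set_option autoImplicit false

universe u

open CategoryTheory Limits TensorProduct

namespace Groth.Agent.Lib.Helper92.AdeqAmitsur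

section Mod

variable {A : Type*} [CommRing A] {B : Type*} [CommRing B] [Algebra A B]
  {M : Type*} [AddCommGroup M] [Module A M]

variable (A B M) in
/-- `A ⊗ M → B ⊗ M` -/
noncomputable def d0 : A ⊗[A] M →ₗ[A] B ⊗[A] M := (Algebra.ofId A B).toLinearMap.rTensor M

variable (A B M) in
/-- `B ⊗ M → (B ⊗ B) ⊗ M`, `b ⊗ m ↦ (b ⊗ 1 - 1 ⊗ b) ⊗ m` -/
noncomputable def d1 : B ⊗[A] M →ₗ[A] (B ⊗[A] B) ⊗[A] M :=
  ((Algebra.TensorProduct.includeLeft : B →ₐ[A] B ⊗[A] B).toLinearMap -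
    (Algebra.TensorProduct.includeRight : B →ₐ[A] B ⊗[A] B).toLinearMap).rTensor M

variable (A B M) in
noncomputable def mu : B ⊗[A] (B ⊗[A] M) →ₗ[A] B ⊗[A] (A ⊗[A] M) :=
  (LinearMap.lTensor B (TensorProduct.lid A M).symm.toLinearMap) ∘ₗ
    ((Algebra.TensorProduct.lmul' A (S := B)).toLinearMap.rTensor M) ∘ₗ
      (TensorProduct.assoc A B B M).symm.toLinearMap

variable (A B) in
noncomputable def nu : B ⊗[A] (B ⊗[A] B) →ₗ[A] B ⊗[A] B :=
  ((Algebra.TensorProduct.lmul' A (S := B)).toLinearMap.rTensor B) ∘ₗ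
    (TensorProduct.assoc A B B B).symm.toLinearMap

variable (A B M) in
noncomputable def hh : B ⊗[A] ((B ⊗[A] B) ⊗[A] M) →ₗ[A] B ⊗[A] (B ⊗[A] M) :=
  (TensorProduct.assoc A B B M).toLinearMap ∘ₗ ((nu A B).rTensor M) ∘ₗ
    (TensorProduct.assoc A B (B ⊗[A] B) M).symm.toLinearMap

theorem d0_tmul (a : A) (m : M) : d0 A B M (a ⊗ₜ[A] m) = (algebraMap A B a) ⊗ₜ[A] m := by
  simp [d0]

theorem d1_tmul (b : B) (m : M) :
    d1 A B M (b ⊗ₜ[A] m) = (b ⊗ₜ[A] (1 : B)) ⊗ₜ[A] m - ((1 : B) ⊗ₜ[A] b) ⊗ₜ[A] m := by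
  simp [d1]

theorem mu_tmul (s t : B) (m : M) :
    mu A B M (s ⊗ₜ[A] (t ⊗ₜ[A] m)) = (s * t) ⊗ₜ[A] ((1 : A) ⊗ₜ[A] m) := by
  simp [mu]

theorem hh_tmul (s t u : B) (m : M) :
    hh A B M (s ⊗ₜ[A] ((t ⊗ₜ[A] u) ⊗ₜ[A] m)) = (s * t) ⊗ₜ[A] (u ⊗ₜ[A] m) := by
  simp [hh, nu]

theorem key (y : B ⊗[A] (B ⊗[A] M)) :
    hh A B M ((d1 A B M).lTensor B y) = (d0 A B M).lTensor B (mu A B M y) - y := by
  induction y using TensorProduct.induction_on with
  | zero => simp
  | add x y hx hy =>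
    rw [map_add, map_add, map_add, map_add, hx, hy]
    abel
  | tmul s z =>
    induction z using TensorProduct.induction_on with
    | zero => simp
    | add x y hx hy =>
      rw [TensorProduct.tmul_add, map_add, map_add, map_add, map_add, hx, hy]
      abel
    | tmul t m =>
      rw [LinearMap.lTensor_tmul, d1_tmul, TensorProduct.tmul_sub, map_sub, hh_tmul, hh_tmul,
        mu_tmul, LinearMap.lTensor_tmul, d0_tmul, map_one, mul_one]

theorem d1_comp_d0 : (d1 A B M) ∘ₗ (d0 A B M) = 0 := by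
  apply TensorProduct.ext'
  intro a m
  rw [LinearMap.comp_apply, d0_tmul, d1_tmul, LinearMap.zero_apply,
    Algebra.algebraMap_eq_smul_one, TensorProduct.smul_tmul, sub_self]

theorem exact_d [Module.FaithfullyFlat A B] : Function.Exact (d0 A B M) (d1 A B M) := by
  apply Module.FaithfullyFlat.lTensor_reflects_exact A B
  intro y
  constructor
  · intro hy
    refine ⟨mu A B M y, ?_⟩
    have h := key y
    rw [hy, map_zero] at h
    exact sub_eq_zero.mp h.symm
  · rintro ⟨w, rfl⟩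
    rw [← LinearMap.comp_apply, ← LinearMap.lTensor_comp, d1_comp_d0, LinearMap.lTensor_zero,
      LinearMap.zero_apply]

theorem d0_eq (w : A ⊗[A] M) :
    d0 A B M w = TensorProduct.mk A B M 1 (TensorProduct.lid A M w) := by
  induction w using TensorProduct.induction_on with
  | zero => simp
  | add x y hx hy => rw [map_add, map_add, map_add, hx, hy]
  | tmul a m =>
    rw [d0_tmul, TensorProduct.lid_tmul, TensorProduct.mk_apply, Algebra.algebraMap_eq_smul_one,
      TensorProduct.smul_tmul]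

theorem d0_injective [Module.FaithfullyFlat A B] : Function.Injective (d0 A B M) := by
  intro w w' h
  rw [d0_eq, d0_eq] at h
  exact (TensorProduct.lid A M).injective
    (Module.FaithfullyFlat.tensorProduct_mk_injective (A := A) (B := B) M h)

theorem exists_of_eq [Module.FaithfullyFlat A B] (v : B ⊗[A] M)
    (hv : ((Algebra.TensorProduct.includeLeft : B →ₐ[A] B ⊗[A] B).toLinearMap.rTensor M) v =
      ((Algebra.TensorProduct.includeRight : B →ₐ[A] B ⊗[A] B).toLinearMap.rTensor M) v) :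
    ∃ w : A ⊗[A] M, d0 A B M w = v := by
  have h1 : d1 A B M v = 0 := by
    unfold d1
    rw [LinearMap.rTensor_sub, LinearMap.sub_apply, hv, sub_self]
  exact (exact_d (A := A) (B := B) (M := M) v).mp h1

end Mod

section Adeq

open Adeq

theorem adequate_amitsur (A : Type u) [CommRing A] (F : Adeq.MVF A) (hF : Adeq.adequate A F)
    (B : Type u) [CommRing B] [Algebra A B] [Module.FaithfullyFlat A B] :
    Function.Injective (F.map (Adeq.ptHom
        (CommAlgCat.ofHom (Algebra.ofId A B) : Adeq.algOf A A ⟶ Adeq.algOf A B))) ∧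
      ∀ y : F.obj (Adeq.pt (Adeq.algOf A B)),
        F.map (Adeq.ptHom (CommAlgCat.ofHom
            (Algebra.TensorProduct.includeLeft : B →ₐ[A] B ⊗[A] B) :
              Adeq.algOf A B ⟶ Adeq.algOf A (B ⊗[A] B))) y =
          F.map (Adeq.ptHom (CommAlgCat.ofHom
            (Algebra.TensorProduct.includeRight : B →ₐ[A] B ⊗[A] B) :
              Adeq.algOf A B ⟶ Adeq.algOf A (B ⊗[A] B))) y →
        y ∈ Set.range (F.map (Adeq.ptHom
          (CommAlgCat.ofHom (Algebra.ofId A B) : Adeq.algOf A A ⟶ Adeq.algOf A B))) := by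
  obtain ⟨M₀, N₀, g, ⟨e⟩⟩ := hF
  obtain ⟨θ, hinj, hzero, hex⟩ :=
    MVFKernel.exists_pointwise_of_iso_kernel ((Adeq.underline A).map g) e
  obtain ⟨fA, hfA⟩ : ∃ fA : Adeq.algOf A A ⟶ Adeq.algOf A B,
      fA = CommAlgCat.ofHom (Algebra.ofId A B) := ⟨_, rfl⟩
  obtain ⟨fL, hfL⟩ : ∃ fL : Adeq.algOf A B ⟶ Adeq.algOf A (B ⊗[A] B), fL = CommAlgCat.ofHom
      (Algebra.TensorProduct.includeLeft : B →ₐ[A] B ⊗[A] B) := ⟨_, rfl⟩
  obtain ⟨fR, hfR⟩ : ∃ fR : Adeq.algOf A B ⟶ Adeq.algOf A (B ⊗[A] B), fR = CommAlgCat.ofHom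
      (Algebra.TensorProduct.includeRight : B →ₐ[A] B ⊗[A] B) := ⟨_, rfl⟩
  rw [← hfA, ← hfL, ← hfR]
  -- naturality of θ
  have natA : ∀ x : F.obj (Adeq.pt (Adeq.algOf A A)),
      θ.app (Adeq.pt (Adeq.algOf A B)) (F.map (Adeq.ptHom fA) x) =
        d0 A B M₀ (θ.app (Adeq.pt (Adeq.algOf A A)) x) := by
    intro x
    rw [hfA]
    exact PresheafOfModules.naturality_apply θ (Adeq.ptHom
      (CommAlgCat.ofHom (Algebra.ofId A B) : Adeq.algOf A A ⟶ Adeq.algOf A B)) x
  have natL : ∀ y : F.obj (Adeq.pt (Adeq.algOf A B)),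
      θ.app (Adeq.pt (Adeq.algOf A (B ⊗[A] B))) (F.map (Adeq.ptHom fL) y) =
        ((Algebra.TensorProduct.includeLeft : B →ₐ[A] B ⊗[A] B).toLinearMap.rTensor M₀)
          (θ.app (Adeq.pt (Adeq.algOf A B)) y) := by
    intro y
    rw [hfL]
    exact PresheafOfModules.naturality_apply θ (Adeq.ptHom (CommAlgCat.ofHom
      (Algebra.TensorProduct.includeLeft : B →ₐ[A] B ⊗[A] B) :
        Adeq.algOf A B ⟶ Adeq.algOf A (B ⊗[A] B))) y
  have natR : ∀ y : F.obj (Adeq.pt (Adeq.algOf A B)),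
      θ.app (Adeq.pt (Adeq.algOf A (B ⊗[A] B))) (F.map (Adeq.ptHom fR) y) =
        ((Algebra.TensorProduct.includeRight : B →ₐ[A] B ⊗[A] B).toLinearMap.rTensor M₀)
          (θ.app (Adeq.pt (Adeq.algOf A B)) y) := by
    intro y
    rw [hfR]
    exact PresheafOfModules.naturality_apply θ (Adeq.ptHom (CommAlgCat.ofHom
      (Algebra.TensorProduct.includeRight : B →ₐ[A] B ⊗[A] B) :
        Adeq.algOf A B ⟶ Adeq.algOf A (B ⊗[A] B))) y
  have natG : ∀ w : ((Adeq.underline A).obj M₀).obj (Adeq.pt (Adeq.algOf A A)),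
      ((Adeq.underline A).map g).app (Adeq.pt (Adeq.algOf A B)) (d0 A B M₀ w) =
        d0 A B N₀ (((Adeq.underline A).map g).app (Adeq.pt (Adeq.algOf A A)) w) := by
    intro w
    exact PresheafOfModules.naturality_apply ((Adeq.underline A).map g) (Adeq.ptHom
      (CommAlgCat.ofHom (Algebra.ofId A B) : Adeq.algOf A A ⟶ Adeq.algOf A B)) w
  refine ⟨?_, ?_⟩
  · intro x x' hxx
    apply hinj (Adeq.pt (Adeq.algOf A A))
    apply d0_injective (A := A) (B := B) (M := M₀)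
    rw [← natA, ← natA, hxx]
  · intro y hy
    have hv : ((Algebra.TensorProduct.includeLeft : B →ₐ[A] B ⊗[A] B).toLinearMap.rTensor M₀)
          (θ.app (Adeq.pt (Adeq.algOf A B)) y) =
        ((Algebra.TensorProduct.includeRight : B →ₐ[A] B ⊗[A] B).toLinearMap.rTensor M₀)
          (θ.app (Adeq.pt (Adeq.algOf A B)) y) := by
      rw [← natL, ← natR, hy]
    obtain ⟨w, hw⟩ := exists_of_eq (A := A) (B := B) (M := M₀) _ hv
    have hgw : ((Adeq.underline A).map g).app (Adeq.pt (Adeq.algOf A A)) w = 0 := by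
      apply d0_injective (A := A) (B := B) (M := N₀)
      rw [← natG, hw]
      exact (hzero (Adeq.pt (Adeq.algOf A B)) y).trans (map_zero (d0 A B N₀)).symm
    obtain ⟨x, hx⟩ := hex (Adeq.pt (Adeq.algOf A A)) w hgw
    refine ⟨x, ?_⟩
    apply hinj (Adeq.pt (Adeq.algOf A B))
    rw [natA, hx, hw]

end Adeq

end Groth.Agent.Lib.Helper92.AdeqAmitsur
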