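import Groth.Prelude.Def_Adeq
import Mathlib
import Groth.Agent.Lib.Helper92.AdeqAmitsur

/-!
# Faithfully flat descent (first two degrees) for a finite family of algebras

Module-level: for a finite family `A → A'_j` with `∏ A'_j` faithfully flat over `A`, the sequence
`A ⊗ M → ∏ A'_j ⊗ M ⇉ ∏ (A'_j ⊗ A'_k) ⊗ M` is exact in the first two places; `adequate_family`: the same for an
adequate functor.
-/

set_option autoImplicit false

universe u

open CategoryTheory Limits TensorProduct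

namespace Groth.Agent.Lib.Helper92.AdeqPi

open Groth.Agent.Lib.Helper92.AdeqAmitsur

section Gen

variable {A : Type*} [CommRing A]

theorem rTensor_finset_sum {I : Type*} (s : Finset I) {N P : Type*} [AddCommGroup N] [Module A N]
    [AddCommGroup P] [Module A P] (M : Type*) [AddCommGroup M] [Module A M]
    (f : I → (N →ₗ[A] P)) :
    (∑ j ∈ s, f j).rTensor M = ∑ j ∈ s, (f j).rTensor M := by
  classical
  induction s using Finset.induction_on with
  | empty => rw [Finset.sum_empty, Finset.sum_empty, LinearMap.rTensor_zero]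
  | insert a s ha ih => rw [Finset.sum_insert ha, Finset.sum_insert ha, LinearMap.rTensor_add, ih]

/-- a family of maps with a "partition of unity" is jointly injective after tensoring -/
theorem eq_zero_of_family {I : Type*} [Fintype I] {N : Type*} [AddCommGroup N] [Module A N]
    {N' : I → Type*} [∀ i, AddCommGroup (N' i)] [∀ i, Module A (N' i)]
    (f : ∀ i, N →ₗ[A] N' i) (g : ∀ i, N' i →ₗ[A] N)
    (hfg : ∑ i, (g i) ∘ₗ (f i) = LinearMap.id)
    (M : Type*) [AddCommGroup M] [Module A M] (z : N ⊗[A] M)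
    (hz : ∀ i, (f i).rTensor M z = 0) : z = 0 := by
  have h1 : (∑ i, (g i) ∘ₗ (f i)).rTensor M z = z := by
    rw [hfg, LinearMap.rTensor_id, LinearMap.id_apply]
  rw [rTensor_finset_sum, LinearMap.sum_apply] at h1
  rw [← h1]
  apply Finset.sum_eq_zero
  intro i _
  rw [LinearMap.rTensor_comp, LinearMap.comp_apply, hz i, map_zero]

end Gen

section Mod

variable {A : Type*} [CommRing A] {J : Type*} [Fintype J] [DecidableEq J]
  (A' : J → Type*) [∀ j, CommRing (A' j)] [∀ j, Algebra A (A' j)]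
  (M : Type*) [AddCommGroup M] [Module A M]

theorem sum_single_proj :
    ∑ j, (LinearMap.single A A' j) ∘ₗ (LinearMap.proj j) = LinearMap.id := by
  apply LinearMap.ext
  intro x
  rw [LinearMap.sum_apply, LinearMap.id_apply]
  simp only [LinearMap.comp_apply, LinearMap.proj_apply, LinearMap.coe_single]
  exact Finset.univ_sum_single x

theorem sum_single_proj_apply (x : ∀ j, A' j) :
    ∑ j, (LinearMap.single A A' j) ((LinearMap.proj j : (∀ j, A' j) →ₗ[A] A' j) x) = x := by
  have h := LinearMap.congr_fun (sum_single_proj (A := A) A') x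
  rw [LinearMap.sum_apply, LinearMap.id_apply] at h
  exact h

theorem sum_map_single_proj :
    ∑ q : J × J, (TensorProduct.map (LinearMap.single A A' q.1) (LinearMap.single A A' q.2)) ∘ₗ
      (TensorProduct.map (LinearMap.proj q.1 : (∀ j, A' j) →ₗ[A] A' q.1)
        (LinearMap.proj q.2 : (∀ j, A' j) →ₗ[A] A' q.2)) = LinearMap.id := by
  apply TensorProduct.ext'
  intro x y
  rw [LinearMap.sum_apply, LinearMap.id_apply, Fintype.sum_prod_type]
  simp only [LinearMap.comp_apply, TensorProduct.map_tmul]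
  have h1 : ∀ j : J, ∑ k, (LinearMap.single A A' j)
        ((LinearMap.proj j : (∀ j, A' j) →ₗ[A] A' j) x) ⊗ₜ[A]
        (LinearMap.single A A' k) ((LinearMap.proj k : (∀ j, A' j) →ₗ[A] A' k) y) =
      (LinearMap.single A A' j) ((LinearMap.proj j : (∀ j, A' j) →ₗ[A] A' j) x) ⊗ₜ[A] y := by
    intro j
    rw [← TensorProduct.tmul_sum, sum_single_proj_apply]
  rw [Finset.sum_congr rfl (fun j _ => h1 j), ← TensorProduct.sum_tmul, sum_single_proj_apply]

theorem proj_comp_ofId (j : J) :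
    (LinearMap.proj j : (∀ j, A' j) →ₗ[A] A' j) ∘ₗ (Algebra.ofId A (∀ j, A' j)).toLinearMap =
      (Algebra.ofId A (A' j)).toLinearMap := by
  apply LinearMap.ext
  intro a
  rfl

theorem proj_d0 (j : J) (w : A ⊗[A] M) :
    (LinearMap.proj j : (∀ j, A' j) →ₗ[A] A' j).rTensor M (d0 A (∀ j, A' j) M w) =
      d0 A (A' j) M w := by
  unfold d0
  rw [← LinearMap.comp_apply, ← LinearMap.rTensor_comp, proj_comp_ofId]

theorem fam_inj [Module.FaithfullyFlat A (∀ j, A' j)] (w : A ⊗[A] M)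
    (hw : ∀ j, d0 A (A' j) M w = 0) : w = 0 := by
  have h1 : d0 A (∀ j, A' j) M w = 0 := by
    refine eq_zero_of_family (fun j => (LinearMap.proj j : (∀ j, A' j) →ₗ[A] A' j))
      (fun j => LinearMap.single A A' j) (sum_single_proj A') M _ (fun j => ?_)
    rw [proj_d0, hw j]
  apply d0_injective (A := A) (B := ∀ j, A' j) (M := M)
  rw [h1, map_zero]

theorem map_proj_comp_inl (j k : J) :
    (TensorProduct.map (LinearMap.proj j : (∀ j, A' j) →ₗ[A] A' j)
        (LinearMap.proj k : (∀ j, A' j) →ₗ[A] A' k)) ∘ₗ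
      (Algebra.TensorProduct.includeLeft :
        (∀ j, A' j) →ₐ[A] (∀ j, A' j) ⊗[A] (∀ j, A' j)).toLinearMap =
    (Algebra.TensorProduct.includeLeft : A' j →ₐ[A] A' j ⊗[A] A' k).toLinearMap ∘ₗ
      (LinearMap.proj j : (∀ j, A' j) →ₗ[A] A' j) := by
  apply LinearMap.ext
  intro x
  simp only [LinearMap.comp_apply, AlgHom.toLinearMap_apply,
    Algebra.TensorProduct.includeLeft_apply, TensorProduct.map_tmul, LinearMap.proj_apply,
    Pi.one_apply]

theorem map_proj_comp_inr (j k : J) :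
    (TensorProduct.map (LinearMap.proj j : (∀ j, A' j) →ₗ[A] A' j)
        (LinearMap.proj k : (∀ j, A' j) →ₗ[A] A' k)) ∘ₗ
      (Algebra.TensorProduct.includeRight :
        (∀ j, A' j) →ₐ[A] (∀ j, A' j) ⊗[A] (∀ j, A' j)).toLinearMap =
    (Algebra.TensorProduct.includeRight : A' k →ₐ[A] A' j ⊗[A] A' k).toLinearMap ∘ₗ
      (LinearMap.proj k : (∀ j, A' j) →ₗ[A] A' k) := by
  apply LinearMap.ext
  intro x
  simp only [LinearMap.comp_apply, AlgHom.toLinearMap_apply,
    Algebra.TensorProduct.includeRight_apply, TensorProduct.map_tmul, LinearMap.proj_apply,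
    Pi.one_apply]

theorem fam_exists [Module.FaithfullyFlat A (∀ j, A' j)] (v : ∀ j, A' j ⊗[A] M)
    (hv : ∀ j k,
      ((Algebra.TensorProduct.includeLeft : A' j →ₐ[A] A' j ⊗[A] A' k).toLinearMap.rTensor M) (v j) =
      ((Algebra.TensorProduct.includeRight : A' k →ₐ[A] A' j ⊗[A] A' k).toLinearMap.rTensor M)
        (v k)) :
    ∃ w : A ⊗[A] M, ∀ j, d0 A (A' j) M w = v j := by
  obtain ⟨V, hV⟩ : ∃ V : (∀ j, A' j) ⊗[A] M, V = ∑ j, (LinearMap.single A A' j).rTensor M (v j) :=
    ⟨_, rfl⟩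
  have hp : ∀ k, (LinearMap.proj k : (∀ j, A' j) →ₗ[A] A' k).rTensor M V = v k := by
    intro k
    rw [hV, map_sum, Finset.sum_eq_single k]
    · rw [← LinearMap.comp_apply, ← LinearMap.rTensor_comp, LinearMap.proj_comp_single_same,
        LinearMap.rTensor_id, LinearMap.id_apply]
    · intro j _ hjk
      rw [← LinearMap.comp_apply, ← LinearMap.rTensor_comp,
        LinearMap.proj_comp_single_ne A A' k j hjk.symm, LinearMap.rTensor_zero,
        LinearMap.zero_apply]
    · intro h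
      exact absurd (Finset.mem_univ k) h
  have hcoc : ((Algebra.TensorProduct.includeLeft :
        (∀ j, A' j) →ₐ[A] (∀ j, A' j) ⊗[A] (∀ j, A' j)).toLinearMap.rTensor M) V =
      ((Algebra.TensorProduct.includeRight :
        (∀ j, A' j) →ₐ[A] (∀ j, A' j) ⊗[A] (∀ j, A' j)).toLinearMap.rTensor M) V := by
    rw [← sub_eq_zero]
    refine eq_zero_of_family
      (fun q : J × J => TensorProduct.map (LinearMap.proj q.1 : (∀ j, A' j) →ₗ[A] A' q.1)
        (LinearMap.proj q.2 : (∀ j, A' j) →ₗ[A] A' q.2))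
      (fun q : J × J => TensorProduct.map (LinearMap.single A A' q.1) (LinearMap.single A A' q.2))
      (sum_map_single_proj A') M _ (fun q => ?_)
    rw [map_sub, sub_eq_zero, ← LinearMap.comp_apply, ← LinearMap.comp_apply,
      ← LinearMap.rTensor_comp, ← LinearMap.rTensor_comp, map_proj_comp_inl, map_proj_comp_inr,
      LinearMap.rTensor_comp, LinearMap.rTensor_comp, LinearMap.comp_apply, LinearMap.comp_apply,
      hp, hp]
    exact hv q.1 q.2
  obtain ⟨w, hw⟩ := exists_of_eq (A := A) (B := ∀ j, A' j) (M := M) V hcoc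
  refine ⟨w, fun j => ?_⟩
  rw [← proj_d0, hw, hp]

theorem pi_faithfullyFlat [∀ j, Module.Flat A (A' j)]
    (hsurj : ∀ 𝔭 : PrimeSpectrum A, ∃ j, ∃ 𝔮 : PrimeSpectrum (A' j),
      PrimeSpectrum.comap (algebraMap A (A' j)) 𝔮 = 𝔭) :
    Module.FaithfullyFlat A (∀ j, A' j) := by
  have hflat : Module.Flat A (∀ j, A' j) :=
    Module.Flat.of_linearEquiv (DFinsupp.linearEquivFunOnFintype (R := A) (M := A')).symm
  apply Module.FaithfullyFlat.of_comap_surjective
  intro 𝔭
  obtain ⟨j, 𝔮, h𝔮⟩ := hsurj 𝔭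
  refine ⟨PrimeSpectrum.comap (Pi.evalRingHom A' j) 𝔮, ?_⟩
  rw [← h𝔮]
  exact PrimeSpectrum.ext (Ideal.ext fun x => Iff.rfl)

end Mod

section Adeq

open Adeq

theorem adequate_family (A : Type u) [CommRing A] (F : Adeq.MVF A) (hF : Adeq.adequate A F)
    {J : Type*} [Fintype J] (A' : J → Type u) [∀ j, CommRing (A' j)] [∀ j, Algebra A (A' j)]
    [Module.FaithfullyFlat A (∀ j, A' j)] :
    (∀ x : F.obj (Adeq.pt (Adeq.algOf A A)),
      (∀ j, F.map (Adeq.ptHom
        (CommAlgCat.ofHom (Algebra.ofId A (A' j)) : Adeq.algOf A A ⟶ Adeq.algOf A (A' j))) x = 0) →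
      x = 0) ∧
    (∀ y : ∀ j, F.obj (Adeq.pt (Adeq.algOf A (A' j))),
      (∀ j k, F.map (Adeq.ptHom (CommAlgCat.ofHom
            (Algebra.TensorProduct.includeLeft : A' j →ₐ[A] A' j ⊗[A] A' k) :
              Adeq.algOf A (A' j) ⟶ Adeq.algOf A (A' j ⊗[A] A' k))) (y j) =
          F.map (Adeq.ptHom (CommAlgCat.ofHom
            (Algebra.TensorProduct.includeRight : A' k →ₐ[A] A' j ⊗[A] A' k) :
              Adeq.algOf A (A' k) ⟶ Adeq.algOf A (A' j ⊗[A] A' k))) (y k)) →
      ∃ x : F.obj (Adeq.pt (Adeq.algOf A A)), ∀ j, F.map (Adeq.ptHom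
        (CommAlgCat.ofHom (Algebra.ofId A (A' j)) : Adeq.algOf A A ⟶ Adeq.algOf A (A' j))) x =
          y j) := by
  classical
  obtain ⟨M₀, N₀, g, ⟨e⟩⟩ := hF
  obtain ⟨θ, hinj, hzero, hex⟩ :=
    MVFKernel.exists_pointwise_of_iso_kernel ((Adeq.underline A).map g) e
  have natA : ∀ j (x : F.obj (Adeq.pt (Adeq.algOf A A))),
      θ.app (Adeq.pt (Adeq.algOf A (A' j))) (F.map (Adeq.ptHom
        (CommAlgCat.ofHom (Algebra.ofId A (A' j)) : Adeq.algOf A A ⟶ Adeq.algOf A (A' j))) x) =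
        d0 A (A' j) M₀ (θ.app (Adeq.pt (Adeq.algOf A A)) x) := by
    intro j x
    exact PresheafOfModules.naturality_apply θ (Adeq.ptHom
      (CommAlgCat.ofHom (Algebra.ofId A (A' j)) : Adeq.algOf A A ⟶ Adeq.algOf A (A' j))) x
  have natL : ∀ j k (y : F.obj (Adeq.pt (Adeq.algOf A (A' j)))),
      θ.app (Adeq.pt (Adeq.algOf A (A' j ⊗[A] A' k))) (F.map (Adeq.ptHom (CommAlgCat.ofHom
            (Algebra.TensorProduct.includeLeft : A' j →ₐ[A] A' j ⊗[A] A' k) :
              Adeq.algOf A (A' j) ⟶ Adeq.algOf A (A' j ⊗[A] A' k))) y) =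
        ((Algebra.TensorProduct.includeLeft : A' j →ₐ[A] A' j ⊗[A] A' k).toLinearMap.rTensor M₀)
          (θ.app (Adeq.pt (Adeq.algOf A (A' j))) y) := by
    intro j k y
    exact PresheafOfModules.naturality_apply θ (Adeq.ptHom (CommAlgCat.ofHom
      (Algebra.TensorProduct.includeLeft : A' j →ₐ[A] A' j ⊗[A] A' k) :
        Adeq.algOf A (A' j) ⟶ Adeq.algOf A (A' j ⊗[A] A' k))) y
  have natR : ∀ j k (y : F.obj (Adeq.pt (Adeq.algOf A (A' k)))),
      θ.app (Adeq.pt (Adeq.algOf A (A' j ⊗[A] A' k))) (F.map (Adeq.ptHom (CommAlgCat.ofHom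
            (Algebra.TensorProduct.includeRight : A' k →ₐ[A] A' j ⊗[A] A' k) :
              Adeq.algOf A (A' k) ⟶ Adeq.algOf A (A' j ⊗[A] A' k))) y) =
        ((Algebra.TensorProduct.includeRight : A' k →ₐ[A] A' j ⊗[A] A' k).toLinearMap.rTensor M₀)
          (θ.app (Adeq.pt (Adeq.algOf A (A' k))) y) := by
    intro j k y
    exact PresheafOfModules.naturality_apply θ (Adeq.ptHom (CommAlgCat.ofHom
      (Algebra.TensorProduct.includeRight : A' k →ₐ[A] A' j ⊗[A] A' k) :
        Adeq.algOf A (A' k) ⟶ Adeq.algOf A (A' j ⊗[A] A' k))) y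
  have natG : ∀ j (w : ((Adeq.underline A).obj M₀).obj (Adeq.pt (Adeq.algOf A A))),
      ((Adeq.underline A).map g).app (Adeq.pt (Adeq.algOf A (A' j))) (d0 A (A' j) M₀ w) =
        d0 A (A' j) N₀ (((Adeq.underline A).map g).app (Adeq.pt (Adeq.algOf A A)) w) := by
    intro j w
    exact PresheafOfModules.naturality_apply ((Adeq.underline A).map g) (Adeq.ptHom
      (CommAlgCat.ofHom (Algebra.ofId A (A' j)) : Adeq.algOf A A ⟶ Adeq.algOf A (A' j))) w
  refine ⟨?_, ?_⟩
  · intro x hx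
    have h0 : θ.app (Adeq.pt (Adeq.algOf A A)) x = 0 := by
      refine fam_inj A' M₀ _ (fun j => ?_)
      rw [← natA, hx j]
      exact (θ.app (Adeq.pt (Adeq.algOf A (A' j)))).hom.map_zero
    apply hinj (Adeq.pt (Adeq.algOf A A))
    exact h0.trans (θ.app (Adeq.pt (Adeq.algOf A A))).hom.map_zero.symm
  · intro y hy
    obtain ⟨w, hw⟩ := fam_exists A' M₀ (fun j => θ.app (Adeq.pt (Adeq.algOf A (A' j))) (y j))
      (fun j k => by rw [← natL, ← natR, hy j k])
    have hgw : ((Adeq.underline A).map g).app (Adeq.pt (Adeq.algOf A A)) w = 0 := by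
      refine fam_inj A' N₀ _ (fun j => ?_)
      rw [← natG, hw j]
      exact hzero (Adeq.pt (Adeq.algOf A (A' j))) (y j)
    obtain ⟨x, hx⟩ := hex (Adeq.pt (Adeq.algOf A A)) w hgw
    refine ⟨x, fun j => ?_⟩
    apply hinj (Adeq.pt (Adeq.algOf A (A' j)))
    rw [natA, hx, hw j]

end Adeq

end Groth.Agent.Lib.Helper92.AdeqPi
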