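import Groth.Prelude.Def_Adeq2
import Mathlib
import Groth.Agent.Lib.Helper92.Adeq2Main
import Groth.Agent.Lib.Helper92.AdeqPi

/-!
# Adequate modules on the big fppf site: sheafification

If `P` is a presheaf of modules all of whose `F_{P,R}` are adequate, and `φ : P → Q` is locally bijective with
`Q` a sheaf of modules, then `F_{P,R} ≅ F_{Q,R}` for every affine `Spec R → S`; hence `Q` is adequate.
-/

set_option autoImplicit false

universe u

open CategoryTheory Limits AlgebraicGeometry Opposite TensorProduct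

namespace Groth.Agent.Lib.Helper92.Adeq2Sheafify

open Groth.Agent.Lib.Helper92 Groth.Agent.Lib.Helper92.Adeq2Base

theorem refine_affine' (P : MorphismProperty Scheme.{u}) [P.IsStableUnderComposition]
    (hoi : ∀ {X Y : Scheme.{u}} (f : X ⟶ Y), IsOpenImmersion f → P f)
    (hopen : ∀ {X Y : Scheme.{u}} (f : X ⟶ Y), P f → IsOpenMap f)
    (R : CommRingCat.{u}) {ι : Type*} (W : ι → Scheme.{u}) (f : ∀ i, W i ⟶ Spec R)
    (hcov : Presieve.ofArrows W f ∈ (Scheme.precoverage P).coverings (Spec R)) :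
    ∃ (J : Type (u + 1)) (_ : Fintype J) (A' : J → CommRingCat.{u}) (φ : ∀ j, R ⟶ A' j)
      (i : J → ι) (h : ∀ j, Spec (A' j) ⟶ W (i j)), (∀ j, h j ≫ f (i j) = Spec.map (φ j)) ∧
      Presieve.ofArrows (fun j => Spec (A' j)) (fun j => Spec.map (φ j)) ∈
        (Scheme.precoverage P).coverings (Spec R) := by
  classical
  obtain ⟨hsurj, hP⟩ := (Scheme.ofArrows_mem_precoverage_iff P).mp hcov
  have hpt : ∀ x : Spec R, ∃ (i : ι) (R' : CommRingCat.{u}) (g : Spec R' ⟶ W i),
      IsOpenImmersion g ∧ x ∈ Set.range (g ≫ f i) := by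
    intro x
    obtain ⟨i, w, hw⟩ := hsurj x
    obtain ⟨R', g, hg, y, hy⟩ := Scheme.exists_Spec_apply_eq w
    refine ⟨i, R', g, hg, y, ?_⟩
    rw [Scheme.Hom.comp_apply, hy, hw]
  choose i R' g hg hx using hpt
  have hPh : ∀ x, P (g x ≫ f (i x)) := fun x => P.comp_mem _ _ (hoi _ (hg x)) (hP _)
  have hop : ∀ x, IsOpen (Set.range (g x ≫ f (i x))) := fun x => (hopen _ (hPh x)).isOpen_range
  obtain ⟨t, ht⟩ := isCompact_univ.elim_finite_subcover (fun x => Set.range (g x ≫ f (i x))) hop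
    (fun x _ => Set.mem_iUnion.mpr ⟨x, hx x⟩)
  refine ⟨ULift.{u + 1} ↥t, inferInstance, fun j => R' j.down.1,
    fun j => Spec.preimage (g j.down.1 ≫ f (i j.down.1)),
    fun j => i j.down.1, fun j => g j.down.1, fun j => (Spec.map_preimage _).symm, ?_⟩
  refine (Scheme.ofArrows_mem_precoverage_iff P).mpr ⟨fun x => ?_, fun j => ?_⟩
  · obtain ⟨x', hx't, hxr⟩ := Set.mem_iUnion₂.mp (ht (Set.mem_univ x))
    refine ⟨⟨⟨x', hx't⟩⟩, ?_⟩
    rw [Spec.map_preimage]
    exact hxr
  · rw [Spec.map_preimage]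
    exact hPh _

theorem fppf_refine (X : Scheme.{u}) (T : Sieve X)
    (h : T ∈ Scheme.fppfPrecoverage.toGrothendieck X) :
    ∃ R ∈ Scheme.fppfPrecoverage.coverings X, R ≤ T.arrows := by
  have hid : MorphismProperty.ContainsIdentities (@Flat.{u} ⊓ @LocallyOfFinitePresentation.{u}) :=
    ⟨fun X => ⟨inferInstance, inferInstance⟩⟩
  have h1 : (Scheme.fppfPrecoverage.{u}).HasIsos := by
    unfold Scheme.fppfPrecoverage; infer_instance
  have h2 : (Scheme.fppfPrecoverage.{u}).HasPullbacks := by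
    unfold Scheme.fppfPrecoverage; infer_instance
  exact Precoverage.mem_toGrothendieck_iff_of_isStableUnderComposition.mp h

section Functoriality

variable {S : Scheme.{u}} (G : (Over S)ᵒᵖ ⥤ AddCommGrpCat.{u + 1})

theorem gmap_comp {U V W : Over S} (f : U ⟶ V) (g : V ⟶ W) (x : G.obj (op W)) :
    G.map (f ≫ g).op x = G.map f.op (G.map g.op x) := by
  rw [op_comp, CategoryTheory.Functor.map_comp]
  rfl

theorem gmap_id (U : Over S) (x : G.obj (op U)) : G.map (𝟙 U).op x = x := by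
  rw [op_id, CategoryTheory.Functor.map_id]
  rfl

theorem gmap_congr {U V : Over S} {f g : U ⟶ V} (h : f = g) (x : G.obj (op V)) :
    G.map f.op x = G.map g.op x := by rw [h]

end Functoriality

section Refine

variable {S : Scheme.{u}}

theorem refine_base (R : CommRingCat.{u}) (a : Spec R ⟶ S)
    (T : Sieve ((Adeq.specOver a).obj (op (Adeq.algOf R R))))
    (hT : T ∈ QuotSh.J Scheme.fppfPrecoverage S ((Adeq.specOver a).obj (op (Adeq.algOf R R)))) :
    ∃ (J : Type (u + 1)) (_ : Fintype J) (A' : J → CommRingCat.{u}) (ψ : ∀ j, R ⟶ A' j),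
      Presieve.ofArrows (fun j => Spec (A' j)) (fun j => Spec.map (ψ j)) ∈
        Scheme.fppfPrecoverage.coverings (Spec R) ∧
      ∀ j, ∃ w, T (Over.homMk (U := Over.mk (Spec.map (ψ j) ≫ a))
        (V := (Adeq.specOver a).obj (op (Adeq.algOf R R))) (Spec.map (ψ j)) w) := by
  obtain ⟨T', hT'⟩ : ∃ T' : Sieve (Spec R),
      T' = Sieve.overEquiv ((Adeq.specOver a).obj (op (Adeq.algOf R R))) T := ⟨_, rfl⟩
  have h1 : T' ∈ Scheme.fppfPrecoverage.toGrothendieck (Spec R) := by
    rw [hT']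
    exact (GrothendieckTopology.mem_over_iff _ T).mp hT
  obtain ⟨R₀, hR₀, hle⟩ := fppf_refine (Spec R) T' h1
  obtain ⟨ι, W, f, rfl⟩ := Presieve.exists_eq_ofArrows R₀
  obtain ⟨J, hJ, A', ψ, i, g, hg, hcov⟩ := refine_affine' (@Flat ⊓ @LocallyOfFinitePresentation)
    (fun f hf => by have := hf; exact ⟨inferInstance, inferInstance⟩)
    (fun f hf => by
      obtain ⟨h1, h2⟩ := hf
      have := h1
      have := h2
      exact f.isOpenMap) R W f hR₀
  refine ⟨J, hJ, A', ψ, hcov, fun j => ?_⟩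
  have h2 : T'.arrows (f (i j)) := hle _ _ (Presieve.ofArrows.mk (i j))
  have h3 : T'.arrows (g j ≫ f (i j)) := T'.downward_closed h2 (g j)
  rw [hg j] at h3
  subst hT'
  have h4 := (Sieve.overEquiv_iff T (Spec.map (ψ j))).mp h3
  have w0 : Spec.map (ψ j) ≫ ((Adeq.specOver a).obj (op (Adeq.algOf R R))).hom =
      Spec.map (ψ j) ≫ a := by
    change Spec.map (ψ j) ≫ (Spec.map (CommRingCat.ofHom (RingHom.id R)) ≫ a) = _
    rw [CommRingCat.ofHom_id, Spec.map_id]
    exact congrArg (fun z => Spec.map (ψ j) ≫ z) (Category.id_comp a)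
  refine ⟨w0, ?_⟩
  obtain ⟨e, he⟩ : ∃ e : Over.mk (Spec.map (ψ j) ≫ a) ⟶
      Over.mk (Spec.map (ψ j) ≫ ((Adeq.specOver a).obj (op (Adeq.algOf R R))).hom),
      e.left = 𝟙 _ := ⟨Over.homMk (𝟙 _) ((Category.id_comp _).trans w0), rfl⟩
  have h5 := T.downward_closed h4 e
  have h6 : e ≫ Over.homMk (U := Over.mk (Spec.map (ψ j) ≫
        ((Adeq.specOver a).obj (op (Adeq.algOf R R))).hom))
      (V := (Adeq.specOver a).obj (op (Adeq.algOf R R))) (Spec.map (ψ j)) rfl =
      Over.homMk (U := Over.mk (Spec.map (ψ j) ≫ a))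
        (V := (Adeq.specOver a).obj (op (Adeq.algOf R R))) (Spec.map (ψ j)) w0 := by
    apply Over.OverMorphism.ext
    change e.left ≫ Spec.map (ψ j) = Spec.map (ψ j)
    rw [he, Category.id_comp]
  rw [← h6]
  exact h5

end Refine

section Main

variable {S : Scheme.{u}}
  (P : PresheafOfModules.{u + 1} (BigSite.ORing Scheme.fppfPrecoverage S).obj)
  (Q : BigSite.Mod Scheme.fppfPrecoverage S) (φ : P.presheaf ⟶ Q.val.presheaf)
  (hlin : ∀ (X : (Over S)ᵒᵖ) (r : (BigSite.ORing Scheme.fppfPrecoverage S).obj.obj X) (x : P.obj X)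
    (y : Q.val.obj X), φ.app X x = y → φ.app X (r • x) = r • y)
  (hLI : ∀ (U : Over S) (x : P.presheaf.obj (op U)), φ.app (op U) x = 0 →
    ∃ T : Sieve U, T ∈ QuotSh.J Scheme.fppfPrecoverage S U ∧
      ∀ (V : Over S) (f : V ⟶ U), T f → P.presheaf.map f.op x = 0)
  (hLS : ∀ (U : Over S) (y : Q.val.presheaf.obj (op U)),
    ∃ T : Sieve U, T ∈ QuotSh.J Scheme.fppfPrecoverage S U ∧
      ∀ (V : Over S) (f : V ⟶ U), T f →
        ∃ x' : P.presheaf.obj (op V), φ.app (op V) x' = Q.val.presheaf.map f.op y)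
  (h : ∀ (R : CommRingCat.{u}) (a : Spec R ⟶ S),
    Adeq.adequate R ((Adeq.toMVFPre Scheme.fppfPrecoverage a).obj P))

theorem pre_map {R : CommRingCat.{u}} (a : Spec R ⟶ S) {B B' : Adeq.Alg R} (ψ : B ⟶ B')
    (x : ((Adeq.toMVFPre Scheme.fppfPrecoverage a).obj P).obj (Adeq.pt B)) :
    ((Adeq.toMVFPre Scheme.fppfPrecoverage a).obj P).map (Adeq.ptHom ψ) x =
      P.presheaf.map ((Adeq.specOver a).map ψ.op).op x := rfl

theorem phi_nat {U V : Over S} (f : V ⟶ U) (x : P.presheaf.obj (op U)) :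
    φ.app (op V) (P.presheaf.map f.op x) = Q.val.presheaf.map f.op (φ.app (op U) x) :=
  NatTrans.naturality_apply φ f.op x

/-- faithful flatness of the product from a covering -/
theorem ff_of_cover (R : CommRingCat.{u}) {J : Type (u + 1)} [Fintype J] (A' : J → CommRingCat.{u})
    (ψ : ∀ j, R ⟶ A' j)
    (hcov : Presieve.ofArrows (fun j => Spec (A' j)) (fun j => Spec.map (ψ j)) ∈
        Scheme.fppfPrecoverage.coverings (Spec R)) :
    @Module.FaithfullyFlat R (∀ j, A' j) _ _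
      (@Pi.module J (fun j => A' j) R _ _ (fun j => (ψ j).hom.toAlgebra.toModule)) := by
  classical
  let alg : ∀ j, Algebra R (A' j) := fun j => (ψ j).hom.toAlgebra
  obtain ⟨hsurj, hP⟩ := (Scheme.ofArrows_mem_precoverage_iff _).mp hcov
  have hflat : ∀ j, Module.Flat R (A' j) := fun j => Flat.SpecMap_iff.mp (hP j).1
  exact AdeqPi.pi_faithfullyFlat (fun j => (A' j : Type u)) (fun 𝔭 => by
    obtain ⟨j, y, hy⟩ := hsurj 𝔭
    exact ⟨j, y, hy⟩)

include hLI h in
theorem inj_base (R : CommRingCat.{u}) (a : Spec R ⟶ S)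
    (x : P.presheaf.obj (op ((Adeq.specOver a).obj (op (Adeq.algOf R R)))))
    (hx : φ.app _ x = 0) : x = 0 := by
  classical
  obtain ⟨T, hT, hTx⟩ := hLI _ x hx
  obtain ⟨J, hJ, A', ψ, hcov, hTψ⟩ := refine_base R a T hT
  let _ : Fintype J := hJ
  let alg : ∀ j, Algebra R (A' j) := fun j => (ψ j).hom.toAlgebra
  have hff : Module.FaithfullyFlat R (∀ j, A' j) := ff_of_cover R A' ψ hcov
  have hfam := (AdeqPi.adequate_family R _ (h R a) (fun j => (A' j : Type u))).1
  refine hfam x (fun j => ?_)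
  obtain ⟨w, hw⟩ := hTψ j
  exact hTx _ ((Adeq.specOver a).map (CommAlgCat.ofHom (Algebra.ofId R (A' j)) :
    Adeq.algOf R R ⟶ Adeq.algOf R (A' j)).op) hw

/-- `Spec B → S` for an `R`-algebra `B` -/
noncomputable abbrev aB {R : CommRingCat.{u}} (a : Spec R ⟶ S) (B : Adeq.Alg R) :
    Spec (CommRingCat.of B) ⟶ S := specAlg B ≫ a

theorem specOver_self_hom (R : CommRingCat.{u}) (a : Spec R ⟶ S) :
    ((Adeq.specOver a).obj (op (Adeq.algOf R R))).hom = a := by
  change Spec.map (CommRingCat.ofHom (RingHom.id R)) ≫ a = a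
  rw [CommRingCat.ofHom_id, Spec.map_id]
  exact Category.id_comp a

/-- the base object over `Spec B` is isomorphic to `X_B` -/
noncomputable def baseIso {R : CommRingCat.{u}} (a : Spec R ⟶ S) (B : Adeq.Alg R) :
    (Adeq.specOver (aB a B)).obj (op (Adeq.algOf (CommRingCat.of B) (CommRingCat.of B))) ≅
      (Adeq.specOver a).obj (op B) :=
  Over.isoMk (Iso.refl (Spec (CommRingCat.of B)))
    ((Category.id_comp (specAlg B ≫ a)).trans
      (specOver_self_hom (CommRingCat.of B) (aB a B)).symm)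

include hLI h in
theorem inj_XB {R : CommRingCat.{u}} (a : Spec R ⟶ S) (B : Adeq.Alg R)
    (x : P.presheaf.obj (op ((Adeq.specOver a).obj (op B))))
    (hx : φ.app _ x = 0) : x = 0 := by
  have h1 : P.presheaf.map (baseIso a B).hom.op x = 0 := by
    apply inj_base P Q φ hLI h (CommRingCat.of B) (aB a B)
    rw [phi_nat, hx]
    exact (Q.val.presheaf.map (baseIso a B).hom.op).hom.map_zero
  have h2 : P.presheaf.map (baseIso a B).inv.op (P.presheaf.map (baseIso a B).hom.op x) = 0 := by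
    rw [h1]
    exact (P.presheaf.map (baseIso a B).inv.op).hom.map_zero
  rw [← gmap_comp, Iso.inv_hom_id, gmap_id] at h2
  exact h2

include hLI h in
theorem inj_XB' {R : CommRingCat.{u}} (a : Spec R ⟶ S) (B : Adeq.Alg R)
    (x x' : P.presheaf.obj (op ((Adeq.specOver a).obj (op B))))
    (hxx : φ.app _ x = φ.app _ x') : x = x' := by
  apply sub_eq_zero.mp
  apply inj_XB P Q φ hLI h a B
  have e1 : φ.app (op ((Adeq.specOver a).obj (op B))) (x - x') =
      φ.app (op ((Adeq.specOver a).obj (op B))) x - φ.app (op ((Adeq.specOver a).obj (op B))) x' :=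
    (φ.app (op ((Adeq.specOver a).obj (op B)))).hom.map_sub x x'
  rw [e1, hxx, sub_self]

include hLI hLS h in
theorem surj_base (R : CommRingCat.{u}) (a : Spec R ⟶ S)
    (y : Q.val.presheaf.obj (op ((Adeq.specOver a).obj (op (Adeq.algOf R R))))) :
    ∃ x : P.presheaf.obj (op ((Adeq.specOver a).obj (op (Adeq.algOf R R)))), φ.app _ x = y := by
  classical
  obtain ⟨T, hT, hTy⟩ := hLS _ y
  obtain ⟨J, hJ, A', ψ, hcov, hTψ⟩ := refine_base R a T hT
  let _ : Fintype J := hJ
  let alg : ∀ j, Algebra R (A' j) := fun j => (ψ j).hom.toAlgebra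
  have hff : Module.FaithfullyFlat R (∀ j, A' j) := ff_of_cover R A' ψ hcov
  obtain ⟨π, hπ⟩ : ∃ π : ∀ j, (Adeq.specOver a).obj (op (Adeq.algOf R (A' j))) ⟶
      (Adeq.specOver a).obj (op (Adeq.algOf R R)), π = fun j =>
      (Adeq.specOver a).map (CommAlgCat.ofHom (Algebra.ofId R (A' j)) :
        Adeq.algOf R R ⟶ Adeq.algOf R (A' j)).op := ⟨_, rfl⟩
  have hTπ : ∀ j, T (π j) := by
    intro j
    obtain ⟨w, hw⟩ := hTψ j
    rw [hπ]
    exact hw
  have hloc : ∀ j, ∃ x' : P.presheaf.obj (op ((Adeq.specOver a).obj (op (Adeq.algOf R (A' j))))),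
      φ.app _ x' = Q.val.presheaf.map (π j).op y := fun j => hTy _ (π j) (hTπ j)
  choose xj hxj using hloc
  have hcovJ : Sieve.ofArrows (fun j => (Adeq.specOver a).obj (op (Adeq.algOf R (A' j)))) π ∈
      QuotSh.J Scheme.fppfPrecoverage S ((Adeq.specOver a).obj (op (Adeq.algOf R R))) := by
    rw [GrothendieckTopology.mem_over_iff, Sieve.overEquiv_ofArrows]
    apply Precoverage.generate_mem_toGrothendieck
    rw [hπ]
    exact hcov
  have hfam := (AdeqPi.adequate_family R _ (h R a) (fun j => (A' j : Type u))).2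
  obtain ⟨x, hx⟩ := hfam xj (fun j k => by
    apply inj_XB' P Q φ hLI h a (Adeq.algOf R (A' j ⊗[R] A' k))
    have hcomm : (Adeq.specOver a).map (CommAlgCat.ofHom
          (Algebra.TensorProduct.includeLeft : A' j →ₐ[R] A' j ⊗[R] A' k) :
            Adeq.algOf R (A' j) ⟶ Adeq.algOf R (A' j ⊗[R] A' k)).op ≫ π j =
        (Adeq.specOver a).map (CommAlgCat.ofHom
          (Algebra.TensorProduct.includeRight : A' k →ₐ[R] A' j ⊗[R] A' k) :
            Adeq.algOf R (A' k) ⟶ Adeq.algOf R (A' j ⊗[R] A' k)).op ≫ π k := by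
      rw [hπ]
      simp only
      rw [← CategoryTheory.Functor.map_comp, ← CategoryTheory.Functor.map_comp, ← op_comp,
        ← op_comp]
      congr 2
      apply CommAlgCat.hom_ext
      exact Subsingleton.elim _ _
    rw [pre_map, pre_map, phi_nat, phi_nat, hxj j, hxj k, ← gmap_comp, ← gmap_comp]
    exact gmap_congr _ hcomm y)
  refine ⟨x, ?_⟩
  apply sub_eq_zero.mp
  refine sheaf_sep Q _ π hcovJ
    (φ.app (op ((Adeq.specOver a).obj (op (Adeq.algOf R R)))) x - y) (fun j => ?_)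
  have e1 : Q.val.presheaf.map (π j).op
        (φ.app (op ((Adeq.specOver a).obj (op (Adeq.algOf R R)))) x - y) =
      Q.val.presheaf.map (π j).op (φ.app (op ((Adeq.specOver a).obj (op (Adeq.algOf R R)))) x) -
        Q.val.presheaf.map (π j).op y :=
    (Q.val.presheaf.map (π j).op).hom.map_sub _ _
  have e2 : P.presheaf.map (π j).op x = xj j := by
    rw [hπ]
    exact hx j
  rw [e1, ← phi_nat, e2, hxj j, sub_self]

include hLI hLS h in
theorem surj_XB {R : CommRingCat.{u}} (a : Spec R ⟶ S) (B : Adeq.Alg R)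
    (y : Q.val.presheaf.obj (op ((Adeq.specOver a).obj (op B)))) :
    ∃ x : P.presheaf.obj (op ((Adeq.specOver a).obj (op B))), φ.app _ x = y := by
  obtain ⟨x', hx'⟩ := surj_base P Q φ hLI hLS h (CommRingCat.of B) (aB a B)
    (Q.val.presheaf.map (baseIso a B).hom.op y)
  refine ⟨P.presheaf.map (baseIso a B).inv.op x', ?_⟩
  rw [phi_nat, hx', ← gmap_comp, Iso.inv_hom_id, gmap_id]

include hlin hLI hLS h in
theorem iso_toMVF (R : CommRingCat.{u}) (a : Spec R ⟶ S) :
    Nonempty ((Adeq.toMVFPre Scheme.fppfPrecoverage a).obj P ≅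
      (Adeq.toMVF Scheme.fppfPrecoverage a).obj Q) := by
  let θ : (Adeq.toMVFPre Scheme.fppfPrecoverage a).obj P ⟶
      (Adeq.toMVF Scheme.fppfPrecoverage a).obj Q :=
    PresheafOfModules.homMk (M₁ := (Adeq.toMVFPre Scheme.fppfPrecoverage a).obj P)
      (M₂ := (Adeq.toMVF Scheme.fppfPrecoverage a).obj Q)
      { app := fun X => φ.app (op ((Adeq.specOver a).obj (op X.unop.unop)))
        naturality := fun {X Y} f => by
          ext x
          exact NatTrans.naturality_apply φ ((Adeq.specOver a).map f.unop).op x }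
      (fun X r m => hlin _ (Adeq.toSect Scheme.fppfPrecoverage a X.unop.unop r) m _ rfl)
  refine nonempty_iso_of_bij θ (fun X => ⟨?_, ?_⟩)
  · intro x x' hxx
    exact inj_XB' P Q φ hLI h a X.unop.unop x x' hxx
  · intro y
    exact surj_XB P Q φ hLI hLS h a X.unop.unop y

include hlin hLI hLS h in
theorem sheafify_adequate : Adeq.adequateMod Scheme.fppfPrecoverage S Q := by
  refine ⟨S.affineOpenCover.I₀, fun j => S.affineOpenCover.X j, fun j => S.affineOpenCover.f j,
    ?_, fun j => ?_⟩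
  · refine Scheme.zariskiPrecoverage_le_fppfPrecoverage _ ?_
    refine (Scheme.ofArrows_mem_precoverage_iff _).mpr ⟨fun x => ?_, fun j => inferInstance⟩
    exact ⟨S.affineOpenCover.idx x, S.affineOpenCover.covers x⟩
  · obtain ⟨e⟩ := iso_toMVF P Q φ hlin hLI hLS h (S.affineOpenCover.X j) (S.affineOpenCover.f j)
    exact (Adeq.adequate _).prop_of_iso e (h _ _)

end Main

end Groth.Agent.Lib.Helper92.Adeq2Sheafify
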