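import Groth.Prelude.Def_Adeq2
import Mathlib
import Groth.Agent.Lib.Helper92.Adeq2Sheafify
import Groth.Agent.Lib.Helper92.Adeq2Coker
import Groth.Agent.Lib.Helper92.Adeq2Pull

/-!
# Parasitic modules on the big fppf site: the middle term of an exact sequence
-/

set_option autoImplicit false

universe u

open CategoryTheory Limits AlgebraicGeometry Opposite

namespace Groth.Agent.Lib.Helper92.Adeq2Paras

open Groth.Agent.Lib.Helper92

section Epi

variable {S : Scheme.{u}} {M N : BigSite.Mod Scheme.fppfPrecoverage S} (l : M ⟶ N)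

/-- an epimorphism of sheaves of modules is locally surjective -/
theorem epi_locally_surj [Epi l] (U : Over S) (k : N.val.obj (op U)) :
    ∃ T : Sieve U, T ∈ QuotSh.J Scheme.fppfPrecoverage S U ∧
      ∀ (V : Over S) (h : V ⟶ U), T h →
        ∃ t : M.val.obj (op V), l.val.app (op V) t = N.val.presheaf.map h.op k := by
  obtain ⟨g, hg⟩ : ∃ g : (PresheafOfModules.restrictScalars
        (𝟙 (BigSite.ORing Scheme.fppfPrecoverage S).obj)).obj M.val ⟶
      (PresheafOfModules.restrictScalars
        (𝟙 (BigSite.ORing Scheme.fppfPrecoverage S).obj)).obj N.val,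
      g = (SheafOfModules.forget (BigSite.ORing Scheme.fppfPrecoverage S) ⋙
        PresheafOfModules.restrictScalars (𝟙 (BigSite.ORing Scheme.fppfPrecoverage S).obj)).map
          l := ⟨_, rfl⟩
  have hgl : ∀ (X : (Over S)ᵒᵖ) (x : M.val.obj X), g.app X x = l.val.app X x := by
    intro X x
    rw [hg]
    rfl
  have he : Nonempty ((PresheafOfModules.sheafification
      (𝟙 (BigSite.ORing Scheme.fppfPrecoverage S).obj)).obj (cokernel g) ≅ cokernel l) := by
    rw [hg]
    exact Adeq2Coker.nonempty_iso_cokernel_adj (PresheafOfModules.sheafificationAdjunction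
      (𝟙 (BigSite.ORing Scheme.fppfPrecoverage S).obj)) l
  obtain ⟨e⟩ := he
  have hz : IsZero ((PresheafOfModules.sheafification
      (𝟙 (BigSite.ORing Scheme.fppfPrecoverage S).obj)).obj (cokernel g)) :=
    (isZero_cokernel_of_epi l).of_iso e
  have hadd := Adeq2Pull.evaluation_additive (K := Scheme.fppfPrecoverage) (S := S) (op U)
  have hsub : Subsingleton (((PresheafOfModules.sheafification
      (𝟙 (BigSite.ORing Scheme.fppfPrecoverage S).obj)).obj (cokernel g)).val.obj (op U)) :=
    ModuleCat.subsingleton_of_isZero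
      ((SheafOfModules.evaluation (BigSite.ORing Scheme.fppfPrecoverage S) (op U)).map_isZero hz)
  obtain ⟨x, hx⟩ : ∃ x : (cokernel g).presheaf.obj (op U), x = (cokernel.π g).app (op U) k :=
    ⟨_, rfl⟩
  have hφ : (CategoryTheory.toSheafify (QuotSh.J Scheme.fppfPrecoverage S)
        (cokernel g).presheaf).app (op U) x =
      (CategoryTheory.toSheafify (QuotSh.J Scheme.fppfPrecoverage S)
        (cokernel g).presheaf).app (op U) 0 := hsub.elim _ _
  refine ⟨Presheaf.equalizerSieve (F := (cokernel g).presheaf) x 0,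
    Presheaf.equalizerSieve_mem _ (CategoryTheory.toSheafify (QuotSh.J Scheme.fppfPrecoverage S)
        (cokernel g).presheaf) x 0 hφ, fun V h hT => ?_⟩
  have h1 : (cokernel g).presheaf.map h.op x = 0 := hT.trans (map_zero _)
  have h2 : (cokernel.π g).app (op V) (N.val.presheaf.map h.op k) = 0 := by
    have nat := PresheafOfModules.naturality_apply (cokernel.π g) h.op k
    exact nat.trans ((congrArg (fun z => (cokernel g).presheaf.map h.op z) hx.symm).trans h1)
  obtain ⟨t, ht⟩ := Adeq2Coker.pcoker_exact g (op V) _ h2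
  exact ⟨t, (hgl _ t).symm.trans ht⟩

end Epi

section Main

theorem parasitic_middle (S : Scheme.{u}) (C : ShortComplex (BigSite.Mod Scheme.fppfPrecoverage S))
    (hC : C.Exact) (p₁ : Adeq.parasitic Scheme.fppfPrecoverage S C.X₁)
    (p₃ : Adeq.parasitic Scheme.fppfPrecoverage S C.X₃) :
    Adeq.parasitic Scheme.fppfPrecoverage S C.X₂ := by
  intro U hU
  have key : ∀ s : C.X₂.val.obj (op U), s = 0 := by
    intro s
    have h3 : C.g.val.app (op U) s = 0 := (p₃ U hU).elim _ _
    obtain ⟨k, hk⟩ := Adeq2Pull.ker_exact C.g (op U) s h3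
    have hepi : Epi (kernel.lift C.g C.f C.zero) := (ShortComplex.exact_iff_epi_kernel_lift C).mp hC
    obtain ⟨T, hT, hTk⟩ := epi_locally_surj (kernel.lift C.g C.f C.zero) U k
    obtain ⟨R₀, hR₀, hle⟩ := Adeq2Sheafify.fppf_refine U.left _
      ((GrothendieckTopology.mem_over_iff _ T).mp hT)
    obtain ⟨ι, W, f, rfl⟩ := Presieve.exists_eq_ofArrows R₀
    obtain ⟨hsurj, hP⟩ := (Scheme.ofArrows_mem_precoverage_iff _).mp hR₀
    obtain ⟨π, hπ⟩ : ∃ π : ∀ i, Over.mk (f i ≫ U.hom) ⟶ U, ∀ i, (π i).left = f i :=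
      ⟨fun i => Over.homMk (f i) rfl, fun i => rfl⟩
    have hTi : ∀ i, T (π i) := by
      intro i
      have h4 := (Sieve.overEquiv_iff T (f i)).mp (hle _ _ (Presieve.ofArrows.mk i))
      have h5 : π i = Over.homMk (f i) rfl := Over.OverMorphism.ext (hπ i)
      rw [h5]
      exact h4
    have hcov : Sieve.ofArrows (fun i => Over.mk (f i ≫ U.hom)) π ∈
        QuotSh.J Scheme.fppfPrecoverage S U := by
      rw [GrothendieckTopology.mem_over_iff, Sieve.overEquiv_ofArrows]
      apply Precoverage.generate_mem_toGrothendieck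
      have h6 : (fun i => (π i).left) = f := funext hπ
      rw [h6]
      exact hR₀
    refine Adeq2Base.sheaf_sep C.X₂ _ π hcov s (fun i => ?_)
    obtain ⟨t, ht⟩ := hTk _ _ (hTi i)
    have hflat : Flat (Over.mk (f i ≫ U.hom)).hom := by
      have h1 : Flat (f i) := (hP i).1
      have h2 : Flat U.hom := hU
      exact inferInstanceAs (Flat (f i ≫ U.hom))
    have ht0 : t = 0 := (p₁ _ hflat).elim _ _
    have hk0 : (kernel C.g).val.presheaf.map (π i).op k = 0 := by
      rw [← ht, ht0]
      exact ((kernel.lift C.g C.f C.zero).val.app (op (Over.mk (f i ≫ U.hom)))).hom.map_zero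
    have nat := PresheafOfModules.naturality_apply (kernel.ι C.g).val (π i).op k
    rw [← hk]
    refine nat.symm.trans ?_
    refine (congrArg (fun z => (kernel.ι C.g).val.app (op (Over.mk (f i ≫ U.hom))) z) hk0).trans ?_
    exact ((kernel.ι C.g).val.app (op (Over.mk (f i ≫ U.hom)))).hom.map_zero
  exact ⟨fun s s' => (key s).trans (key s').symm⟩

end Main

end Groth.Agent.Lib.Helper92.Adeq2Paras
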