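import Groth.Prelude.Def_Adeq2
import Mathlib
import Groth.Agent.Lib.Helper92.Adeq2Sheafify
import Groth.Agent.Lib.Helper92.MVFKernel

/-!
# Parasitic adequate modules: equivalent characterisations
-/

set_option autoImplicit false

universe u

open CategoryTheory Limits AlgebraicGeometry Opposite TensorProduct

namespace Groth.Agent.Lib.Helper92.Adeq2Tfae

open Groth.Agent.Lib.Helper92 Groth.Agent.Lib.Helper92.Adeq2Base

section Alg

/-- an adequate functor vanishing at `A` vanishes at every flat `A`-algebra -/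
theorem adequate_flat_zero (A : Type u) [CommRing A] (F : Adeq.MVF A) (hF : Adeq.adequate A F)
    (h0 : Subsingleton (F.obj (Adeq.pt (Adeq.algOf A A))))
    (B : Type u) [CommRing B] [Algebra A B] [Module.Flat A B] :
    Subsingleton (F.obj (Adeq.pt (Adeq.algOf A B))) := by
  obtain ⟨M₀, N₀, g, ⟨e⟩⟩ := hF
  obtain ⟨θ, hinj, hzero, hex⟩ :=
    MVFKernel.exists_pointwise_of_iso_kernel ((Adeq.underline A).map g) e
  have hg : Function.Injective g.hom := by
    rw [injective_iff_map_eq_zero]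
    intro m hm
    have h1 : ((Adeq.underline A).map g).app (Adeq.pt (Adeq.algOf A A)) ((1 : A) ⊗ₜ[A] m) = 0 := by
      change (g.hom.baseChange A) ((1 : A) ⊗ₜ[A] m) = 0
      rw [LinearMap.baseChange_tmul, hm, TensorProduct.tmul_zero]
    obtain ⟨x, hx⟩ := hex (Adeq.pt (Adeq.algOf A A)) _ h1
    have hx0 : x = 0 := h0.elim _ _
    rw [hx0] at hx
    have h2 : (1 : A) ⊗ₜ[A] m = (0 : A ⊗[A] M₀) :=
      hx.symm.trans (θ.app (Adeq.pt (Adeq.algOf A A))).hom.map_zero
    have h3 := congrArg (TensorProduct.lid A M₀) h2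
    rwa [TensorProduct.lid_tmul, one_smul, map_zero] at h3
  have hB : Function.Injective (g.hom.baseChange B) := by
    have h4 := Module.Flat.lTensor_preserves_injective_linearMap (M := B) g.hom hg
    intro x y hxy
    exact h4 hxy
  refine ⟨fun y y' => ?_⟩
  apply hinj (Adeq.pt (Adeq.algOf A B))
  apply hB
  exact (hzero (Adeq.pt (Adeq.algOf A B)) y).trans (hzero (Adeq.pt (Adeq.algOf A B)) y').symm

end Alg

section Sch

variable {S : Scheme.{u}} (M : BigSite.Mod Scheme.fppfPrecoverage S)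

theorem sub_of_iso {U V : Over S} (e : U ≅ V) (h : Subsingleton (M.val.obj (op U))) :
    Subsingleton (M.val.obj (op V)) := by
  refine ⟨fun x y => ?_⟩
  have h1 : M.val.presheaf.map e.hom.op x = M.val.presheaf.map e.hom.op y := h.elim _ _
  have h2 : M.val.presheaf.map e.inv.op (M.val.presheaf.map e.hom.op x) =
      M.val.presheaf.map e.inv.op (M.val.presheaf.map e.hom.op y) := by rw [h1]
  rw [← rho_comp, ← rho_comp, Iso.inv_hom_id, rho_id, rho_id] at h2
  exact h2

theorem sub_of_factor (hM : Adeq.adequateMod Scheme.fppfPrecoverage S M) {A B : CommRingCat.{u}}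
    (a : Spec A ⟶ S) [IsOpenImmersion a]
    (h0 : Subsingleton (M.val.obj (op ((Adeq.specOver a).obj (op (Adeq.algOf A A))))))
    (φ : A ⟶ B) (b : Spec B ⟶ S) (hb : Spec.map φ ≫ a = b) (hflat : Flat b) :
    Subsingleton (M.val.obj (op (Over.mk b))) := by
  let alg : Algebra A B := φ.hom.toAlgebra
  have hfl : Flat (Spec.map φ) :=
    MorphismProperty.of_postcomp (W := @Flat) (W' := @IsOpenImmersion) (Spec.map φ) a
      inferInstance (by rw [hb]; exact hflat)
  have hmf : Module.Flat A B := Flat.SpecMap_iff.mp hfl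
  have hF := Adeq2Main.main_fppf S M hM A a
  have h1 : Subsingleton (((Adeq.toMVF Scheme.fppfPrecoverage a).obj M).obj
      (Adeq.pt (Adeq.algOf A B))) := adequate_flat_zero A _ hF h0 B
  have e₁ : (Adeq.specOver a).obj (op (Adeq.algOf A B)) ≅ Over.mk b :=
    Over.isoMk (Iso.refl (Spec B)) ((Category.id_comp b).trans hb.symm)
  exact sub_of_iso M e₁ h1

theorem flat_zero (hM : Adeq.adequateMod Scheme.fppfPrecoverage S M) (ι : Type u)
    (U : ι → S.Opens) (hU : ∀ i, IsAffineOpen (U i)) (hcov : (⨆ i, U i) = ⊤)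
    (h0 : ∀ i, Subsingleton
      (BigSite.sectMod Scheme.fppfPrecoverage M ((BigSite.zarIncl S).obj (U i))))
    (V : Over S) (hV : Flat V.hom) : Subsingleton (BigSite.sectMod Scheme.fppfPrecoverage M V) := by
  obtain ⟨f, hf⟩ : ∃ f : V.left ⟶ S, f = V.hom := ⟨_, rfl⟩
  have hfl : Flat f := by rw [hf]; exact hV
  have hpt : ∀ v : V.left, ∃ (i : ι) (W : V.left.Opens), IsAffineOpen W ∧ v ∈ W ∧
      W ≤ f ⁻¹ᵁ (U i) := by
    intro v
    have h1 : f v ∈ (⨆ i, U i) := by rw [hcov]; trivial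
    obtain ⟨i, hi⟩ := TopologicalSpace.Opens.mem_iSup.mp h1
    obtain ⟨W, hW, hvW, hWU⟩ := exists_isAffineOpen_mem_and_subset (x := v) (U := f ⁻¹ᵁ (U i)) hi
    exact ⟨i, W, hW, hvW, hWU⟩
  choose i W hW hvW hWU using hpt
  -- the base objects
  have hbase : ∀ j, Subsingleton (M.val.obj (op ((Adeq.specOver (hU j).fromSpec).obj
      (op (Adeq.algOf Γ(S, U j) Γ(S, U j)))))) := by
    intro j
    have e₀ : (BigSite.zarIncl S).obj (U j) ≅ (Adeq.specOver (hU j).fromSpec).obj
        (op (Adeq.algOf Γ(S, U j) Γ(S, U j))) :=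
      Over.isoMk (hU j).isoSpec (by
        rw [Adeq2Sheafify.specOver_self_hom]
        exact (hU j).isoSpec_hom_fromSpec)
    exact sub_of_iso M e₀ (h0 j)
  have hsub : ∀ v, Subsingleton (M.val.obj (op (Over.mk ((hW v).fromSpec ≫ f)))) := by
    intro v
    refine sub_of_factor M hM (hU (i v)).fromSpec (hbase (i v))
      (f.appLE (U (i v)) (W v) (hWU v)) _
      ((hU (i v)).SpecMap_appLE_fromSpec f (hW v) (hWU v)) inferInstance
  obtain ⟨π, hπ⟩ : ∃ π : ∀ v, Over.mk ((hW v).fromSpec ≫ f) ⟶ V,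
      ∀ v, (π v).left = (hW v).fromSpec := by
    subst hf
    exact ⟨fun v => Over.homMk (hW v).fromSpec rfl, fun v => rfl⟩
  have hcovV : Sieve.ofArrows (fun v => Over.mk ((hW v).fromSpec ≫ f)) π ∈
      QuotSh.J Scheme.fppfPrecoverage S V := by
    rw [GrothendieckTopology.mem_over_iff, Sieve.overEquiv_ofArrows]
    apply Precoverage.generate_mem_toGrothendieck
    refine Scheme.zariskiPrecoverage_le_fppfPrecoverage _ ?_
    refine (Scheme.ofArrows_mem_precoverage_iff _).mpr ⟨fun x => ⟨x, ?_⟩, fun v => ?_⟩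
    · rw [hπ x, (hW x).range_fromSpec]
      exact hvW x
    · rw [hπ v]
      infer_instance
  refine ⟨fun x y => sub_eq_zero.mp ?_⟩
  exact sheaf_sep M _ π hcovV (x - y) (fun v => (hsub v).elim _ _)

end Sch

end Groth.Agent.Lib.Helper92.Adeq2Tfae
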