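import Groth.Prelude.Def_Adeq
import Mathlib
import Groth.Agent.Lib.Helper92.MVFKernel
import Groth.Agent.Lib.Helper92.AdeqColim
import Groth.Agent.S8741
import Groth.Agent.S8743
import Groth.Agent.S8744

/-!
# The coreflector onto adequate functors (Stacks 46.3, right adjoint of the inclusion)
-/

set_option autoImplicit false

universe u

open CategoryTheory Limits TensorProduct

namespace Groth.Agent.Lib.Helper92.AdeqAdj

noncomputable section

variable (A : Type u) [CommRing A]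

/-- standard generators: kernels of `underline` of a matrix -/
abbrev Gen : Type (u + 1) :=
  Σ (n k : ℕ), ((ULift.{u + 1} (Fin n) →₀ A) →ₗ[A] (ULift.{u + 1} (Fin k) →₀ A))

def Lg (γ : Gen A) : Adeq.MVF A :=
  kernel ((Adeq.underline A).map (ModuleCat.ofHom γ.2.2))

theorem Lg_adequate (γ : Gen A) : Adeq.adequate A (Lg A γ) :=
  ⟨_, _, ModuleCat.ofHom γ.2.2, ⟨Iso.refl _⟩⟩

theorem exists_free_equiv (P : ModuleCat.{u + 1} A) [Module.Finite A P] [Module.Free A P] :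
    ∃ n : ℕ, Nonempty ((P : Type (u + 1)) ≃ₗ[A] (ULift.{u + 1} (Fin n) →₀ A)) := by
  classical
  exact ⟨Fintype.card (Module.Free.ChooseBasisIndex A P),
    ⟨(Module.Free.chooseBasis A P).repr.trans
      (Finsupp.domLCongr ((Fintype.equivFin _).trans Equiv.ulift.symm))⟩⟩

theorem exists_gen_iso (L : Adeq.MVF A) (hL : Adeq.linAdequate A L) :
    ∃ γ : Gen A, Nonempty (L ≅ Lg A γ) := by
  obtain ⟨P, P', T, hP1, hP2, hP3, hP4, ⟨e⟩⟩ := hL
  have := hP1
  have := hP2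
  have := hP3
  have := hP4
  obtain ⟨n, ⟨eP⟩⟩ := exists_free_equiv A P
  obtain ⟨k, ⟨eP'⟩⟩ := exists_free_equiv A P'
  refine ⟨⟨n, k, eP'.toLinearMap ∘ₗ T.hom ∘ₗ eP.symm.toLinearMap⟩, ⟨e ≪≫ kernel.mapIso _ _
    ((Adeq.underline A).mapIso eP.toModuleIso) ((Adeq.underline A).mapIso eP'.toModuleIso) ?_⟩⟩
  rw [Functor.mapIso_hom, Functor.mapIso_hom, ← Functor.map_comp, ← Functor.map_comp]
  congr 1
  apply ModuleCat.hom_ext
  apply LinearMap.ext
  intro x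
  change eP' (T.hom x) = eP' (T.hom (eP.symm (eP x)))
  rw [LinearEquiv.symm_apply_apply]

theorem cover (G : Adeq.MVF A) (hG : Adeq.adequate A G) :
    ∃ (I : Type (u + 1)) (γ : I → Gen A) (fam : ∀ i, Lg A (γ i) ⟶ G), Epi (Sigma.desc fam) := by
  obtain ⟨I, L, hL, c, hc, π, hπ⟩ := Groth.Agent.S8741.result A G hG
  choose γ hγ using fun i => exists_gen_iso A (L i) (hL i)
  have e : ∀ i, L i ≅ Lg A (γ i) := fun i => (hγ i).some
  refine ⟨I, γ, fun i => (e i).inv ≫ c.inj i ≫ π, ?_⟩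
  constructor
  intro Z v w hvw
  have h1 : ∀ i, c.inj i ≫ π ≫ v = c.inj i ≫ π ≫ w := by
    intro i
    have h2 := congrArg (fun m => Sigma.ι (fun i => Lg A (γ i)) i ≫ m) hvw
    rw [← Category.assoc, ← Category.assoc, Sigma.ι_desc] at h2
    have h3 := congrArg (fun m => (e i).hom ≫ m) h2
    simpa using h3
  have h4 : π ≫ v = π ≫ w := Cofan.IsColimit.hom_ext hc _ _ h1
  exact (cancel_epi π).mp h4

variable (F : Adeq.MVF A)

abbrev Idx : Type (u + 1) := Σ γ : Gen A, (Lg A γ ⟶ F)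

def G0 : Adeq.MVF A := ∐ fun s : Idx A F => Lg A s.1

def a0 : G0 A F ⟶ F := Sigma.desc fun s => s.2

def inG0 (s : Idx A F) : Lg A s.1 ⟶ G0 A F := Sigma.ι (fun s : Idx A F => Lg A s.1) s

theorem inG0_a0 (s : Idx A F) : inG0 A F s ≫ a0 A F = s.2 := Sigma.ι_desc _ _

theorem G0_adequate : Adeq.adequate A (G0 A F) :=
  AdeqColim.adequate_sigma A _ (fun s => Lg_adequate A s.1)

/-- pointwise image families realized by adequate functors killed by `a0` -/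
def Real (σ : ∀ B : Adeq.Alg A, Set ((G0 A F).obj (Adeq.pt B))) : Prop :=
  ∃ (K : Adeq.MVF A) (_ : Adeq.adequate A K) (κ : K ⟶ G0 A F), κ ≫ a0 A F = 0 ∧
    ∀ B, Set.range (κ.app (Adeq.pt B)) = σ B

variable {A F}

theorem exists_killer :
    ∃ (Kt : Adeq.MVF A) (_ : Adeq.adequate A Kt) (κt : Kt ⟶ G0 A F), κt ≫ a0 A F = 0 ∧
      ∀ (K : Adeq.MVF A) (_ : Adeq.adequate A K) (κ : K ⟶ G0 A F),
        κ ≫ a0 A F = 0 → κ ≫ cokernel.π κt = 0 := by
  classical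
  have hreal : ∀ σ : {σ // Real A F σ}, ∃ (K : Adeq.MVF A) (_ : Adeq.adequate A K)
      (κ : K ⟶ G0 A F), κ ≫ a0 A F = 0 ∧ ∀ B, Set.range (κ.app (Adeq.pt B)) = σ.1 B :=
    fun σ => σ.2
  choose Kf hKf κf hκf0 hκfr using hreal
  obtain ⟨κt, hκt⟩ : ∃ κt : (∐ Kf) ⟶ G0 A F, ∀ σ, Sigma.ι Kf σ ≫ κt = κf σ :=
    ⟨Sigma.desc κf, fun σ => Sigma.ι_desc _ _⟩
  have hKt : Adeq.adequate A (∐ Kf) := AdeqColim.adequate_sigma A Kf hKf
  have hκta : κt ≫ a0 A F = 0 := by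
    apply Sigma.hom_ext
    intro σ
    rw [← Category.assoc, hκt, hκf0, comp_zero]
  refine ⟨∐ Kf, hKt, κt, hκta, ?_⟩
  intro K hK κ hκ
  ext X x
  obtain ⟨B, rfl⟩ : ∃ B : Adeq.Alg A, X = Adeq.pt B := ⟨X.unop.unop, rfl⟩
  obtain ⟨σ, hσ⟩ : ∃ σ : {σ // Real A F σ},
      σ.1 = fun B => Set.range (κ.app (Adeq.pt B)) :=
    ⟨⟨fun B => Set.range (κ.app (Adeq.pt B)), K, hK, κ, hκ, fun B => rfl⟩, rfl⟩
  have hx : κ.app (Adeq.pt B) x ∈ Set.range ((κf σ).app (Adeq.pt B)) := by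
    rw [hκfr σ B, hσ]
    exact ⟨x, rfl⟩
  obtain ⟨y, hy⟩ := hx
  change (cokernel.π κt).app (Adeq.pt B) (κ.app (Adeq.pt B) x) = 0
  rw [← hy]
  have h1 : (κf σ).app (Adeq.pt B) y =
      κt.app (Adeq.pt B) ((Sigma.ι Kf σ).app (Adeq.pt B) y) :=
    (congrArg (fun m => (m.app (Adeq.pt B)) y) (hκt σ)).symm
  rw [h1]
  exact MVFKernel.pointwise_comp_zero κt (cokernel.π κt) (cokernel.condition κt)
    (Adeq.pt B) _

theorem kernel_comp_zero_gen {C : Type*} [Category C] [Abelian C] {G₀ Q G F' : C}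
    (p : G₀ ⟶ Q) (d : G ⟶ Q) (ε : Q ⟶ F') (hd : d ≫ ε = 0) :
    kernel.ι (p ≫ cokernel.π d) ≫ (p ≫ ε) = 0 := by
  have h2 : kernel.ι (p ≫ cokernel.π d) ≫ (p ≫ ε) =
      (kernel.ι (p ≫ cokernel.π d) ≫ (p ≫ cokernel.π d)) ≫ cokernel.desc d ε hd := by
    rw [Category.assoc, Category.assoc, cokernel.π_desc]
  rw [h2, kernel.condition, zero_comp]

theorem kernel_comp_a0 {Kt : Adeq.MVF A} (κt : Kt ⟶ G0 A F)
    (ε : cokernel κt ⟶ F) (hε : cokernel.π κt ≫ ε = a0 A F)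
    {G : Adeq.MVF A} (d : G ⟶ cokernel κt) (hd : d ≫ ε = 0) :
    kernel.ι (cokernel.π κt ≫ cokernel.π d) ≫ a0 A F = 0 := by
  have key := kernel_comp_zero_gen (cokernel.π κt) d ε hd
  rw [hε] at key
  exact key

theorem eq_zero_of_kernel_killed {Kt : Adeq.MVF A} (κt : Kt ⟶ G0 A F)
    {G : Adeq.MVF A} (d : G ⟶ cokernel κt)
    (hq : kernel.ι (cokernel.π κt ≫ cokernel.π d) ≫ cokernel.π κt = 0) : d = 0 := by
  have hSk : (ShortComplex.mk (kernel.ι (cokernel.π κt ≫ cokernel.π d))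
      (cokernel.π κt ≫ cokernel.π d) (kernel.condition _)).Exact :=
    ShortComplex.exact_of_f_is_kernel _ (kernelIsKernel _)
  ext X x
  obtain ⟨B, rfl⟩ : ∃ B : Adeq.Alg A, X = Adeq.pt B := ⟨X.unop.unop, rfl⟩
  obtain ⟨y, hy⟩ := PresheafOfModules.surjective_of_epi (cokernel.π κt) (Adeq.pt B)
    (d.app (Adeq.pt B) x)
  have hy2 : (cokernel.π κt ≫ cokernel.π d).app (Adeq.pt B) y = 0 := by
    change (cokernel.π d).app (Adeq.pt B) ((cokernel.π κt).app (Adeq.pt B) y) = 0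
    rw [hy]
    exact MVFKernel.pointwise_comp_zero d (cokernel.π d) (cokernel.condition d) (Adeq.pt B) x
  obtain ⟨k, hk⟩ := MVFKernel.pointwise_exact_gen _ hSk (Adeq.pt B) y hy2
  have hk' : (kernel.ι (cokernel.π κt ≫ cokernel.π d)).app (Adeq.pt B) k = y := hk
  change d.app (Adeq.pt B) x = 0
  rw [← hy, ← hk']
  exact MVFKernel.pointwise_comp_zero (kernel.ι (cokernel.π κt ≫ cokernel.π d))
    (cokernel.π κt) hq (Adeq.pt B) k

theorem uniq0 {Kt : Adeq.MVF A} (hKt : Adeq.adequate A Kt) (κt : Kt ⟶ G0 A F)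
    (kill : ∀ (K : Adeq.MVF A) (_ : Adeq.adequate A K) (κ : K ⟶ G0 A F),
        κ ≫ a0 A F = 0 → κ ≫ cokernel.π κt = 0)
    (ε : cokernel κt ⟶ F) (hε : cokernel.π κt ≫ ε = a0 A F)
    {G : Adeq.MVF A} (hG : Adeq.adequate A G) (d : G ⟶ cokernel κt) (hd : d ≫ ε = 0) :
    d = 0 := by
  have hQ : Adeq.adequate A (cokernel κt) :=
    Groth.Agent.S8743.result A κt hKt (G0_adequate A F)
  have hQ' : Adeq.adequate A (cokernel d) := Groth.Agent.S8743.result A d hG hQ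
  have hK₁ : Adeq.adequate A (kernel (cokernel.π κt ≫ cokernel.π d)) :=
    Groth.Agent.S8744.result A (cokernel.π κt ≫ cokernel.π d) (G0_adequate A F) hQ'
  have hK₁a := kernel_comp_a0 κt ε hε d hd
  have hK₁q := kill (kernel (cokernel.π κt ≫ cokernel.π d)) hK₁
    (kernel.ι (cokernel.π κt ≫ cokernel.π d)) hK₁a
  exact eq_zero_of_kernel_killed κt d hK₁q

theorem exists_lift {Kt : Adeq.MVF A} (κt : Kt ⟶ G0 A F)
    (kill : ∀ (K : Adeq.MVF A) (_ : Adeq.adequate A K) (κ : K ⟶ G0 A F),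
        κ ≫ a0 A F = 0 → κ ≫ cokernel.π κt = 0)
    (ε : cokernel κt ⟶ F) (hε : cokernel.π κt ≫ ε = a0 A F)
    {G : Adeq.MVF A} (hG : Adeq.adequate A G) (h : G ⟶ F) :
    ∃ g : G ⟶ cokernel κt, g ≫ ε = h := by
  obtain ⟨I, γ, fam, hepi⟩ := cover A G hG
  obtain ⟨lam, hlam⟩ : ∃ lam : (∐ fun i => Lg A (γ i)) ⟶ G0 A F,
      ∀ i, Sigma.ι (fun i => Lg A (γ i)) i ≫ lam = inG0 A F ⟨γ i, fam i ≫ h⟩ :=
    ⟨Sigma.desc (fun i => inG0 A F ⟨γ i, fam i ≫ h⟩), fun i => Sigma.ι_desc _ _⟩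
  have hlam_a : lam ≫ a0 A F = Sigma.desc fam ≫ h := by
    apply Sigma.hom_ext
    intro i
    rw [← Category.assoc, hlam, inG0_a0, ← Category.assoc, Sigma.ι_desc]
  have hE : Adeq.adequate A (∐ fun i => Lg A (γ i)) :=
    AdeqColim.adequate_sigma A (fun i => Lg A (γ i)) (fun i => Lg_adequate A (γ i))
  have hKπ : Adeq.adequate A (kernel (Sigma.desc fam)) :=
    Groth.Agent.S8744.result A (Sigma.desc fam) hE hG
  have hKπa : (kernel.ι (Sigma.desc fam) ≫ lam) ≫ a0 A F = 0 := by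
    rw [Category.assoc, hlam_a, ← Category.assoc, kernel.condition, zero_comp]
  have hKπq : kernel.ι (Sigma.desc fam) ≫ (lam ≫ cokernel.π κt) = 0 := by
    rw [← Category.assoc]
    exact kill (kernel (Sigma.desc fam)) hKπ (kernel.ι (Sigma.desc fam) ≫ lam) hKπa
  refine ⟨Abelian.epiDesc (Sigma.desc fam) (lam ≫ cokernel.π κt) hKπq, ?_⟩
  apply (cancel_epi (Sigma.desc fam)).mp
  rw [← Category.assoc, Abelian.comp_epiDesc, Category.assoc, hε, hlam_a]

variable (A F)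

theorem exists_terminal :
    ∃ (Q : Adeq.MVF A) (_ : Adeq.adequate A Q) (ε : Q ⟶ F),
      ∀ (G : Adeq.MVF A) (_ : Adeq.adequate A G) (h : G ⟶ F), ∃! g : G ⟶ Q, g ≫ ε = h := by
  obtain ⟨Kt, hKt, κt, hκta, kill⟩ := exists_killer (A := A) (F := F)
  have hQ : Adeq.adequate A (cokernel κt) :=
    Groth.Agent.S8743.result A κt hKt (G0_adequate A F)
  obtain ⟨ε, hε⟩ : ∃ ε : cokernel κt ⟶ F, cokernel.π κt ≫ ε = a0 A F :=
    ⟨cokernel.desc κt (a0 A F) hκta, cokernel.π_desc _ _ _⟩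
  refine ⟨cokernel κt, hQ, ε, ?_⟩
  intro G hG h
  obtain ⟨g, hg⟩ := exists_lift κt kill ε hε hG h
  refine ⟨g, hg, ?_⟩
  intro g' hg'
  have hd := uniq0 hKt κt kill ε hε hG (g' - g)
    (by rw [Preadditive.sub_comp, hg', hg, sub_self])
  exact sub_eq_zero.mp hd

theorem isLeftAdjoint : (Adeq.adequate A).ι.IsLeftAdjoint := by
  have hterm : ∀ F : Adeq.MVF A, HasTerminal (CostructuredArrow (Adeq.adequate A).ι F) := by
    intro F
    obtain ⟨Q, hQ, ε, huniv⟩ := exists_terminal A F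
    obtain ⟨T, hT⟩ : ∃ T : CostructuredArrow (Adeq.adequate A).ι F,
        T = CostructuredArrow.mk (S := (Adeq.adequate A).ι)
          (Y := (⟨Q, hQ⟩ : (Adeq.adequate A).FullSubcategory)) ε := ⟨_, rfl⟩
    have hne : ∀ X : CostructuredArrow (Adeq.adequate A).ι F, Nonempty (X ⟶ T) := by
      intro X
      obtain ⟨g, hg, -⟩ := huniv X.left.obj X.left.property X.hom
      subst hT
      exact ⟨CostructuredArrow.homMk (ObjectProperty.homMk g) hg⟩
    have hss : ∀ X : CostructuredArrow (Adeq.adequate A).ι F, Subsingleton (X ⟶ T) := by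
      intro X
      obtain ⟨g, hg, huq⟩ := huniv X.left.obj X.left.property X.hom
      subst hT
      constructor
      intro m₁ m₂
      apply CostructuredArrow.hom_ext
      apply ObjectProperty.hom_ext
      have h1 : m₁.left.hom = g := huq _ (CostructuredArrow.w m₁)
      have h2 : m₂.left.hom = g := huq _ (CostructuredArrow.w m₂)
      rw [h1, h2]
    exact hasTerminal_of_unique T
  exact isLeftAdjoint_of_costructuredArrowTerminals _

end

end Groth.Agent.Lib.Helper92.AdeqAdj
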