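import Groth.Agent.Lib.Helper44.AdeqTF
import Mathlib

/-!
# Column exactness for tangent modules of a short exact sequence of module-valued functors
-/

set_option autoImplicit false

universe u

open CategoryTheory

namespace Groth.Agent.Lib.Helper92.AdeqTFCol

open AdeqTF Groth.Agent.Lib.Helper44

variable {A : Type u} [CommRing A] (B : Adeq.Alg A)

theorem inl_fst (N : ModuleCat.{u} B) : AdeqTF.inl B N ≫ AdeqTF.fst B N = 𝟙 B := by
  apply CommAlgCat.hom_ext
  refine AlgHom.ext fun x => ?_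
  change TrivSqZeroExt.fst (TrivSqZeroExt.inl x : TrivSqZeroExt (B : Type u) N) = x
  exact TrivSqZeroExt.fst_inl _ x

theorem map_fst_map_inl (F : Adeq.MVF A) (N : ModuleCat.{u} B) (y : F.obj (Adeq.pt B)) :
    F.map (Adeq.ptHom (AdeqTF.fst B N)) (F.map (Adeq.ptHom (AdeqTF.inl B N)) y) = y := by
  have e : Adeq.ptHom (AdeqTF.inl B N) ≫ Adeq.ptHom (AdeqTF.fst B N) = 𝟙 _ := by
    have := congrArg Adeq.ptHom (inl_fst B N)
    exact this
  rw [← F.map_comp_apply, F.congr_map_apply e, F.map_id]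
  rfl

section nat

variable {F G : Adeq.MVF A} (α : F ⟶ G)

/-- The map on tangent modules induced by a morphism of module-valued functors. -/
noncomputable def colMap (N : ModuleCat.{u} B) : AdeqTF.tangent B N F →+ AdeqTF.tangent B N G :=
  ((α.app (Adeq.pt (AdeqTF.ext B N))).hom.toAddMonoidHom.comp (AdeqTF.tangent B N F).subtype).codRestrict
    (AdeqTF.tangent B N G)
    (fun x => by
      have hx0 : F.map (Adeq.ptHom (AdeqTF.fst B N)) x.1 = 0 := x.2
      change G.map (Adeq.ptHom (AdeqTF.fst B N)) (α.app _ x.1) = 0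
      rw [← PresheafOfModules.naturality_apply, hx0]
      exact map_zero (α.app _).hom)

theorem colMap_coe (N : ModuleCat.{u} B) (x : AdeqTF.tangent B N F) :
    ((colMap B α N x : AdeqTF.tangent B N G) : G.obj (Adeq.pt (AdeqTF.ext B N))) =
      α.app (Adeq.pt (AdeqTF.ext B N)) x.1 := rfl

theorem colMap_tangentMap {N N' : ModuleCat.{u} B} (g : N ⟶ N') (x : AdeqTF.tangent B N F) :
    colMap B α N' (AdeqTF.tangentMap B F g x) = AdeqTF.tangentMap B G g (colMap B α N x) := by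
  apply Subtype.ext
  rw [colMap_coe, tangentMap_coe, tangentMap_coe, colMap_coe]
  exact PresheafOfModules.naturality_apply α _ _

end nat

theorem pointwise_exact_gen {C₀ : Type*} [Category C₀] {R : C₀ᵒᵖ ⥤ RingCat.{u}}
    (S : ShortComplex (PresheafOfModules.{u+1} R)) (hS : S.Exact) (X : C₀ᵒᵖ) (y : S.X₂.obj X)
    (hy : S.g.app X y = 0) : ∃ x : S.X₁.obj X, S.f.app X x = y := by
  have h1 : (S.map (PresheafOfModules.evaluation.{u+1} R X)).Exact := hS.map _
  rw [ShortComplex.moduleCat_exact_iff] at h1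
  exact h1 y hy

section exact

variable (C : ShortComplex (Adeq.MVF A)) (hC : C.ShortExact)

include hC

theorem pointwise_exact (X : (Adeq.Alg A)ᵒᵖᵒᵖ) (y : C.X₂.obj X) (hy : C.g.app X y = 0) :
    ∃ x : C.X₁.obj X, C.f.app X x = y := by
  exact pointwise_exact_gen C hC.exact X y hy

omit hC in
theorem pointwise_zero (X : (Adeq.Alg A)ᵒᵖᵒᵖ) (x : C.X₁.obj X) :
    C.g.app X (C.f.app X x) = 0 := by
  have h0 : C.f.app X ≫ C.g.app X = 0 := by
    rw [← PresheafOfModules.comp_app, C.zero]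
    rfl
  have := congrArg (fun φ => φ.hom x) h0
  simpa using this

theorem colMap_f_injective (N : ModuleCat.{u} B) : Function.Injective (colMap B C.f N) := by
  have := hC.mono_f
  intro x y h
  apply Subtype.ext
  have h' : C.f.app (Adeq.pt (AdeqTF.ext B N)) x.1 = C.f.app (Adeq.pt (AdeqTF.ext B N)) y.1 :=
    congrArg Subtype.val h
  exact PresheafOfModules.injective_of_mono C.f _ h'

omit hC in
theorem colMap_comp_zero (N : ModuleCat.{u} B) (f : AdeqTF.tangent B N C.X₁) :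
    colMap B C.g N (colMap B C.f N f) = 0 := by
  apply Subtype.ext
  rw [colMap_coe, colMap_coe]
  exact pointwise_zero C _ _

theorem colMap_exact (N : ModuleCat.{u} B) (g : AdeqTF.tangent B N C.X₂)
    (hg : colMap B C.g N g = 0) : ∃ f, colMap B C.f N f = g := by
  have := hC.mono_f
  have hg' : C.g.app (Adeq.pt (AdeqTF.ext B N)) g.1 = 0 := congrArg Subtype.val hg
  obtain ⟨f₀, hf₀⟩ := pointwise_exact C hC _ g.1 hg'
  have hg0 : C.X₂.map (Adeq.ptHom (AdeqTF.fst B N)) g.1 = 0 := g.2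
  have hf0 : C.X₁.map (Adeq.ptHom (AdeqTF.fst B N)) f₀ = 0 := by
    apply PresheafOfModules.injective_of_mono C.f (Adeq.pt B)
    rw [PresheafOfModules.naturality_apply, hf₀, hg0]
    exact (map_zero (C.f.app _).hom).symm
  exact ⟨⟨f₀, hf0⟩, Subtype.ext hf₀⟩

theorem colMap_g_surjective (N : ModuleCat.{u} B) : Function.Surjective (colMap B C.g N) := by
  have := hC.epi_g
  intro h
  obtain ⟨g, hg⟩ := PresheafOfModules.surjective_of_epi C.g (Adeq.pt (AdeqTF.ext B N)) h.1
  have hh : C.X₃.map (Adeq.ptHom (AdeqTF.fst B N)) h.1 = 0 := h.2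
  obtain ⟨g₀, hg₀⟩ : ∃ g₀ : C.X₂.obj (Adeq.pt B), g₀ = C.X₂.map (Adeq.ptHom (AdeqTF.fst B N)) g :=
    ⟨_, rfl⟩
  have hβg₀ : C.g.app (Adeq.pt B) g₀ = 0 := by
    rw [hg₀, PresheafOfModules.naturality_apply, hg, hh]
    rfl
  obtain ⟨y, hy⟩ : ∃ y : C.X₂.obj (Adeq.pt (AdeqTF.ext B N)),
      y = C.X₂.map (Adeq.ptHom (AdeqTF.inl B N)) g₀ := ⟨_, rfl⟩
  have hfy : C.X₂.map (Adeq.ptHom (AdeqTF.fst B N)) y = g₀ := by
    rw [hy]; exact map_fst_map_inl B C.X₂ N g₀
  have hβy : C.g.app (Adeq.pt (AdeqTF.ext B N)) y = 0 := by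
    rw [hy, PresheafOfModules.naturality_apply, hβg₀]
    exact map_zero (C.X₃.map _).hom
  have hmem : C.X₂.map (Adeq.ptHom (AdeqTF.fst B N)) (g - y) = 0 := by
    rw [map_sub, hfy, ← hg₀]
    exact sub_self _
  refine ⟨⟨g - y, hmem⟩, Subtype.ext ?_⟩
  rw [colMap_coe]
  change C.g.app (Adeq.pt (AdeqTF.ext B N)) (g - y) = h.1
  rw [map_sub, hβy, hg, sub_zero]

end exact

end Groth.Agent.Lib.Helper92.AdeqTFCol
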