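import Mathlib

/-!
# Tensor products commute with filtered colimits (elementwise form) and related helpers
-/

set_option autoImplicit false

universe u v w

open CategoryTheory Limits TensorProduct

namespace Groth.Agent.Lib.Helper92.FiltTensor

section Common

variable {J : Type*} [Category J] [IsFiltered J]

theorem exists_common {j : J} {T : Type*} (s : Finset T) (P : T → ∀ k : J, (j ⟶ k) → Prop)
    (hP : ∀ (t : T) (k : J) (f : j ⟶ k) (l : J) (g : k ⟶ l), P t k f → P t l (f ≫ g))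
    (hex : ∀ t ∈ s, ∃ (k : J) (f : j ⟶ k), P t k f) :
    ∃ (k : J) (f : j ⟶ k), ∀ t ∈ s, P t k f := by
  classical
  induction s using Finset.induction_on with
  | empty => exact ⟨j, 𝟙 j, fun t ht => absurd ht (Finset.notMem_empty t)⟩
  | insert a s ha ih =>
    obtain ⟨k, f, hf⟩ := ih (fun t ht => hex t (Finset.mem_insert_of_mem ht))
    obtain ⟨ka, fa, hfa⟩ := hex a (Finset.mem_insert_self a s)
    obtain ⟨l, g, ga, -⟩ := IsFilteredOrEmpty.cocone_objs k ka
    obtain ⟨m, h, hcond⟩ := IsFilteredOrEmpty.cocone_maps (f ≫ g) (fa ≫ ga)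
    refine ⟨m, (f ≫ g) ≫ h, ?_⟩
    intro t ht
    rcases Finset.mem_insert.mp ht with hta | hts
    · subst hta
      rw [hcond, Category.assoc]
      exact hP _ _ _ _ _ hfa
    · rw [Category.assoc]
      exact hP _ _ _ _ _ (hf t hts)

end Common

section Tensor

variable {A : Type u} [CommRing A]

theorem comm_lr {X₁ X₂ P₁ P₂ : Type*} [AddCommGroup X₁] [Module A X₁] [AddCommGroup X₂]
    [Module A X₂] [AddCommGroup P₁] [Module A P₁] [AddCommGroup P₂] [Module A P₂]
    (g : X₁ →ₗ[A] X₂) (p : P₁ →ₗ[A] P₂) (t : X₁ ⊗[A] P₁) :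
    p.lTensor X₂ (g.rTensor P₁ t) = g.rTensor P₂ (p.lTensor X₁ t) := by
  induction t using TensorProduct.induction_on with
  | zero => simp
  | tmul x q =>
    rw [LinearMap.rTensor_tmul, LinearMap.lTensor_tmul, LinearMap.lTensor_tmul,
      LinearMap.rTensor_tmul]
  | add a b ha hb => rw [map_add, map_add, ha, hb, map_add, map_add]

theorem fsr_natural {X₁ X₂ : Type*} [AddCommGroup X₁] [Module A X₁] [AddCommGroup X₂]
    [Module A X₂] (T : Type*) [DecidableEq T] (g : X₁ →ₗ[A] X₂) (z : X₁ ⊗[A] (T →₀ A)) (i : T) :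
    finsuppScalarRight A A X₂ T (g.rTensor (T →₀ A) z) i =
      g (finsuppScalarRight A A X₁ T z i) := by
  induction z using TensorProduct.induction_on with
  | zero => simp
  | tmul x p =>
    rw [LinearMap.rTensor_tmul, finsuppScalarRight_apply_tmul_apply,
      finsuppScalarRight_apply_tmul_apply, map_smul]
  | add z₁ z₂ h₁ h₂ =>
    rw [map_add, map_add, Finsupp.add_apply, h₁, h₂, map_add, Finsupp.add_apply, map_add]

variable {J : Type*} [Category J] [IsFiltered J]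
variable {X : J → Type w} [∀ j, AddCommGroup (X j)] [∀ j, Module A (X j)]
variable {Y : Type w} [AddCommGroup Y] [Module A Y]
variable (φ : ∀ ⦃j k : J⦄, (j ⟶ k) → (X j →ₗ[A] X k)) (ι : ∀ j, X j →ₗ[A] Y)

theorem rTensor_ι_φ (M : Type v) [AddCommGroup M] [Module A M]
    (hι : ∀ ⦃j k : J⦄ (f : j ⟶ k) (x : X j), ι k (φ f x) = ι j x)
    {j k : J} (f : j ⟶ k) (z : X j ⊗[A] M) :
    (ι k).rTensor M ((φ f).rTensor M z) = (ι j).rTensor M z := by
  have h : (ι k).comp (φ f) = ι j := LinearMap.ext (hι f)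
  rw [← LinearMap.rTensor_comp_apply, h]

theorem rTensor_φ_comp (M : Type v) [AddCommGroup M] [Module A M]
    (hcomp : ∀ ⦃j k l : J⦄ (f : j ⟶ k) (g : k ⟶ l) (x : X j), φ (f ≫ g) x = φ g (φ f x))
    {j k l : J} (f : j ⟶ k) (g : k ⟶ l) (z : X j ⊗[A] M) :
    (φ (f ≫ g)).rTensor M z = (φ g).rTensor M ((φ f).rTensor M z) := by
  have h : φ (f ≫ g) = (φ g).comp (φ f) := LinearMap.ext (hcomp f g)
  rw [h, LinearMap.rTensor_comp_apply]

theorem tensor_surj (M : Type v) [AddCommGroup M] [Module A M]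
    (hι : ∀ ⦃j k : J⦄ (f : j ⟶ k) (x : X j), ι k (φ f x) = ι j x)
    (ha : ∀ y : Y, ∃ (j : J) (x : X j), ι j x = y) (y : Y ⊗[A] M) :
    ∃ (j : J) (z : X j ⊗[A] M), (ι j).rTensor M z = y := by
  have : Nonempty J := IsFiltered.nonempty
  induction y using TensorProduct.induction_on with
  | zero => exact ⟨Classical.arbitrary J, 0, map_zero _⟩
  | tmul b m =>
    obtain ⟨j, x, rfl⟩ := ha b
    exact ⟨j, x ⊗ₜ m, LinearMap.rTensor_tmul _ _ _ _⟩
  | add y₁ y₂ h₁ h₂ =>
    obtain ⟨j₁, z₁, rfl⟩ := h₁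
    obtain ⟨j₂, z₂, rfl⟩ := h₂
    obtain ⟨l, g₁, g₂, -⟩ := IsFilteredOrEmpty.cocone_objs j₁ j₂
    refine ⟨l, (φ g₁).rTensor M z₁ + (φ g₂).rTensor M z₂, ?_⟩
    rw [map_add, rTensor_ι_φ φ ι M hι, rTensor_ι_φ φ ι M hι]

theorem free_inj (T : Type*)
    (hcomp : ∀ ⦃j k l : J⦄ (f : j ⟶ k) (g : k ⟶ l) (x : X j), φ (f ≫ g) x = φ g (φ f x))
    (hb : ∀ (j : J) (x : X j), ι j x = 0 → ∃ (k : J) (f : j ⟶ k), φ f x = 0)
    {j : J} (z : X j ⊗[A] (T →₀ A)) (hz : (ι j).rTensor (T →₀ A) z = 0) :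
    ∃ (k : J) (f : j ⟶ k), (φ f).rTensor (T →₀ A) z = 0 := by
  classical
  have hcoord : ∀ i : T, ι j (finsuppScalarRight A A (X j) T z i) = 0 := by
    intro i
    rw [← fsr_natural T (ι j) z i, hz, map_zero, Finsupp.zero_apply]
  obtain ⟨k, f, hf⟩ := exists_common (j := j) (finsuppScalarRight A A (X j) T z).support
      (fun i k f => φ f (finsuppScalarRight A A (X j) T z i) = 0)
      (fun i k f l g h => by rw [hcomp, h, map_zero])
      (fun i _ => hb j _ (hcoord i))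
  refine ⟨k, f, ?_⟩
  apply (finsuppScalarRight A A (X k) T).injective
  rw [map_zero]
  ext i
  rw [fsr_natural, Finsupp.zero_apply]
  by_cases hi : i ∈ (finsuppScalarRight A A (X j) T z).support
  · exact hf i hi
  · rw [Finsupp.notMem_support_iff.mp hi, map_zero]

theorem tensor_inj (M : Type v) [AddCommGroup M] [Module A M]
    (hcomp : ∀ ⦃j k l : J⦄ (f : j ⟶ k) (g : k ⟶ l) (x : X j), φ (f ≫ g) x = φ g (φ f x))
    (hι : ∀ ⦃j k : J⦄ (f : j ⟶ k) (x : X j), ι k (φ f x) = ι j x)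
    (ha : ∀ y : Y, ∃ (j : J) (x : X j), ι j x = y)
    (hb : ∀ (j : J) (x : X j), ι j x = 0 → ∃ (k : J) (f : j ⟶ k), φ f x = 0)
    {j : J} (z : X j ⊗[A] M) (hz : (ι j).rTensor M z = 0) :
    ∃ (k : J) (f : j ⟶ k), (φ f).rTensor M z = 0 := by
  obtain ⟨p0, hp0⟩ : ∃ p0 : (M →₀ A) →ₗ[A] M, Function.Surjective p0 :=
    ⟨Finsupp.linearCombination A id, Finsupp.linearCombination_id_surjective A M⟩
  obtain ⟨K, instK1, instK2, i, hex⟩ : ∃ (K : Type (max u v)) (_ : AddCommGroup K) (_ : Module A K)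
      (i : K →ₗ[A] (M →₀ A)), Function.Exact i p0 :=
    ⟨LinearMap.ker p0, inferInstance, inferInstance, (LinearMap.ker p0).subtype,
      LinearMap.exact_subtype_ker_map p0⟩
  have hexY := lTensor_exact Y hex hp0
  obtain ⟨z0, hz0⟩ := LinearMap.lTensor_surjective (X j) hp0 z
  have h1 : p0.lTensor Y ((ι j).rTensor (M →₀ A) z0) = 0 := by
    rw [comm_lr, hz0, hz]
  obtain ⟨w, hw⟩ := (hexY _).mp h1
  obtain ⟨k, w', hw'⟩ := tensor_surj φ ι K hι ha w
  obtain ⟨l, f, g, -⟩ := IsFilteredOrEmpty.cocone_objs j k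
  obtain ⟨e, he⟩ : ∃ e : X l ⊗[A] (M →₀ A), e = (φ f).rTensor (M →₀ A) z0 -
      i.lTensor (X l) ((φ g).rTensor K w') := ⟨_, rfl⟩
  have he0 : (ι l).rTensor (M →₀ A) e = 0 := by
    rw [he, map_sub, rTensor_ι_φ φ ι _ hι, ← comm_lr, rTensor_ι_φ φ ι _ hι, hw', hw, sub_self]
  obtain ⟨m, h, hh⟩ := free_inj φ ι M hcomp hb e he0
  refine ⟨m, f ≫ h, ?_⟩
  have hzf : (φ f).rTensor (M →₀ A) z0 = e + i.lTensor (X l) ((φ g).rTensor K w') := by
    rw [he, sub_add_cancel]
  have key : (φ (f ≫ h)).rTensor M z =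
      p0.lTensor (X m) ((φ h).rTensor (M →₀ A) ((φ f).rTensor (M →₀ A) z0)) := by
    rw [← hz0, ← comm_lr, rTensor_φ_comp φ _ hcomp]
  rw [key, hzf, map_add, hh, zero_add, ← comm_lr]
  exact (lTensor_exact (X m) hex hp0).apply_apply_eq_zero _

end Tensor

section Cat

theorem ab_isColimit_of_concrete {J : Type u} [SmallCategory J] [IsFiltered J]
    (K : J ⥤ AddCommGrpCat.{u + 1}) (t : Cocone K)
    (hsurj : ∀ x : t.pt, ∃ (j : J) (y : K.obj j), t.ι.app j y = x)
    (hinj : ∀ (j : J) (y : K.obj j), t.ι.app j y = 0 → ∃ (k : J) (f : j ⟶ k), K.map f y = 0) :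
    Nonempty (IsColimit t) := by
  have : PreservesFilteredColimitsOfSize.{u, u} (forget AddCommGrpCat.{u + 1}) :=
    preservesFilteredColimitsOfSize_shrink.{u, u + 1, u, u + 1} (forget AddCommGrpCat.{u + 1})
  have : PreservesColimitsOfShape J (forget AddCommGrpCat.{u + 1}) :=
    PreservesFilteredColimitsOfSize.preserves_filtered_colimits J
  have : ReflectsColimit K (forget AddCommGrpCat.{u + 1}) :=
    reflectsColimit_of_reflectsIsomorphisms K (forget AddCommGrpCat.{u + 1})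
  have hT : IsColimit ((forget AddCommGrpCat.{u + 1}).mapCocone t) := by
    refine Types.FilteredColimit.isColimitOf' (K ⋙ forget AddCommGrpCat.{u + 1}) _ ?_ ?_
    · intro x
      obtain ⟨j, y, hy⟩ := hsurj x
      exact ⟨j, y, hy.symm⟩
    · intro i x y hxy
      obtain ⟨x', hx'⟩ : ∃ x' : K.obj i, x' = x := ⟨x, rfl⟩
      obtain ⟨y', hy'⟩ : ∃ y' : K.obj i, y' = y := ⟨y, rfl⟩
      subst hx' hy'
      have hxy' : t.ι.app i x' = t.ι.app i y' := hxy
      have h0 : t.ι.app i (x' - y') = 0 := by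
        rw [map_sub, hxy', sub_self]
      obtain ⟨k, f, hf⟩ := hinj i (x' - y') h0
      refine ⟨k, f, ?_⟩
      have h1 : K.map f x' - K.map f y' = 0 := by
        rw [← map_sub]
        exact hf
      exact sub_eq_zero.mp h1
  exact ⟨isColimitOfReflects (forget AddCommGrpCat.{u + 1}) hT⟩

/-- the cocone leg with its codomain displayed as `c.pt` -/
abbrev ιH {A : Type u} [CommRing A] {J : Type u} [SmallCategory J]
    (D : J ⥤ CommAlgCat.{u} A) (c : Cocone D) (j : J) : D.obj j ⟶ c.pt := c.ι.app j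

theorem commAlg_colimit_facts (A : Type u) [CommRing A] {J : Type u} [SmallCategory J]
    [IsFiltered J] (D : J ⥤ CommAlgCat.{u} A) (c : Cocone D) (hc : IsColimit c) :
    (∀ b : c.pt, ∃ (j : J) (d : D.obj j), (ιH D c j).hom.toLinearMap d = b) ∧
    (∀ (j : J) (d : D.obj j), (ιH D c j).hom.toLinearMap d = 0 →
      ∃ (k : J) (f : j ⟶ k), (D.map f).hom.toLinearMap d = 0) := by
  have : IsConnected J := IsFiltered.isConnected J
  have : PreservesColimitsOfShape J (forget CommRingCat.{u}) :=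
    PreservesFilteredColimitsOfSize.preserves_filtered_colimits J
  have h1 : IsColimit ((commAlgCatEquivUnder (CommRingCat.of A)).functor.mapCocone c) :=
    isColimitOfPreserves _ hc
  have h2 := isColimitOfPreserves (Under.forget (CommRingCat.of A)) h1
  have h3 := isColimitOfPreserves (forget CommRingCat.{u}) h2
  constructor
  · intro b
    obtain ⟨j, d, hd⟩ := Types.jointly_surjective_of_isColimit h3 b
    exact ⟨j, d, hd⟩
  · intro j d hd
    have h4 : (ιH D c j).hom.toLinearMap d = (ιH D c j).hom.toLinearMap 0 := by rw [hd, map_zero]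
    obtain ⟨k, f, hf⟩ :=
      (Types.FilteredColimit.isColimit_eq_iff' h3 (i := j) d (0 : D.obj j)).mp h4
    refine ⟨k, f, ?_⟩
    have h5 : (D.map f).hom.toLinearMap d = (D.map f).hom.toLinearMap 0 := hf
    rw [h5, map_zero]

end Cat

section Alg

variable (A : Type u) [CommRing A] {J : Type u} [SmallCategory J] [IsFiltered J]
  (D : J ⥤ CommAlgCat.{u} A) (c : Cocone D)

theorem alg_hcomp ⦃j k l : J⦄ (f : j ⟶ k) (g : k ⟶ l) (x : D.obj j) :
    (D.map (f ≫ g)).hom.toLinearMap x =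
      (D.map g).hom.toLinearMap ((D.map f).hom.toLinearMap x) := by
  rw [Functor.map_comp]
  rfl

theorem alg_hι ⦃j k : J⦄ (f : j ⟶ k) (x : D.obj j) :
    (ιH D c k).hom.toLinearMap ((D.map f).hom.toLinearMap x) =
      (ιH D c j).hom.toLinearMap x :=
  congrArg (fun m => m.hom x) (c.w f)

theorem alg_tensor_ι (P : Type v) [AddCommGroup P] [Module A P] ⦃j k : J⦄ (f : j ⟶ k)
    (z : (D.obj j : Type u) ⊗[A] P) :
    (ιH D c k).hom.toLinearMap.rTensor P ((D.map f).hom.toLinearMap.rTensor P z) =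
      (ιH D c j).hom.toLinearMap.rTensor P z :=
  rTensor_ι_φ (A := A) (X := fun j => (D.obj j : Type u)) (Y := (c.pt : Type u))
    (fun j k f => (D.map f).hom.toLinearMap) (fun j => (ιH D c j).hom.toLinearMap) P
    (alg_hι A D c) f z

theorem alg_tensor_surj (hc : IsColimit c) (P : Type v) [AddCommGroup P] [Module A P]
    (y : (c.pt : Type u) ⊗[A] P) :
    ∃ (j : J) (z : (D.obj j : Type u) ⊗[A] P),
      (ιH D c j).hom.toLinearMap.rTensor P z = y :=
  tensor_surj (A := A) (X := fun j => (D.obj j : Type u)) (Y := (c.pt : Type u))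
    (fun j k f => (D.map f).hom.toLinearMap) (fun j => (ιH D c j).hom.toLinearMap) P
    (alg_hι A D c) (commAlg_colimit_facts A D c hc).1 y

theorem alg_tensor_inj (hc : IsColimit c) (P : Type v) [AddCommGroup P] [Module A P] (j : J)
    (z : (D.obj j : Type u) ⊗[A] P) (hz : (ιH D c j).hom.toLinearMap.rTensor P z = 0) :
    ∃ (k : J) (f : j ⟶ k), (D.map f).hom.toLinearMap.rTensor P z = 0 :=
  tensor_inj (A := A) (X := fun j => (D.obj j : Type u)) (Y := (c.pt : Type u))
    (fun j k f => (D.map f).hom.toLinearMap) (fun j => (ιH D c j).hom.toLinearMap) P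
    (alg_hcomp A D) (alg_hι A D c) (commAlg_colimit_facts A D c hc).1
    (commAlg_colimit_facts A D c hc).2 z hz

end Alg

end Groth.Agent.Lib.Helper92.FiltTensor
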