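import Mathlib

/-!
Locally Noetherian topological spaces and quasi-compactness of morphisms of schemes.
-/

namespace Groth.Agent.Lib.Helper92

open TopologicalSpace AlgebraicGeometry CategoryTheory

universe u

/-- In a space where every point has a Noetherian open neighbourhood, every compact subset is a
Noetherian subspace. -/
theorem noetherianSpace_of_isCompact {α : Type*} [TopologicalSpace α]
    (h : ∀ x : α, ∃ U : Opens α, x ∈ U ∧ NoetherianSpace U) {K : Set α} (hK : IsCompact K) :
    NoetherianSpace K := by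
  choose U hxU hU using h
  obtain ⟨s, hs⟩ := hK.elim_finite_subcover (fun x => (U x : Set α)) (fun x => (U x).isOpen)
    (fun x _ => Set.mem_iUnion.mpr ⟨x, hxU x⟩)
  have hN : NoetherianSpace (⋃ x : s, (U x : Set α)) :=
    NoetherianSpace.iUnion (fun x : s => (U x : Set α)) (hf := fun x => hU x)
  refine NoetherianSpace.of_subset (W := ⋃ x : s, (U x : Set α)) ?_
  intro y hy
  have := hs hy
  simp only [Set.mem_iUnion] at this ⊢
  obtain ⟨x, hx, hy⟩ := this
  exact ⟨⟨x, hx⟩, hy⟩

/-- Subsets of compact sets are compact in a locally Noetherian space. -/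
theorem isCompact_of_subset_isCompact {α : Type*} [TopologicalSpace α]
    (h : ∀ x : α, ∃ U : Opens α, x ∈ U ∧ NoetherianSpace U) {K t : Set α} (hK : IsCompact K)
    (ht : t ⊆ K) : IsCompact t :=
  (noetherianSpace_set_iff K).mp (noetherianSpace_of_isCompact h hK) t ht

/-- A compact subset of a scheme is contained in a compact open subset. -/
theorem exists_isCompact_open_superset (Z : Scheme.{u}) {K : Set Z} (hK : IsCompact K) :
    ∃ W : Z.Opens, IsCompact (W : Set Z) ∧ K ⊆ W := by
  obtain ⟨s, hs⟩ := hK.elim_finite_subcover (fun W : Z.affineOpens => ((W : Z.Opens) : Set Z))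
    (fun W => (W : Z.Opens).isOpen) (by
      intro z _
      obtain ⟨_, ⟨W, hW, rfl⟩, hzW, -⟩ :=
        Z.isBasis_affineOpens.exists_subset_of_mem_open (Set.mem_univ z) isOpen_univ
      exact Set.mem_iUnion.mpr ⟨⟨W, hW⟩, hzW⟩)
  refine ⟨⨆ W ∈ s, (W : Z.Opens), ?_, ?_⟩
  · simp only [Opens.coe_iSup]
    exact s.finite_toSet.isCompact_biUnion (fun W _ => W.2.isCompact)
  · simpa only [Opens.coe_iSup] using hs

/-- If `f ≫ g` is quasi-compact and the source is a locally Noetherian space then `f` is
quasi-compact. -/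
theorem quasiCompact_of_comp_of_locallyNoetherian {X Y Z : Scheme.{u}} (f : X ⟶ Y) (g : Y ⟶ Z)
    [QuasiCompact (f ≫ g)]
    (hX : ∀ x : X, ∃ U : X.Opens, x ∈ U ∧ NoetherianSpace U) : QuasiCompact f := by
  rw [quasiCompact_iff_forall_isAffineOpen]
  intro V hV
  obtain ⟨W, hWc, hW⟩ := exists_isCompact_open_superset Z (hV.isCompact.image g.continuous)
  have hK : IsCompact ((f ≫ g) ⁻¹ᵁ W : Set X) :=
    QuasiCompact.isCompact_preimage (f := f ≫ g) _ W.isOpen hWc
  refine isCompact_of_subset_isCompact hX hK ?_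
  intro x hx
  exact hW ⟨f x, hx, rfl⟩

/-- A locally Noetherian scheme is a locally Noetherian space. -/
theorem locallyNoetherianSpace_of_isLocallyNoetherian (X : Scheme.{u}) [IsLocallyNoetherian X] :
    ∀ x : X, ∃ U : X.Opens, x ∈ U ∧ NoetherianSpace U := by
  intro x
  obtain ⟨_, ⟨U, hU, rfl⟩, hxU, -⟩ :=
    X.isBasis_affineOpens.exists_subset_of_mem_open (Set.mem_univ x) isOpen_univ
  have : IsNoetherianRing Γ(X, U) := IsLocallyNoetherian.component_noetherian ⟨U, hU⟩
  exact ⟨U, hxU, noetherianSpace_of_isAffineOpen U hU⟩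

end Groth.Agent.Lib.Helper92
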