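import Groth.Prelude.Def_Adeq
import Mathlib

/-!
# Free module-valued functor on a representable functor (one universe up)
-/

set_option autoImplicit false

universe u

open CategoryTheory Opposite

namespace Groth.Agent.Lib.Helper92.MVFFree

variable {A : Type u} [CommRing A]

/-- index type -/
abbrev Idx (D B' : Adeq.Alg A) : Type (u + 1) := ULift.{u + 1} (D ⟶ B')

/-- the transition map as an additive hom -/
noncomputable def freeMapAdd (D : Adeq.Alg A) {B₁ B₂ : Adeq.Alg A} (f : B₁ ⟶ B₂) :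
    (Idx D B₁ →₀ (B₁ : Type u)) →+ (Idx D B₂ →₀ (B₂ : Type u)) :=
  (Finsupp.mapDomain.addMonoidHom (fun φ : Idx D B₁ => (ULift.up (φ.down ≫ f) : Idx D B₂))).comp
    (Finsupp.mapRange.addMonoidHom f.hom.toLinearMap.toAddMonoidHom)

theorem freeMapAdd_single (D : Adeq.Alg A) {B₁ B₂ : Adeq.Alg A} (f : B₁ ⟶ B₂) (φ : Idx D B₁)
    (r : (B₁ : Type u)) :
    freeMapAdd D f (Finsupp.single φ r) = Finsupp.single (ULift.up (φ.down ≫ f)) (f.hom r) := by
  simp [freeMapAdd]

theorem freeMapAdd_id (D B₁ : Adeq.Alg A) : freeMapAdd D (𝟙 B₁) = AddMonoidHom.id _ := by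
  apply Finsupp.addHom_ext
  intro φ r
  rw [freeMapAdd_single]
  simp

theorem freeMapAdd_comp (D : Adeq.Alg A) {B₁ B₂ B₃ : Adeq.Alg A} (f : B₁ ⟶ B₂) (g : B₂ ⟶ B₃) :
    freeMapAdd D (f ≫ g) = (freeMapAdd D g).comp (freeMapAdd D f) := by
  apply Finsupp.addHom_ext
  intro φ r
  rw [AddMonoidHom.comp_apply, freeMapAdd_single, freeMapAdd_single, freeMapAdd_single]
  simp

theorem freeMapAdd_smul (D : Adeq.Alg A) {B₁ B₂ : Adeq.Alg A} (f : B₁ ⟶ B₂) (r : (B₁ : Type u))
    (m : Idx D B₁ →₀ (B₁ : Type u)) :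
    freeMapAdd D f (r • m) = f.hom r • freeMapAdd D f m := by
  induction m using Finsupp.induction_linear with
  | zero => simp
  | add x y hx hy => rw [smul_add, map_add, map_add, smul_add, hx, hy]
  | single φ s =>
    rw [Finsupp.smul_single, freeMapAdd_single, freeMapAdd_single, Finsupp.smul_single]
    simp

/-- underlying abelian presheaf -/
noncomputable abbrev freeAb (D : Adeq.Alg A) : (Adeq.Alg A)ᵒᵖᵒᵖ ⥤ Ab.{u + 1} where
  obj X := AddCommGrpCat.of (Idx D X.unop.unop →₀ (X.unop.unop : Type u))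
  map {X Y} f := AddCommGrpCat.ofHom (freeMapAdd D f.unop.unop)
  map_id X := by
    change AddCommGrpCat.ofHom (freeMapAdd D (𝟙 X.unop.unop)) = _
    rw [freeMapAdd_id]
    rfl
  map_comp {X Y Z} f g := by
    change AddCommGrpCat.ofHom (freeMapAdd D (f.unop.unop ≫ g.unop.unop)) = _
    rw [freeMapAdd_comp]
    rfl

/-- The free module-valued functor on `Hom(D, -)`. -/
noncomputable def freeObj (D : Adeq.Alg A) : Adeq.MVF A :=
  PresheafOfModules.ofPresheaf (freeAb D) (fun X Y f r m => freeMapAdd_smul D f.unop.unop r m)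

/-- the generator -/
noncomputable def gen (D : Adeq.Alg A) : (freeObj D).obj (Adeq.pt D) :=
  (Finsupp.single (ULift.up (𝟙 D)) 1 : Idx D D →₀ (D : Type u))

theorem freeObj_map_apply (D : Adeq.Alg A) {B₁ B₂ : Adeq.Alg A} (f : B₁ ⟶ B₂)
    (x : Idx D B₁ →₀ (B₁ : Type u)) :
    (freeObj D).map (Adeq.ptHom f) (x : (freeObj D).obj (Adeq.pt B₁)) = freeMapAdd D f x := rfl

section desc

variable {D : Adeq.Alg A} (M : Adeq.MVF A) (m : M.obj (Adeq.pt D))

/-- the value of the descended map at `B'`. -/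
noncomputable def descLin (B' : Adeq.Alg A) :
    (Idx D B' →₀ (B' : Type u)) →ₗ[(B' : Type u)] M.obj (Adeq.pt B') :=
  Finsupp.linearCombination (B' : Type u)
    (fun φ : Idx D B' => (M.map (Adeq.ptHom φ.down) m : M.obj (Adeq.pt B')))

theorem descLin_single (B' : Adeq.Alg A) (φ : Idx D B') (r : (B' : Type u)) :
    descLin M m B' (Finsupp.single φ r) = r • (M.map (Adeq.ptHom φ.down) m : M.obj (Adeq.pt B')) := by
  unfold descLin
  exact Finsupp.linearCombination_single _ _ _

theorem descLin_nat {B₁ B₂ : Adeq.Alg A} (f : B₁ ⟶ B₂) (x : Idx D B₁ →₀ (B₁ : Type u)) :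
    descLin M m B₂ (freeMapAdd D f x) = M.map (Adeq.ptHom f) (descLin M m B₁ x) := by
  induction x using Finsupp.induction_linear with
  | zero =>
    rw [map_zero, map_zero]
    exact (map_zero (M.map (Adeq.ptHom f)).hom).symm
  | add x y hx hy =>
    rw [map_add, map_add, hx, hy, map_add]
    exact ((M.map (Adeq.ptHom f)).hom.map_add (descLin M m B₁ x) (descLin M m B₁ y)).symm
  | single φ r =>
    rw [freeMapAdd_single, descLin_single, descLin_single]
    have e1 : M.map (Adeq.ptHom f) (r • (M.map (Adeq.ptHom φ.down) m : M.obj (Adeq.pt B₁)))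
        = (f.hom r : (B₂ : Type u)) • (M.map (Adeq.ptHom f) (M.map (Adeq.ptHom φ.down) m) :
            M.obj (Adeq.pt B₂)) :=
      PresheafOfModules.map_smul M (Adeq.ptHom f) r _
    rw [e1]
    have e2 : Adeq.ptHom (φ.down ≫ f) = Adeq.ptHom φ.down ≫ Adeq.ptHom f := rfl
    rw [M.congr_map_apply e2, M.map_comp_apply]
    rfl

/-- the morphism `freeObj D ⟶ M` attached to `m ∈ M(D)`. -/
noncomputable def desc : freeObj D ⟶ M :=
  PresheafOfModules.homMk (M₁ := freeObj D) (M₂ := M)
    { app := fun X => AddCommGrpCat.ofHom (descLin M m X.unop.unop).toAddMonoidHom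
      naturality := fun {X Y} f => by
        ext x
        exact descLin_nat M m f.unop.unop x }
    (fun X r x => (descLin M m X.unop.unop).map_smul r x)

theorem desc_app_apply (B' : Adeq.Alg A) (x : Idx D B' →₀ (B' : Type u)) :
    (desc M m).app (Adeq.pt B') (x : (freeObj D).obj (Adeq.pt B')) = descLin M m B' x := rfl

theorem desc_gen : (desc M m).app (Adeq.pt D) (gen D) = m := by
  unfold gen
  rw [desc_app_apply, descLin_single]
  have e : Adeq.ptHom (𝟙 D) = 𝟙 (Adeq.pt D) := rfl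
  have h1 : (M.map (Adeq.ptHom (𝟙 D)) m : M.obj (Adeq.pt D)) = m := by
    rw [M.congr_map_apply e, M.map_id]
    rfl
  refine Eq.trans ?_ h1
  exact one_smul _ _

end desc

section jmap

variable {D D' : Adeq.Alg A} (q : D ⟶ D')

/-- precomposition with `q` on indices -/
noncomputable def jLin (B' : Adeq.Alg A) :
    (Idx D' B' →₀ (B' : Type u)) →ₗ[(B' : Type u)] (Idx D B' →₀ (B' : Type u)) :=
  Finsupp.lmapDomain (B' : Type u) (B' : Type u)
    (fun φ : Idx D' B' => (ULift.up (q ≫ φ.down) : Idx D B'))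

theorem jLin_single (B' : Adeq.Alg A) (φ : Idx D' B') (r : (B' : Type u)) :
    jLin q B' (Finsupp.single φ r) = Finsupp.single (ULift.up (q ≫ φ.down)) r := by
  unfold jLin
  rw [Finsupp.lmapDomain_apply, Finsupp.mapDomain_single]

theorem jLin_nat {B₁ B₂ : Adeq.Alg A} (f : B₁ ⟶ B₂) (x : Idx D' B₁ →₀ (B₁ : Type u)) :
    jLin q B₂ (freeMapAdd D' f x) = freeMapAdd D f (jLin q B₁ x) := by
  induction x using Finsupp.induction_linear with
  | zero => rw [map_zero, map_zero, map_zero, map_zero]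
  | add x y hx hy => rw [map_add, map_add, map_add, map_add, hx, hy]
  | single φ r =>
    rw [freeMapAdd_single, jLin_single, jLin_single, freeMapAdd_single]
    simp

theorem jLin_injective (hq : ∀ (B' : Adeq.Alg A) (φ₁ φ₂ : D' ⟶ B'), q ≫ φ₁ = q ≫ φ₂ → φ₁ = φ₂)
    (B' : Adeq.Alg A) : Function.Injective (jLin q B') := by
  unfold jLin
  intro x y h
  rw [Finsupp.lmapDomain_apply, Finsupp.lmapDomain_apply] at h
  refine Finsupp.mapDomain_injective ?_ h
  intro φ₁ φ₂ h12
  have := congrArg ULift.down h12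
  exact ULift.ext _ _ (hq B' _ _ this)

/-- the morphism `freeObj D' ⟶ freeObj D` induced by `q : D ⟶ D'`. -/
noncomputable def jmap : freeObj D' ⟶ freeObj D :=
  PresheafOfModules.homMk (M₁ := freeObj D') (M₂ := freeObj D)
    { app := fun X => AddCommGrpCat.ofHom (jLin q X.unop.unop).toAddMonoidHom
      naturality := fun {X Y} f => by
        ext x
        exact jLin_nat q f.unop.unop x }
    (fun X r x => (jLin q X.unop.unop).map_smul r x)

theorem jmap_app_apply (B' : Adeq.Alg A) (x : Idx D' B' →₀ (B' : Type u)) :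
    (jmap q).app (Adeq.pt B') (x : (freeObj D').obj (Adeq.pt B')) = jLin q B' x := rfl

theorem jmap_mono (hq : ∀ (B' : Adeq.Alg A) (φ₁ φ₂ : D' ⟶ B'), q ≫ φ₁ = q ≫ φ₂ → φ₁ = φ₂) :
    Mono (jmap q) := by
  apply PresheafOfModules.mono_of_injective
  intro X x y h
  exact jLin_injective q hq X.unop.unop h

theorem jmap_gen : (jmap q).app (Adeq.pt D') (gen D') =
    (freeObj D).map (Adeq.ptHom q) (gen D) := by
  unfold gen
  rw [jmap_app_apply, freeObj_map_apply, jLin_single, freeMapAdd_single]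
  simp <;> rfl

end jmap

/-- Key consequence: an injective module-valued functor sends "epi" maps to surjections. -/
theorem surjective_of_injective (I : Adeq.MVF A) [Injective I] {D D' : Adeq.Alg A} (q : D ⟶ D')
    (hq : ∀ (B' : Adeq.Alg A) (φ₁ φ₂ : D' ⟶ B'), q ≫ φ₁ = q ≫ φ₂ → φ₁ = φ₂)
    (m' : I.obj (Adeq.pt D')) : ∃ m : I.obj (Adeq.pt D), I.map (Adeq.ptHom q) m = m' := by
  have hmono := jmap_mono q hq
  let ψ' := desc I m'
  let ψ := Injective.factorThru ψ' (jmap q)
  have hψ : jmap q ≫ ψ = ψ' := Injective.comp_factorThru ψ' (jmap q)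
  refine ⟨ψ.app (Adeq.pt D) (gen D), ?_⟩
  rw [← PresheafOfModules.naturality_apply, ← jmap_gen]
  have h2 : ψ.app (Adeq.pt D') ((jmap q).app (Adeq.pt D') (gen D')) = ψ'.app (Adeq.pt D') (gen D') := by
    rw [← hψ]
    rfl
  rw [h2]
  exact desc_gen I m'

end Groth.Agent.Lib.Helper92.MVFFree
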