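import Mathlib

/-!
Spreading out equality of two morphisms from equality of germs on finitely many generators.
-/

namespace Groth.Agent.Lib.Helper92

open AlgebraicGeometry CategoryTheory

universe u

theorem ringHom_ext_of_adjoin {A B C : Type*} [CommRing A] [CommRing B] [CommRing C]
    (a : A →+* B) (t : Finset B)
    (ht : @Algebra.adjoin A B _ _ a.toAlgebra (t : Set B) = ⊤)
    (φ ψ : B →+* C) (h0 : φ.comp a = ψ.comp a) (h1 : ∀ b ∈ t, φ b = ψ b) : φ = ψ := by
  let _ := a.toAlgebra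
  let _ : Algebra A C := (φ.comp a).toAlgebra
  have hc : ∀ r : A, ψ (a r) = φ (a r) := fun r => (congr($h0 r)).symm
  let φ' : B →ₐ[A] C := { φ with commutes' := fun r => rfl }
  let ψ' : B →ₐ[A] C := { ψ with commutes' := hc }
  have : φ' = ψ' := AlgHom.ext_of_adjoin_eq_top ht (fun b hb => h1 b hb)
  ext b
  exact congr($this b)

/-- Two `S`-morphisms `f g : X ⟶ Y` agree on an open neighbourhood of `x` as soon as, for an affine
open `V` of `Y` of finite type over an affine open `W` of `S` and an open `U₀ ∋ x` mapped into `V`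
by both, the germs at `x` of `f^♯ b` and `g^♯ b` agree for all `b ∈ Γ(Y, V)`. -/
theorem exists_open_eq_of_germ_eq
    {X Y S : Scheme.{u}} (sX : X ⟶ S) (sY : Y ⟶ S)
    (f g : X ⟶ Y) (hf : f ≫ sY = sX) (hg : g ≫ sY = sX) {x : X}
    (W : S.Opens) (V : Y.Opens) (hV : IsAffineOpen V) (iVW : V ≤ sY ⁻¹ᵁ W)
    (hft : (sY.appLE W V iVW).hom.FiniteType)
    (U₀ : X.Opens) (hU₀f : U₀ ≤ f ⁻¹ᵁ V) (hU₀g : U₀ ≤ g ⁻¹ᵁ V) (hxU₀ : x ∈ U₀)
    (hgerm : f.appLE V U₀ hU₀f ≫ X.presheaf.germ U₀ x hxU₀ =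
      g.appLE V U₀ hU₀g ≫ X.presheaf.germ U₀ x hxU₀) :
    ∃ U : X.Opens, x ∈ U ∧ U.ι ≫ f = U.ι ≫ g := by
  obtain ⟨t, ht⟩ := hft
  have key : ∀ t' : Finset Γ(Y, V), ∃ (O : X.Opens) (hO : O ≤ U₀), x ∈ O ∧
      ∀ b ∈ t', f.appLE V O (hO.trans hU₀f) b = g.appLE V O (hO.trans hU₀g) b := by
    intro t'
    classical
    induction t' using Finset.induction_on with
    | empty => exact ⟨U₀, le_rfl, hxU₀, fun b hb => absurd hb (Finset.notMem_empty b)⟩
    | insert b t' hb ih =>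
      obtain ⟨O, hO, hxO, hOt⟩ := ih
      have hb : X.presheaf.germ U₀ x hxU₀ (f.appLE V U₀ hU₀f b) =
          X.presheaf.germ U₀ x hxU₀ (g.appLE V U₀ hU₀g b) := by
        simpa only [CommRingCat.comp_apply] using congr($hgerm b)
      obtain ⟨O', hxO', i₁, i₂, h⟩ := TopCat.Presheaf.germ_eq _ x hxU₀ hxU₀ _ _ hb
      refine ⟨O ⊓ O', inf_le_left.trans hO, ⟨hxO, hxO'⟩, ?_⟩
      intro b' hb'
      rw [Finset.mem_insert] at hb'
      rcases hb' with rfl | hb'
      · have h1 : f.appLE V (O ⊓ O') ((inf_le_left.trans hO).trans hU₀f) =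
            f.appLE V U₀ hU₀f ≫ X.presheaf.map (homOfLE (inf_le_right.trans i₁.le)).op := by
          rw [Scheme.Hom.appLE_map]
        have h2 : g.appLE V (O ⊓ O') ((inf_le_left.trans hO).trans hU₀g) =
            g.appLE V U₀ hU₀g ≫ X.presheaf.map (homOfLE (inf_le_right.trans i₁.le)).op := by
          rw [Scheme.Hom.appLE_map]
        rw [h1, h2]
        have : (homOfLE (inf_le_right.trans i₁.le) : O ⊓ O' ⟶ U₀) =
            (homOfLE inf_le_right : O ⊓ O' ⟶ O') ≫ i₁ := rfl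
        rw [this, op_comp, Functor.map_comp]
        simp only [CommRingCat.comp_apply]
        have hi : i₁ = i₂ := Subsingleton.elim _ _
        rw [h, hi]
      · have h1 : f.appLE V (O ⊓ O') ((inf_le_left.trans hO).trans hU₀f) =
            f.appLE V O (hO.trans hU₀f) ≫ X.presheaf.map (homOfLE inf_le_left).op := by
          rw [Scheme.Hom.appLE_map]
        have h2 : g.appLE V (O ⊓ O') ((inf_le_left.trans hO).trans hU₀g) =
            g.appLE V O (hO.trans hU₀g) ≫ X.presheaf.map (homOfLE inf_le_left).op := by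
          rw [Scheme.Hom.appLE_map]
        rw [h1, h2]
        simp only [CommRingCat.comp_apply]
        rw [hOt b' hb']
  obtain ⟨O, hO, hxO, hOt⟩ := key t
  refine ⟨O, hxO, ?_⟩
  have happ : f.appLE V O (hO.trans hU₀f) = g.appLE V O (hO.trans hU₀g) := by
    ext1
    refine ringHom_ext_of_adjoin (sY.appLE W V iVW).hom t ht _ _ ?_ hOt
    have e1 := Scheme.Hom.appLE_comp_appLE f sY W V O iVW (hO.trans hU₀f)
    have e2 := Scheme.Hom.appLE_comp_appLE g sY W V O iVW (hO.trans hU₀g)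
    rw [← CommRingCat.hom_comp, ← CommRingCat.hom_comp, e1, e2]
    simp only [hf, hg]
  rw [← Scheme.Hom.resLE_comp_ι _ (hO.trans hU₀f),
    ← Scheme.Hom.resLE_comp_ι _ (hO.trans hU₀g)]
  congr 1
  have : IsAffine V := hV
  rw [← cancel_mono V.toScheme.isoSpec.hom]
  simp only [Scheme.isoSpec, asIso_hom, Scheme.toSpecΓ_naturality,
    Scheme.Hom.app_eq_appLE, Scheme.Hom.resLE_appLE]
  have gen : ∀ (U₁ : X.Opens) (V₁ : Y.Opens) (eU : O = U₁) (eV : V = V₁),
      f.appLE V₁ U₁ (eU ▸ eV ▸ hO.trans hU₀f) =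
        g.appLE V₁ U₁ (eU ▸ eV ▸ hO.trans hU₀g) := by
    rintro _ _ rfl rfl
    exact happ
  congr 2
  apply gen <;> simp

end Groth.Agent.Lib.Helper92
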